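import Groth.Prelude.Def_Curv2
import Groth.Agent.Fdesc.LocGen

/-!
# Modules generated by sections
-/

set_option autoImplicit false
universe u
open CategoryTheory CategoryTheory.Limits AlgebraicGeometry TopologicalSpace

namespace Groth.Agent.VarietyA.Dim1GlobGen

open Groth.Agent.Fdesc.LocGen

variable {X : Scheme.{u}}

/-- Two morphisms out of an invertible module which agree on sections whose generating loci cover `X`
are equal. -/
theorem hom_ext_of_genLocus {ι : Type*} {L N : X.Modules} (f : ι → (Coh.structureModule X ⟶ L))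
    (hf : ∀ x : X, ∃ i, x ∈ CohB1.genLocus L (f i)) (φ ψ : L ⟶ N) (h : ∀ i, f i ≫ φ = f i ≫ ψ) :
    φ = ψ := by
  apply Scheme.Modules.hom_ext
  intro W
  ext x
  refine res_ext N (fun i => W ⊓ CohB1.genLocus L (f i)) (fun i => inf_le_left) ?_ fun i => ?_
  · intro y hy
    obtain ⟨i, hi⟩ := hf y
    exact Opens.mem_iSup.mpr ⟨i, hy, hi⟩
  · rw [← app_res, ← app_res]
    have hgen : IsGen (sec (f i) (W ⊓ CohB1.genLocus L (f i))) := by
      rw [← res_sec (f i) (inf_le_right : W ⊓ CohB1.genLocus L (f i) ≤ _)]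
      exact (isGen_sec_genLocus (f i)).res _
    obtain ⟨r, hr⟩ := hgen.exists_eq (res L (inf_le_left : W ⊓ CohB1.genLocus L (f i) ≤ W) x)
    rw [hr, Scheme.Modules.Hom.app_smul, Scheme.Modules.Hom.app_smul, ← sec_comp, ← sec_comp, h i]

/-- An (invertible) module with sections whose generating loci cover `X` is globally generated. -/
theorem isGloballyGenerated {ι : Type u} {L : X.Modules} (f : ι → (Coh.structureModule X ⟶ L))
    (hf : ∀ x : X, ∃ i, x ∈ CohB1.genLocus L (f i)) : Curv2.IsGloballyGenerated L := by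
  let p : (SheafOfModules.free ι : X.Modules) ⟶ L :=
    (Sigma.desc f : (∐ fun _ : ι => Coh.structureModule X) ⟶ L)
  refine ⟨ι, p, ⟨fun {N} φ ψ h => hom_ext_of_genLocus f hf φ ψ fun i => ?_⟩⟩
  have h1 : (Sigma.desc f : (∐ fun _ : ι => Coh.structureModule X) ⟶ L) ≫ φ =
    (Sigma.desc f : (∐ fun _ : ι => Coh.structureModule X) ⟶ L) ≫ ψ := h
  have h2 := congrArg (fun t => Sigma.ι (fun _ : ι => Coh.structureModule X) i ≫ t) h1
  simpa using h2

end Groth.Agent.VarietyA.Dim1GlobGen
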