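import Mathlib.AlgebraicGeometry.Morphisms.Separated
import Mathlib.AlgebraicGeometry.Restrict
import Mathlib.Algebra.Category.Ring.Constructions

/-!
# Sections over the intersection of two affine opens of a separated scheme
-/

set_option autoImplicit false

universe u

open CategoryTheory CategoryTheory.Limits AlgebraicGeometry TopologicalSpace Opposite

namespace Groth.Agent.VarietyA.Dim1Sep

variable {X : Scheme.{u}}

/-- On a separated scheme, sections over the intersection of two affine opens are generated, as a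
ring, by the restrictions of the sections over the two opens. -/
theorem closure_eq_top [X.IsSeparated] {U V : X.Opens} (hU : IsAffineOpen U) (hV : IsAffineOpen V) :
    Subring.closure (Set.range (X.presheaf.map (homOfLE (inf_le_left : U ⊓ V ≤ U)).op) ∪
      Set.range (X.presheaf.map (homOfLE (inf_le_right : U ⊓ V ≤ V)).op)) = ⊤ := by
  have hUa : IsAffine U.toScheme := hU
  have hVa : IsAffine V.toScheme := hV
  let t := terminal.from X
  let δ : (U ⊓ V).toScheme ⟶ pullback (U.ι ≫ t) (V.ι ≫ t) :=
    (isPullback_opens_inf U V).isoPullback.hom ≫ pullback.mapDesc U.ι V.ι t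
  have hδ : IsClosedImmersion δ := inferInstance
  have hd1 : pullback.mapDesc U.ι V.ι t ≫ pullback.fst _ _ = pullback.fst _ _ := by
    simp only [pullback.mapDesc, pullback.map, pullback.lift_fst, Category.comp_id]
  have hd2 : pullback.mapDesc U.ι V.ι t ≫ pullback.snd _ _ = pullback.snd _ _ := by
    simp only [pullback.mapDesc, pullback.map, pullback.lift_snd, Category.comp_id]
  have hδ1 : δ ≫ pullback.fst _ _ = X.homOfLE inf_le_left := by
    dsimp only [δ]
    rw [Category.assoc, hd1, IsPullback.isoPullback_hom_fst]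
  have hδ2 : δ ≫ pullback.snd _ _ = X.homOfLE inf_le_right := by
    dsimp only [δ]
    rw [Category.assoc, hd2, IsPullback.isoPullback_hom_snd]
  have hsurj : Function.Surjective δ.appTop := δ.app_surjective ⊤ (isAffineOpen_top _)
  have hpo := isPushout_appTop_of_isPullback (IsPullback.of_hasPullback (U.ι ≫ t) (V.ι ≫ t))
  have hcl := CommRingCat.closure_range_union_range_eq_top_of_isPushout hpo
  let ρ : Γ(pullback (U.ι ≫ t) (V.ι ≫ t), ⊤) ⟶ Γ(X, U ⊓ V) := δ.appTop ≫ (U ⊓ V).topIso.hom
  have hρ : Function.Surjective ρ.hom := by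
    intro s
    obtain ⟨p, hp⟩ := hsurj ((U ⊓ V).topIso.inv s)
    refine ⟨p, ?_⟩
    change (U ⊓ V).topIso.hom (δ.appTop p) = s
    rw [hp]
    exact congr($((U ⊓ V).topIso.inv_hom_id) s)
  have e1 : (pullback.fst (U.ι ≫ t) (V.ι ≫ t)).appTop ≫ ρ =
      U.topIso.hom ≫ X.presheaf.map (homOfLE (inf_le_left : U ⊓ V ≤ U)).op := by
    rw [← Category.assoc, ← Scheme.Hom.comp_appTop, hδ1, Scheme.homOfLE_appTop]
    refine (X.presheaf.map_comp _ _).symm.trans (Eq.trans ?_ (X.presheaf.map_comp
      (eqToIso (Scheme.Opens.ι_image_top _).symm).op.hom (homOfLE _).op))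
    rfl
  have e2 : (pullback.snd (U.ι ≫ t) (V.ι ≫ t)).appTop ≫ ρ =
      V.topIso.hom ≫ X.presheaf.map (homOfLE (inf_le_right : U ⊓ V ≤ V)).op := by
    rw [← Category.assoc, ← Scheme.Hom.comp_appTop, hδ2, Scheme.homOfLE_appTop]
    refine (X.presheaf.map_comp _ _).symm.trans (Eq.trans ?_ (X.presheaf.map_comp
      (eqToIso (Scheme.Opens.ι_image_top _).symm).op.hom (homOfLE _).op))
    rfl
  rw [eq_top_iff]
  rintro s -
  obtain ⟨p, rfl⟩ := hρ s
  have hp : p ∈ (⊤ : Subring Γ(pullback (U.ι ≫ t) (V.ι ≫ t), ⊤)) := trivial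
  rw [← hcl] at hp
  induction hp using Subring.closure_induction with
  | mem x hx =>
    rcases hx with ⟨a, rfl⟩ | ⟨a, rfl⟩
    · refine Subring.subset_closure (Or.inl ⟨U.topIso.hom a, ?_⟩)
      exact (congr($e1 a)).symm
    · refine Subring.subset_closure (Or.inr ⟨V.topIso.hom a, ?_⟩)
      exact (congr($e2 a)).symm
  | zero => rw [map_zero]; exact zero_mem _
  | one => rw [map_one]; exact one_mem _
  | add x y _ _ hx hy => rw [map_add]; exact add_mem hx hy
  | neg x _ hx => rw [map_neg]; exact neg_mem hx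
  | mul x y _ _ hx hy => rw [map_mul]; exact mul_mem hx hy

end Groth.Agent.VarietyA.Dim1Sep
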