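import Groth.Agent.VarietyA.Dim1Top
import Groth.Agent.VarietyA.Dim1Sep
import Groth.Agent.Fdesc.LocGen

/-!
# The pole function on a separated Noetherian scheme of dimension one
-/

set_option autoImplicit false

universe u v w

open CategoryTheory CategoryTheory.Limits AlgebraicGeometry TopologicalSpace Opposite

namespace Groth.Agent.VarietyA.Dim1Pole

open Groth.Agent.Fdesc.LocGen Dim1Top

/-- Finite sums from ring generation. -/
theorem exists_finset_sum {A : Type u} {B : Type v} {C : Type w} [CommRing A] [CommRing B]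
    [CommRing C] (α : A →+* C) (β : B →+* C)
    (h : Subring.closure (Set.range α ∪ Set.range β) = ⊤) (c : C) :
    ∃ (s : Finset A) (b : A → B), c = ∑ x ∈ s, α x * β (b x) := by
  let := β.toAlgebra
  have hβ : ∀ b, algebraMap B C b = β b := fun _ => rfl
  have h1 : c ∈ Algebra.adjoin B (Set.range α) := by
    have hc : c ∈ (⊤ : Subring C) := trivial
    rw [← h] at hc
    have hle : Subring.closure (Set.range α ∪ Set.range β) ≤
        (Algebra.adjoin B (Set.range α)).toSubring := by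
      rw [Subring.closure_le]
      rintro x (hx | ⟨b, rfl⟩)
      · exact Algebra.subset_adjoin hx
      · rw [← hβ]
        exact (Algebra.adjoin B (Set.range α)).algebraMap_mem b
    exact hle hc
  rw [← Subalgebra.mem_toSubmodule, Algebra.adjoin_eq_span] at h1
  have h2 : ((Submonoid.closure (Set.range α) : Submonoid C) : Set C) = Set.range α := by
    have : Set.range α = ((MonoidHom.mrange (α : A →* C)) : Set C) := by
      ext; simp
    rw [this, Submonoid.closure_eq]
  rw [h2, Finsupp.mem_span_range_iff_exists_finsupp] at h1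
  obtain ⟨f, hf⟩ := h1
  refine ⟨f.support, f, ?_⟩
  rw [← hf, Finsupp.sum]
  refine Finset.sum_congr rfl fun x _ => ?_
  rw [Algebra.smul_def, hβ, mul_comm]

variable {X : Scheme.{u}}

section Point

variable {U : X.Opens} {z : X} (G : GoodNbhd U z)

/-- the local ring -/
abbrev Bz (z : X) : Type u := X.presheaf.stalk z

/-- germ map -/
noncomputable abbrev gm (V : X.Opens) (hz : z ∈ V) : Γ(X, V) →+* Bz z :=
  (X.presheaf.germ V z hz).hom

theorem gm_ores {V V' : X.Opens} (hz : z ∈ V) (hz' : z ∈ V') (h : V' ≤ V) (a : Γ(X, V)) :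
    gm V' hz' (ores h a) = gm V hz a := by
  exact X.presheaf.germ_res_apply (homOfLE h) z hz' a

/-- the punctured local ring -/
abbrev Qz : Type u := Localization.Away (gm G.V G.hz G.g)

theorem hle (_G : GoodNbhd U z) : U ⊓ _G.V ≤ U := inf_le_left
theorem hle' (_G : GoodNbhd U z) : U ⊓ _G.V ≤ _G.V := inf_le_right

theorem isLoc : @IsLocalization.Away Γ(X, G.V) _ G.g Γ(X, U ⊓ G.V) _ (ores (hle' G)).toAlgebra :=
  G.hV.isLocalization_of_eq_basicOpen G.g (homOfLE inf_le_right) G.hg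

theorem exists_psi : ∃ ψ : Γ(X, U ⊓ G.V) →+* Qz G,
    ∀ a : Γ(X, G.V), ψ (ores (hle' G) a) = algebraMap (Bz z) (Qz G) (gm G.V G.hz a) := by
  let := (ores (hle' G)).toAlgebra
  have := isLoc G
  have hu : IsUnit (((algebraMap (Bz z) (Qz G)).comp (gm G.V G.hz)) G.g) :=
    IsLocalization.Away.algebraMap_isUnit (gm G.V G.hz G.g)
  exact ⟨IsLocalization.Away.lift (S := Γ(X, U ⊓ G.V)) G.g hu,
    fun a => IsLocalization.Away.lift_eq G.g hu a⟩

theorem psi_eq_zero (ψ : Γ(X, U ⊓ G.V) →+* Qz G)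
    (hψ : ∀ a : Γ(X, G.V), ψ (ores (hle' G) a) = algebraMap (Bz z) (Qz G) (gm G.V G.hz a))
    (e : Γ(X, U ⊓ G.V)) (he : ψ e = 0) :
    ∃ (V' : X.Opens) (h : V' ≤ G.V), z ∈ V' ∧ ores (show U ⊓ V' ≤ U ⊓ G.V from inf_le_inf_left _ h) e = 0 := by
  let := (ores (hle' G)).toAlgebra
  have hloc := isLoc G
  have halg : ∀ a : Γ(X, G.V), algebraMap Γ(X, G.V) Γ(X, U ⊓ G.V) a = ores (hle' G) a :=
    fun _ => rfl
  obtain ⟨n, e', he'⟩ := IsLocalization.Away.surj G.g e
  rw [halg, halg] at he'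
  have h1 : algebraMap (Bz z) (Qz G) (gm G.V G.hz e') = 0 := by
    rw [← hψ, ← he', map_mul, he, zero_mul]
  rw [IsLocalization.map_eq_zero_iff (Submonoid.powers (gm G.V G.hz G.g))] at h1
  obtain ⟨⟨_, m, rfl⟩, hm⟩ := h1
  change gm G.V G.hz G.g ^ m * gm G.V G.hz e' = 0 at hm
  rw [← map_pow, ← map_mul] at hm
  obtain ⟨V', hzV', i, j, hij⟩ := X.presheaf.germ_eq z G.hz G.hz (G.g ^ m * e') 0
    (by
      change gm G.V G.hz _ = gm G.V G.hz 0
      rw [hm, map_zero])
  have hV' : V' ≤ G.V := leOfHom i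
  have hij' : ores hV' (G.g ^ m * e') = 0 := by
    have : ores hV' (G.g ^ m * e') = ores hV' 0 := hij
    rw [this, map_zero]
  refine ⟨V', hV', hzV', ?_⟩
  have hu : IsUnit (ores (show U ⊓ V' ≤ G.V from inf_le_right.trans hV') G.g) := by
    have h2 : IsUnit (ores (hle' G) G.g) := IsLocalization.Away.algebraMap_isUnit (S := Γ(X, U ⊓ G.V)) G.g
    have := h2.map (ores (show U ⊓ V' ≤ U ⊓ G.V from inf_le_inf_left _ hV'))
    rwa [ores_ores] at this
  have h3 := congrArg (ores (show U ⊓ V' ≤ V' from inf_le_right)) hij'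
  rw [ores_ores, map_zero, map_mul, map_pow] at h3
  have h4 := congrArg (ores (show U ⊓ V' ≤ U ⊓ G.V from inf_le_inf_left _ hV')) he'
  rw [map_mul, ores_ores, map_pow, ores_ores] at h4
  rw [← h4] at h3
  have h5 : IsUnit (ores (show U ⊓ V' ≤ G.V from inf_le_right.trans hV') G.g ^ m *
      ores (show U ⊓ V' ≤ G.V from inf_le_right.trans hV') G.g ^ n) :=
    (hu.pow m).mul (hu.pow n)
  have h6 : (ores (show U ⊓ V' ≤ G.V from inf_le_right.trans hV') G.g ^ m *
      ores (show U ⊓ V' ≤ G.V from inf_le_right.trans hV') G.g ^ n) *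
      ores (show U ⊓ V' ≤ U ⊓ G.V from inf_le_inf_left _ hV') e = 0 := by
    rw [← h3]; ring
  exact (h5.mul_right_eq_zero).mp h6

/-- From the inverse in the punctured local ring to a neighbourhood. -/
theorem exists_nbhd (ψ : Γ(X, U ⊓ G.V) →+* Qz G)
    (hψ : ∀ a : Γ(X, G.V), ψ (ores (hle' G) a) = algebraMap (Bz z) (Qz G) (gm G.V G.hz a))
    (a : Γ(X, U)) (b : Bz z)
    (h : ψ (ores (hle G) a) * algebraMap (Bz z) (Qz G) (gm G.V G.hz G.g * b) = 1) :
    ∃ (V' : X.Opens) (_ : V' ≤ G.V), z ∈ V' ∧ ∃ h : Γ(X, V'),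
      ores (show U ⊓ V' ≤ U from inf_le_left) a * ores (show U ⊓ V' ≤ V' from inf_le_right) h = 1 ∧
      X.basicOpen h ≤ U := by
  let := X.presheaf.algebra_section_stalk (⟨z, G.hz⟩ : G.V)
  have hloc := G.hV.isLocalization_stalk ⟨z, G.hz⟩
  obtain ⟨⟨b1, s1⟩, hbs⟩ := IsLocalization.surj (G.hV.primeIdealOf ⟨z, G.hz⟩).asIdeal.primeCompl b
  change b * gm G.V G.hz s1 = gm G.V G.hz b1 at hbs
  have h1 : ψ (ores (hle G) a * ores (hle' G) (G.g * b1) - ores (hle' G) s1) = 0 := by
    rw [map_sub, map_mul, hψ, hψ, map_mul, ← hbs, sub_eq_zero]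
    have : gm G.V G.hz G.g * (b * gm G.V G.hz s1) =
      (gm G.V G.hz G.g * b) * gm G.V G.hz s1 := by ring
    rw [this, map_mul, ← mul_assoc, h, one_mul]
  obtain ⟨V₁, hV₁, hzV₁, hV₁0⟩ := psi_eq_zero G ψ hψ _ h1
  -- shrink so that s1 is a unit
  have hzs : z ∈ X.basicOpen (s1 : Γ(X, G.V)) := (mem_basicOpen_iff G.hV z G.hz _).mpr s1.2
  let V' : X.Opens := V₁ ⊓ X.basicOpen (s1 : Γ(X, G.V))
  have hV' : V' ≤ G.V := inf_le_left.trans hV₁
  have hu : IsUnit (ores hV' (s1 : Γ(X, G.V))) := by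
    have := X.toRingedSpace.isUnit_res_basicOpen (s1 : Γ(X, G.V))
    have h2 : IsUnit (ores (X.basicOpen_le (s1 : Γ(X, G.V))) (s1 : Γ(X, G.V))) := this
    have h3 := h2.map (ores (show V' ≤ X.basicOpen (s1 : Γ(X, G.V)) from inf_le_right))
    rwa [ores_ores] at h3
  obtain ⟨t, ht⟩ := hu.exists_right_inv
  refine ⟨V', hV', ⟨hzV₁, hzs⟩, ores hV' (G.g * b1) * t, ?_, ?_⟩
  · have h4 := congrArg (ores (show U ⊓ V' ≤ U ⊓ V₁ from inf_le_inf_left _ inf_le_left)) hV₁0
    rw [ores_ores, map_zero, map_sub, map_mul, ores_ores, ores_ores, ores_ores, sub_eq_zero] at h4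
    have h5 := congrArg (ores (show U ⊓ V' ≤ V' from inf_le_right)) ht
    rw [map_mul, ores_ores, map_one] at h5
    rw [map_mul, ores_ores, ← mul_assoc]
    rw [h4, h5]
  · intro y hy
    rw [Scheme.basicOpen_mul] at hy
    have h6 : y ∈ X.basicOpen (ores hV' (G.g * b1)) := hy.1
    have h7 : X.basicOpen (ores hV' (G.g * b1)) = V' ⊓ X.basicOpen (G.g * b1) :=
      X.basicOpen_res _ (homOfLE hV').op
    rw [h7, Scheme.basicOpen_mul, ← G.hg] at h6
    exact h6.2.1.1

end Point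

/-- **Pole data.**  On a separated Noetherian scheme of dimension `≤ 1` every dense affine open `U`
is the non-vanishing locus of a function with a pole. -/
theorem exists_pole_data [IsNoetherian X] [X.IsSeparated] (hdim : topologicalKrullDim X ≤ 1)
    (U : X.Opens) (hUa : IsAffineOpen U) (hU : Dense (U : Set X)) :
    ∃ V : X.Opens, U ⊔ V = ⊤ ∧ ∃ (a : Γ(X, U)) (h : Γ(X, V)),
      ores (show U ⊓ V ≤ U from inf_le_left) a * ores (show U ⊓ V ≤ V from inf_le_right) h = 1 ∧
      X.basicOpen h ≤ U := by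
  classical
  let Z : Type u := {z : X // z ∉ U}
  have hZ : Finite Z := (finite_compl hdim U hU).to_subtype
  let G : ∀ z : Z, GoodNbhd U z.1 := fun z => (exists_goodNbhd hdim U hU z.1 z.2).some
  choose ψ hψ using fun z : Z => exists_psi (G z)
  have hcond : ∀ z : Z, (gm (G z).V (G z).hz (G z).g ∈ IsLocalRing.maximalIdeal (Bz z.1)) ∧
      (∀ q : Ideal (Bz z.1), q.IsPrime → gm (G z).V (G z).hz (G z).g ∈ q →
        q = IsLocalRing.maximalIdeal (Bz z.1)) ∧
      (∀ q : Ideal (Bz z.1), q.IsPrime → gm (G z).V (G z).hz (G z).g ∉ q →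
        q ∈ minimalPrimes (Bz z.1)) := by
    intro z
    let := X.presheaf.algebra_section_stalk (⟨z.1, (G z).hz⟩ : (G z).V)
    have hloc := (G z).hV.isLocalization_stalk ⟨z.1, (G z).hz⟩
    have hN : IsNoetherianRing Γ(X, (G z).V) :=
      IsLocallyNoetherian.component_noetherian ⟨(G z).V, (G z).hV⟩
    refine Dim1Ring.local_conditions ((G z).hV.primeIdealOf ⟨z.1, (G z).hz⟩).asIdeal
      (B := Bz z.1) (G z).hdim (G z).g ?_ (G z).hmin
    -- g vanishes at z
    by_contra hcon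
    have := (mem_basicOpen_iff (G z).hV z.1 (G z).hz (G z).g).mpr hcon
    rw [← (G z).hg] at this
    exact z.2 this.1
  have hart : ∀ z : Z, IsArtinianRing (Qz (G z)) := fun z =>
    Dim1Ring.isArtinianRing_away _ _ (hcond z).2.2
  obtain ⟨a, ha⟩ := Dim1Alg2.exists_common_inverse (A := Γ(X, U)) (Z := Z)
    (B := fun z => Bz z.1) (Q := fun z => Qz (G z)) (fun z => gm (G z).V (G z).hz (G z).g)
    (fun z => Dim1Ring.length_ne_top _ (hcond z).2.1)
    (fun z => Dim1Ring.isUnit_one_sub _ (hcond z).1)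
    (fun z => (ψ z).comp (ores (hle (G z))))
    (fun z => by
      have hu : IsUnit (ores (hle' (G z)) (G z).g) := by
        let := (ores (hle' (G z))).toAlgebra
        have := isLoc (G z)
        exact IsLocalization.Away.algebraMap_isUnit (S := Γ(X, U ⊓ (G z).V)) (G z).g
      obtain ⟨γ, hγ⟩ := hu.exists_left_inv
      obtain ⟨s, b, hb⟩ := exists_finset_sum (ores (hle (G z))) (ores (hle' (G z)))
        (Dim1Sep.closure_eq_top hUa (G z).hV) γ
      refine ⟨s, fun x => gm (G z).V (G z).hz (b x), ?_⟩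
      have h1 : ∑ x ∈ s, ((ψ z).comp (ores (hle (G z)))) x *
          algebraMap (Bz z.1) (Qz (G z)) (gm (G z).V (G z).hz (b x)) = ψ z γ := by
        rw [hb, map_sum]
        refine Finset.sum_congr rfl fun x _ => ?_
        rw [map_mul, hψ]
        rfl
      rw [h1, ← hψ, ← map_mul, hγ, map_one])
  choose b hb using ha
  choose V' hV' hzV' h hh hhU using fun z : Z => exists_nbhd (G z) (ψ z) (hψ z) a (b z) (hb z)
  -- glue
  have hdisj : ∀ z w : Z, z ≠ w → V' z ⊓ V' w ≤ U := by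
    intro z w hzw y hy
    rcases (G z).hVU y (hV' z hy.1) with h1 | h1
    · exact h1
    · rcases (G w).hVU y (hV' w hy.2) with h2 | h2
      · exact h2
      · exact absurd (Subtype.ext (h1.symm.trans h2)) hzw
  obtain ⟨H, hH⟩ := ores_glue V' (V := ⨆ z, V' z) (fun z => le_iSup V' z) le_rfl h (by
    intro z w
    by_cases hzw : z = w
    · subst hzw; rfl
    · have hle1 : V' z ⊓ V' w ≤ U ⊓ V' z := le_inf (hdisj z w hzw) inf_le_left
      have hle2 : V' z ⊓ V' w ≤ U ⊓ V' w := le_inf (hdisj z w hzw) inf_le_right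
      have e1 := congrArg (ores hle1) (hh z)
      have e2 := congrArg (ores hle2) (hh w)
      rw [map_mul, ores_ores, ores_ores, map_one] at e1 e2
      calc ores inf_le_left (h z) = ores inf_le_left (h z) * 1 := by rw [mul_one]
        _ = (ores (hdisj z w hzw) a * ores inf_le_left (h z)) * ores inf_le_right (h w) := by
            rw [← e2]; ring
        _ = ores inf_le_right (h w) := by rw [e1, one_mul])
  refine ⟨⨆ z, V' z, ?_, a, H, ?_, ?_⟩
  · apply top_unique
    intro y _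
    by_cases hy : y ∈ U
    · exact Or.inl hy
    · exact Or.inr ((Opens.mem_iSup).mpr ⟨⟨y, hy⟩, hzV' ⟨y, hy⟩⟩)
  · refine ores_ext (V := U ⊓ ⨆ z, V' z) (fun z => U ⊓ V' z)
      (fun z => inf_le_inf_left _ (le_iSup V' z)) (by rw [inf_iSup_eq]) fun z => ?_
    rw [map_mul, ores_ores, ores_ores, map_one, ← hh z, ← hH z, ores_ores]
  · intro y hy
    have hyV : y ∈ ⨆ z, V' z := X.basicOpen_le H hy
    rw [Opens.mem_iSup] at hyV
    obtain ⟨z, hz⟩ := hyV
    apply hhU z
    rw [← hH z]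
    have : X.basicOpen (ores (le_iSup V' z) H) = V' z ⊓ X.basicOpen H :=
      X.basicOpen_res _ (homOfLE (le_iSup V' z)).op
    rw [this]
    exact ⟨hz, hy⟩

end Groth.Agent.VarietyA.Dim1Pole
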