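import Groth.Agent.VarietyA.Dim1Alg
import Mathlib.RingTheory.Artinian.Module
import Mathlib.RingTheory.Localization.Away.Basic
import Mathlib.RingTheory.Ideal.MinimalPrime.Basic
import Mathlib.RingTheory.Ideal.MinimalPrime.Localization

/-!
# Algebra for ample modules on one-dimensional schemes (Stacks 09NZ), second part

Lifting from the residue fields of the total fraction ring to the ring itself.
-/

set_option autoImplicit false

universe u v w t

namespace Groth.Agent.VarietyA.Dim1Alg2

open Dim1Alg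

section Lift

variable {B : Type u} [CommRing B] {Q : Type v} [CommRing Q] [Algebra B Q] (g : B)

/-- If `B[a] → Q/q` is surjective for all primes `q` of `Q = B_g` (all maximal) then `B[a] = Q`. -/
theorem adjoin_eq_top_of_quot [IsLocalization.Away g Q] [IsArtinianRing Q] (a : Q)
    (h : ∀ q : Ideal Q, q.IsPrime →
      Algebra.adjoin B {Ideal.Quotient.mkₐ B q a} = (⊤ : Subalgebra B (Q ⧸ q))) :
    Algebra.adjoin B {a} = ⊤ := by
  set T := Algebra.adjoin B {a} with hT
  by_contra hne
  obtain ⟨g', hg'⟩ := (IsLocalization.Away.algebraMap_isUnit (S := Q) g).exists_right_inv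
  have hinv : g' ∉ T := by
    intro hc
    apply hne
    rw [eq_top_iff]
    intro x _
    obtain ⟨n, c, hnc⟩ := IsLocalization.Away.surj g x
    have : x = algebraMap B Q c * g' ^ n := by
      rw [← hnc, mul_assoc, ← mul_pow, hg', one_pow, mul_one]
    rw [this]
    exact mul_mem (T.algebraMap_mem c) (pow_mem hc n)
  have hI : Ideal.span {(⟨algebraMap B Q g, T.algebraMap_mem g⟩ : T)} ≠ ⊤ := by
    rw [Ne, Ideal.span_singleton_eq_top]
    intro hu
    obtain ⟨v, hv⟩ := hu.exists_right_inv
    apply hinv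
    have : g' = v.1 := by
      have := congrArg Subtype.val hv
      simp only [MulMemClass.coe_mul, OneMemClass.coe_one] at this
      calc g' = g' * (algebraMap B Q g * v.1) := by rw [this, mul_one]
        _ = v.1 := by rw [← mul_assoc, mul_comm g', hg', one_mul]
    rw [this]
    exact v.2
  obtain ⟨n, hn, hgn⟩ := Ideal.exists_le_maximal _ hI
  have hgn' : (⟨algebraMap B Q g, T.algebraMap_mem g⟩ : T) ∈ n := hgn (Ideal.subset_span rfl)
  obtain ⟨q0, hq0, hq0n⟩ := Ideal.exists_minimalPrimes_le (I := ⊥) (J := n) bot_le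
  obtain ⟨q', hq', hcomap⟩ := Ideal.exists_comap_eq_of_mem_minimalPrimes_of_injective
    (f := T.val.toRingHom) (fun x y hxy => Subtype.ext hxy) q0 hq0
  have hq0p : q0.IsPrime := hq0.1.1
  have hmax : q0.IsMaximal := by
    have hq'm : q'.IsMaximal := IsArtinianRing.isMaximal_of_isPrime q'
    let ψ : T →ₐ[B] Q ⧸ q' := (Ideal.Quotient.mkₐ B q').comp T.val
    have hsurj : Function.Surjective ψ := by
      rw [← AlgHom.range_eq_top, AlgHom.range_comp, Subalgebra.range_val, hT, AlgHom.map_adjoin,
        Set.image_singleton]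
      exact h q' hq'
    let := Ideal.Quotient.field q'
    have hk := RingHom.ker_isMaximal_of_surjective ψ.toRingHom hsurj
    have : RingHom.ker ψ.toRingHom = q0 := by
      rw [← hcomap]
      ext x
      rw [RingHom.mem_ker, Ideal.mem_comap]
      change Ideal.Quotient.mk q' x.1 = 0 ↔ _
      rw [Ideal.Quotient.eq_zero_iff_mem]
      rfl
    rwa [this] at hk
  have : q0 = n := hmax.eq_of_le hn.ne_top hq0n
  rw [← this, ← hcomap] at hgn'
  apply hq'.ne_top
  rw [Ideal.eq_top_iff_one, ← hg']
  exact q'.mul_mem_right _ hgn'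

/-- If `B[a] = B_g` with `1 - g B` consisting of units, then some power of `a` is the inverse of
an element of `gB`. -/
theorem exists_pow_mul_eq_one [IsLocalization.Away g Q] (hg : ∀ b : B, IsUnit (1 - g * b)) (a : Q)
    (h : Algebra.adjoin B {a} = ⊤) :
    ∃ m : ℕ, 0 < m ∧ ∀ k, 0 < k → ∃ b : B, a ^ (m * k) * algebraMap B Q (g * b) = 1 := by
  set γ := algebraMap B Q g with hγ
  obtain ⟨g', hg'⟩ := (IsLocalization.Away.algebraMap_isUnit (S := Q) g).exists_right_inv
  have hmem : g' ∈ Algebra.adjoin B {a} := by rw [h]; trivial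
  rw [Algebra.adjoin_singleton_eq_range_aeval] at hmem
  obtain ⟨p, hp⟩ := hmem
  change Polynomial.aeval a p = g' at hp
  -- γ * p(a) = 1
  have h1 : γ * Polynomial.aeval a p = 1 := by rw [hp]; exact hg'
  obtain ⟨u, hu⟩ := hg (p.coeff 0)
  have hdiv : Polynomial.aeval a p = a * Polynomial.aeval a p.divX + algebraMap B Q (p.coeff 0) := by
    have e0 := congrArg (Polynomial.aeval a) (Polynomial.divX_mul_X_add p)
    rw [map_add, map_mul, Polynomial.aeval_X, Polynomial.aeval_C] at e0
    rw [← e0, mul_comm]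
  -- a is a unit
  obtain ⟨v, hv⟩ : ∃ v : Q, v * a = 1 := by
    refine ⟨algebraMap B Q (↑u⁻¹ : B) * γ * Polynomial.aeval a p.divX, ?_⟩
    have h2 : γ * (a * Polynomial.aeval a p.divX) = algebraMap B Q (u : B) := by
      rw [hu, map_sub, map_one, map_mul, ← hγ]
      rw [hdiv, mul_add] at h1
      rw [← h1]
      ring
    calc algebraMap B Q (↑u⁻¹ : B) * γ * Polynomial.aeval a p.divX * a
        = algebraMap B Q (↑u⁻¹ : B) * (γ * (a * Polynomial.aeval a p.divX)) := by ring
      _ = 1 := by rw [h2, ← map_mul, Units.inv_mul, map_one]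
  -- the main relation
  set n := p.natDegree with hn
  have hrel : v ^ n = γ * ∑ i ∈ Finset.range (n + 1), algebraMap B Q (p.coeff i) * v ^ (n - i) := by
    have e1 : Polynomial.aeval a p = ∑ i ∈ Finset.range (n + 1), algebraMap B Q (p.coeff i) * a ^ i := by
      rw [Polynomial.aeval_eq_sum_range]
      simp only [Algebra.smul_def]
      rfl
    have e2 : v ^ n = γ * (v ^ n * Polynomial.aeval a p) := by
      rw [mul_left_comm, h1, mul_one]
    rw [e2, e1, Finset.mul_sum]
    congr 1
    refine Finset.sum_congr rfl fun i hi => ?_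
    have hi' : i ≤ n := by
      have := Finset.mem_range.mp hi
      omega
    have : v ^ n = v ^ (n - i) * v ^ i := by rw [← pow_add]; congr 1; omega
    rw [this]
    have h3 : v ^ i * a ^ i = 1 := by rw [← mul_pow, hv, one_pow]
    linear_combination (v ^ (n - i) * algebraMap B Q (p.coeff i)) * h3
  have hrel2 : algebraMap B Q u * v ^ n =
      γ * ∑ i ∈ Finset.range n, algebraMap B Q (p.coeff (i + 1)) * v ^ (n - (i + 1)) := by
    rw [Finset.sum_range_succ'] at hrel
    simp only [Nat.sub_zero] at hrel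
    rw [hu, map_sub, map_one, map_mul, ← hγ, sub_mul, one_mul]
    conv_lhs => enter [1]; rw [hrel]
    ring
  have hrel3 : ∀ k, n ≤ k → v ^ k = γ * ∑ i ∈ Finset.range n,
      algebraMap B Q ((↑u⁻¹ : B) * p.coeff (i + 1)) * v ^ (k - (i + 1)) := by
    intro k hk
    have e1 : v ^ k = v ^ (k - n) * (algebraMap B Q (↑u⁻¹ : B) * (algebraMap B Q u * v ^ n)) := by
      rw [← mul_assoc (algebraMap B Q _), ← map_mul, Units.inv_mul, map_one, one_mul, ← pow_add]
      congr 1
      omega
    rw [e1, hrel2]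
    rw [Finset.mul_sum, Finset.mul_sum, Finset.mul_sum, Finset.mul_sum]
    refine Finset.sum_congr rfl fun i hi => ?_
    have hi' := Finset.mem_range.mp hi
    have : v ^ (k - (i + 1)) = v ^ (k - n) * v ^ (n - (i + 1)) := by
      rw [← pow_add]; congr 1; omega
    rw [this, map_mul]
    ring
  set P : Submodule B Q := Submodule.span B (Set.range fun i : Fin n => v ^ (i : ℕ)) with hP
  -- powers of v
  have hstep0 : ∀ k : ℕ, v ^ k ∈ P := by
    intro k
    induction k using Nat.strong_induction_on with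
    | _ k ih =>
      by_cases hk : k < n
      · exact Submodule.subset_span ⟨⟨k, hk⟩, rfl⟩
      · push Not at hk
        rw [hrel3 k hk, hγ, ← Algebra.smul_def]
        refine P.smul_mem _ (P.sum_mem fun i hi => ?_)
        rw [← Algebra.smul_def]
        have hi' := Finset.mem_range.mp hi
        exact P.smul_mem _ (ih _ (by omega))
  have hstep : ∀ t k : ℕ, n * t ≤ k → ∃ z ∈ P, v ^ k = γ ^ t * z := by
    intro t
    induction t with
    | zero =>
      intro k _
      exact ⟨v ^ k, hstep0 k, by simp⟩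
    | succ t ih =>
      intro k hk
      have hk' : n * t + n ≤ k := by rw [mul_add, mul_one] at hk; exact hk
      choose! z hz hzv using ih
      refine ⟨∑ i ∈ Finset.range n,
        algebraMap B Q ((↑u⁻¹ : B) * p.coeff (i + 1)) * z (k - (i + 1)), ?_, ?_⟩
      · refine P.sum_mem fun i hi => ?_
        have hi' := Finset.mem_range.mp hi
        rw [← Algebra.smul_def]
        exact P.smul_mem _ (hz _ (by omega))
      · rw [hrel3 k (by omega), Finset.mul_sum, Finset.mul_sum]
        refine Finset.sum_congr rfl fun i hi => ?_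
        have hi' := Finset.mem_range.mp hi
        rw [hzv (k - (i + 1)) (by omega)]
        ring
  -- bounded denominators of P
  have hden : ∃ M : ℕ, ∀ z ∈ P, ∃ b : B, γ ^ M * z = algebraMap B Q b := by
    choose N c hc using fun x : Q => IsLocalization.Away.surj g x
    refine ⟨∑ i : Fin n, N (v ^ (i : ℕ)), fun z hz => ?_⟩
    induction hz using Submodule.span_induction with
    | mem x hx =>
      obtain ⟨i, rfl⟩ := hx
      have : ∑ i : Fin n, N (v ^ (i : ℕ)) =
          (∑ j ∈ Finset.univ.erase i, N (v ^ (j : ℕ))) + N (v ^ (i : ℕ)) :=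
        (Finset.sum_erase_add _ _ (Finset.mem_univ i)).symm
      refine ⟨g ^ (∑ j ∈ Finset.univ.erase i, N (v ^ (j : ℕ))) * c (v ^ (i : ℕ)), ?_⟩
      rw [this, pow_add, map_mul, map_pow, ← hγ, mul_assoc, mul_comm (γ ^ N _), hγ, hc]
    | zero => exact ⟨0, by simp⟩
    | add x y _ _ hx hy =>
      obtain ⟨b, hb⟩ := hx
      obtain ⟨b', hb'⟩ := hy
      exact ⟨b + b', by rw [mul_add, hb, hb', map_add]⟩
    | smul b x _ hx =>
      obtain ⟨b', hb'⟩ := hx
      exact ⟨b * b', by rw [mul_smul_comm, hb', Algebra.smul_def, map_mul]⟩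
  obtain ⟨M, hM⟩ := hden
  refine ⟨n * (M + 1) + 1, Nat.succ_pos _, fun k hk => ?_⟩
  obtain ⟨z, hz, hzv⟩ := hstep (M + 1) ((n * (M + 1) + 1) * k)
    ((Nat.le_succ _).trans (Nat.le_mul_of_pos_right _ hk))
  obtain ⟨b, hb⟩ := hM z hz
  refine ⟨b, ?_⟩
  rw [map_mul, ← hγ, ← hb]
  have e3 : γ * (γ ^ M * z) = v ^ ((n * (M + 1) + 1) * k) := by
    rw [hzv]; ring
  rw [e3, ← mul_pow, mul_comm a v, hv, one_pow]

end Lift

section Final

variable {B : Type u} [CommRing B] {K : Type v} [Field K] [Algebra B K] (g : B)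

theorem rl_im_ne_top (h : Module.length B (B ⧸ Ideal.span {g}) ≠ ⊤) :
    rl (im K B) ((im K B).map (mulg K g)) ≠ ⊤ := by
  refine ne_top_of_le_ne_top h ?_
  unfold rl
  set N : Submodule B (im K B) := ((im K B).map (mulg K g)).comap (im K B).subtype with hN
  have hle : Ideal.span {g} ≤ N.comap (Algebra.linearMap B K).rangeRestrict := by
    rw [Ideal.span_le, Set.singleton_subset_iff]
    change ((Algebra.linearMap B K).rangeRestrict g : K) ∈ (im K B).map (mulg K g)
    refine ⟨1, ⟨1, by simp⟩, ?_⟩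
    simp [Algebra.smul_def]
  refine Module.length_le_of_surjective
    (Submodule.mapQ (Ideal.span {g}) N (Algebra.linearMap B K).rangeRestrict hle) ?_
  intro x
  obtain ⟨x, rfl⟩ := Submodule.Quotient.mk_surjective _ x
  obtain ⟨b, hb⟩ := (Algebra.linearMap B K).surjective_rangeRestrict x
  exact ⟨Submodule.Quotient.mk b, by rw [Submodule.mapQ_apply, hb]⟩

end Final

/-- **Algebraic heart of 09NZ.**  `A` a ring; for `z` in a finite set, `B z → Q z = (B z)_(g z)` with
`B z / g z` of finite length, `Q z` Artinian, `1 + g z B z` units (e.g. `B z` local, `g z` in the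
maximal ideal), and `A → Q z` such that `1 / g z` is a sum of products `a * b`.
Then there is one `a : A` such that the image of `a` in each `Q z` is the inverse of an element of
`g z B z`. -/
theorem exists_common_inverse {A : Type w} [CommRing A] {Z : Type t} [Finite Z]
    {B : Z → Type u} [∀ z, CommRing (B z)] {Q : Z → Type v} [∀ z, CommRing (Q z)]
    [∀ z, Algebra (B z) (Q z)] (g : ∀ z, B z) [∀ z, IsLocalization.Away (g z) (Q z)]
    [∀ z, IsArtinianRing (Q z)]
    (hfin : ∀ z, Module.length (B z) (B z ⧸ Ideal.span {g z}) ≠ ⊤)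
    (hg : ∀ z, ∀ b : B z, IsUnit (1 - g z * b))
    (φ : ∀ z, A →+* Q z)
    (hAC : ∀ z, ∃ (s : Finset A) (b : A → B z),
      (∑ x ∈ s, φ z x * algebraMap (B z) (Q z) (b x)) * algebraMap (B z) (Q z) (g z) = 1) :
    ∃ a : A, ∀ z, ∃ b : B z, φ z a * algebraMap (B z) (Q z) (g z * b) = 1 := by
  classical
  have := Fintype.ofFinite Z
  -- the index set of fields
  let J := Σ z, PrimeSpectrum (Q z)
  have hqm : ∀ j : J, j.2.asIdeal.IsMaximal := fun j => IsArtinianRing.isMaximal_of_isPrime _
  let K : J → Type v := fun j => Q j.1 ⧸ j.2.asIdeal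
  let instK : ∀ j, Field (K j) := fun j => Ideal.Quotient.field j.2.asIdeal
  let instA : ∀ j, Algebra (B j.1) (K j) :=
    fun j => inferInstanceAs (Algebra (B j.1) (Q j.1 ⧸ j.2.asIdeal))
  have halg : ∀ j, ∀ b : B j.1, algebraMap (B j.1) (K j) b =
    Ideal.Quotient.mk j.2.asIdeal (algebraMap (B j.1) (Q j.1) b) := fun j b => rfl
  have hunit : ∀ z, IsUnit (algebraMap (B z) (Q z) (g z)) :=
    fun z => IsLocalization.Away.algebraMap_isUnit (g z)
  obtain ⟨a, ha⟩ := exists_adjoin_eq_top (A := A) (J := J) (C := fun j => B j.1) (K := K)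
    (fun j => g j.1) (fun j => (Ideal.Quotient.mk j.2.asIdeal).comp (φ j.1))
    (fun j => by
      rw [halg]
      exact ((hunit j.1).map _).ne_zero)
    (fun j x => by
      obtain ⟨x, rfl⟩ := Ideal.Quotient.mk_surjective x
      obtain ⟨n, c, hnc⟩ := IsLocalization.Away.surj (g j.1) x
      refine ⟨n, c, ?_⟩
      rw [halg, halg, ← map_pow, ← map_mul, mul_comm, hnc])
    (fun j => rl_im_ne_top (K := K j) (g j.1) (hfin j.1))
    (fun j => by
      obtain ⟨s, b, hsb⟩ := hAC j.1
      refine ⟨s, b, ?_⟩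
      have := congrArg (Ideal.Quotient.mk j.2.asIdeal) hsb
      simpa [halg] using this)
  -- lift
  have hb : ∀ z, Algebra.adjoin (B z) {φ z a} = ⊤ := by
    intro z
    refine adjoin_eq_top_of_quot (g z) (φ z a) fun q hq => ?_
    exact ha ⟨z, ⟨q, hq⟩⟩
  choose m hm hmb using fun z => exists_pow_mul_eq_one (g z) (hg z) (φ z a) (hb z)
  refine ⟨a ^ (∏ z, m z), fun z => ?_⟩
  have : ∏ z, m z = m z * ∏ w ∈ Finset.univ.erase z, m w :=
    (Finset.mul_prod_erase _ _ (Finset.mem_univ z)).symm
  rw [this, map_pow]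
  exact hmb z _ (Finset.prod_pos fun w _ => hm w)

end Groth.Agent.VarietyA.Dim1Alg2
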