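import Groth.Agent.VarietyA.Dim1Alg2
import Mathlib.RingTheory.KrullDimension.Basic
import Mathlib.RingTheory.KrullDimension.Zero
import Mathlib.RingTheory.HopkinsLevitzki
import Mathlib.RingTheory.Ideal.MinimalPrime.Noetherian
import Mathlib.RingTheory.Localization.AtPrime.Basic
import Mathlib.RingTheory.Localization.Submodule

/-!
# One-dimensional Noetherian rings: choice of `g`
-/

set_option autoImplicit false

universe u v w t

namespace Groth.Agent.VarietyA.Dim1Ring

theorem map_comap_loc {R : Type u} [CommRing R] (M : Submonoid R) (S : Type v) [CommRing S]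
    [Algebra R S] [IsLocalization M S] (J : Ideal S) :
    (J.comap (algebraMap R S)).map (algebraMap R S) = J :=
  IsLocalization.map_under M S J

section Local

variable {B : Type u} [CommRing B] [IsLocalRing B] (g : B)

theorem isUnit_one_sub (hg : g ∈ IsLocalRing.maximalIdeal B) (b : B) : IsUnit (1 - g * b) := by
  by_contra h
  have h1 : (1 - g * b) ∈ IsLocalRing.maximalIdeal B := h
  have h2 := Ideal.add_mem _ h1 (Ideal.mul_mem_right b _ hg)
  rw [sub_add_cancel] at h2
  exact (Ideal.ne_top_iff_one _).mp (IsLocalRing.maximalIdeal.isMaximal B).ne_top h2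

variable [IsNoetherianRing B]

/-- If the maximal ideal is the only prime containing `g` then `B / g` has finite length. -/
theorem length_ne_top
    (h : ∀ q : Ideal B, q.IsPrime → g ∈ q → q = IsLocalRing.maximalIdeal B) :
    Module.length B (B ⧸ Ideal.span {g}) ≠ ⊤ := by
  have : Ring.KrullDimLE 0 (B ⧸ Ideal.span {g}) := by
    refine Ring.KrullDimLE.mk₀ fun I hI => ?_
    have h1 : I.comap (Ideal.Quotient.mk (Ideal.span {g})) = IsLocalRing.maximalIdeal B := by
      refine h _ (Ideal.comap_isPrime _ _) ?_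
      rw [Ideal.mem_comap]
      have : Ideal.Quotient.mk (Ideal.span {g}) g = 0 :=
        Ideal.Quotient.eq_zero_iff_mem.mpr (Ideal.subset_span rfl)
      rw [this]
      exact I.zero_mem
    have h2 : I = (IsLocalRing.maximalIdeal B).map (Ideal.Quotient.mk (Ideal.span {g})) := by
      rw [← h1, Ideal.map_comap_of_surjective _ Ideal.Quotient.mk_surjective]
    rw [h2]
    refine (Ideal.map_eq_top_or_isMaximal_of_surjective _ Ideal.Quotient.mk_surjective
      (IsLocalRing.maximalIdeal.isMaximal B)).resolve_left ?_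
    rw [← h2]
    exact hI.ne_top
  have h3 : IsArtinianRing (B ⧸ Ideal.span {g}) :=
    isArtinianRing_iff_isNoetherianRing_krullDimLE_zero.mpr ⟨inferInstance, this⟩
  have h4 := (isArtinianRing_iff_isFiniteLength _).mp h3
  rw [← Module.length_ne_top_iff] at h4
  have h5 : Module.length B (B ⧸ Ideal.span {g}) =
      Module.length (B ⧸ Ideal.span {g}) (B ⧸ Ideal.span {g}) :=
    Module.length_eq_of_surjective (Ideal.Quotient.mk_surjective)
  rw [h5]
  exact h4

omit [IsLocalRing B] in
/-- If all primes of `B` not containing `g` are minimal then `B_g` is Artinian. -/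
theorem isArtinianRing_away (Q : Type v) [CommRing Q] [Algebra B Q] [IsLocalization.Away g Q]
    (h : ∀ q : Ideal B, q.IsPrime → g ∉ q → q ∈ minimalPrimes B) : IsArtinianRing Q := by
  have hN : IsNoetherianRing Q := IsLocalization.isNoetherianRing (Submonoid.powers g) Q inferInstance
  rw [isArtinianRing_iff_isNoetherianRing_krullDimLE_zero]
  refine ⟨hN, Ring.KrullDimLE.mk₀ fun q hq => ?_⟩
  obtain ⟨m, hm, hqm⟩ := Ideal.exists_le_maximal q hq.ne_top
  have h1 : m.comap (algebraMap B Q) ∈ minimalPrimes B := by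
    refine h _ (Ideal.comap_isPrime _ _) ?_
    intro hg
    rw [Ideal.mem_comap] at hg
    exact hm.ne_top (Ideal.eq_top_of_isUnit_mem _ hg (IsLocalization.Away.algebraMap_isUnit g))
  have h2 : q.comap (algebraMap B Q) = m.comap (algebraMap B Q) := by
    refine le_antisymm (Ideal.comap_mono hqm) (h1.2 ⟨Ideal.comap_isPrime _ _, bot_le⟩
      (Ideal.comap_mono hqm))
  have h3 : q = m := by
    rw [← map_comap_loc (Submonoid.powers g) Q q, h2,
      map_comap_loc (Submonoid.powers g) Q m]
  rw [h3]
  exact hm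

end Local

section Global

variable {R : Type u} [CommRing R] [IsNoetherianRing R]

/-- In a Noetherian ring of dimension at most one, with `p` a maximal ideal which is not a minimal
prime, there are `g ∈ p` and `s ∉ p` with: `g` lies in no minimal prime, and `p` is the only prime
which contains `g` and does not contain `s`. -/
theorem exists_g_s (hdim : Ring.KrullDimLE 1 R) (p : Ideal R) [hp : p.IsMaximal]
    (hpm : p ∉ minimalPrimes R) :
    ∃ g ∈ p, ∃ s, s ∉ p ∧ (∀ q ∈ minimalPrimes R, g ∉ q) ∧
      ∀ q : Ideal R, q.IsPrime → g ∈ q → s ∉ q → q = p := by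
  classical
  have hfin : (minimalPrimes R).Finite := minimalPrimes.finite_of_isNoetherianRing R
  obtain ⟨g, hgp, hg⟩ : ∃ g ∈ p, g ∉ ⋃ q ∈ minimalPrimes R, (q : Set R) := by
    by_contra hcon
    push Not at hcon
    have hsub : (p : Set R) ⊆ ⋃ q ∈ hfin.toFinset, (q : Set R) := by
      intro x hx
      simpa using hcon x hx
    obtain ⟨q, hq, hpq⟩ := (Ideal.subset_union_prime (s := hfin.toFinset) (f := fun q => q) ⊤ ⊤
      (fun q hq _ _ => ((hfin.mem_toFinset).mp hq).1.1)).mp hsub
    have hq' := (hfin.mem_toFinset).mp hq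
    have : p = q := hp.eq_of_le hq'.1.1.ne_top hpq
    exact hpm (this ▸ hq')
  have hg' : ∀ q ∈ minimalPrimes R, g ∉ q := by
    intro q hq hgq
    exact hg (Set.mem_iUnion₂.mpr ⟨q, hq, hgq⟩)
  have hfin2 : ((Ideal.span {g}).minimalPrimes).Finite :=
    Ideal.finite_minimalPrimes_of_isNoetherianRing R _
  -- minimal primes of (g) are maximal
  have hmax : ∀ q ∈ (Ideal.span {g}).minimalPrimes, q.IsMaximal := by
    intro q hq
    refine ((Ring.krullDimLE_one_iff.mp hdim) q hq.1.1).resolve_left fun h => ?_
    exact hg' q h (hq.1.2 (Ideal.subset_span rfl))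
  have hs : ∀ q ∈ (Ideal.span {g}).minimalPrimes, q ≠ p → ∃ s ∈ q, s ∉ p := by
    intro q hq hqp
    by_contra hcon
    push Not at hcon
    exact hqp ((hmax q hq).eq_of_le hp.ne_top hcon)
  choose! s hsq hsp using hs
  refine ⟨g, hgp, ∏ q ∈ hfin2.toFinset.erase p, s q, ?_, hg', ?_⟩
  · intro h
    obtain ⟨q, hq, hsq'⟩ := (hp.isPrime.prod_mem_iff).mp h
    rw [Finset.mem_erase, hfin2.mem_toFinset] at hq
    exact hsp q hq.2 hq.1 hsq'
  · intro q hq hgq hsnq
    obtain ⟨q', hq', hle⟩ := Ideal.exists_minimalPrimes_le (I := Ideal.span {g}) (J := q)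
      (by rwa [Ideal.span_singleton_le_iff_mem])
    have : q' = p := by
      by_contra hne
      apply hsnq
      rw [hq.prod_mem_iff]
      exact ⟨q', Finset.mem_erase.mpr ⟨hne, hfin2.mem_toFinset.mpr hq'⟩, hle (hsq q' hq' hne)⟩
    subst this
    exact (hp.eq_of_le hq.ne_top hle).symm

variable {B : Type v} [CommRing B] [Algebra R B] (p : Ideal R) [hp : p.IsPrime]
  [IsLocalization.AtPrime B p]

include p hp

omit [IsNoetherianRing R] in
theorem mem_minimalPrimes_of_localization (q : Ideal B) (hq : q.IsPrime)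
    (h : q.comap (algebraMap R B) ∈ minimalPrimes R) : q ∈ minimalPrimes B := by
  refine ⟨⟨hq, bot_le⟩, fun r hr hrq => ?_⟩
  have h1 : (r.comap (algebraMap R B)) = q.comap (algebraMap R B) := by
    have := hr.1
    exact le_antisymm (Ideal.comap_mono hrq)
      (h.2 ⟨Ideal.comap_isPrime _ _, bot_le⟩ (Ideal.comap_mono hrq))
  rw [← map_comap_loc p.primeCompl B q, ← h1, map_comap_loc p.primeCompl B r]

/-- The conditions on the localization at `p`. -/
theorem local_conditions [IsLocalRing B] (hdim : Ring.KrullDimLE 1 R) (g : R)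
    (hgp : g ∈ p) (hgm : ∀ q ∈ minimalPrimes R, g ∉ q) :
    (algebraMap R B g ∈ IsLocalRing.maximalIdeal B) ∧
    (∀ q : Ideal B, q.IsPrime → algebraMap R B g ∈ q → q = IsLocalRing.maximalIdeal B) ∧
    (∀ q : Ideal B, q.IsPrime → algebraMap R B g ∉ q → q ∈ minimalPrimes B) := by
  have hcm : (IsLocalRing.maximalIdeal B).comap (algebraMap R B) = p :=
    IsLocalization.AtPrime.under_maximalIdeal B p
  refine ⟨?_, ?_, ?_⟩
  · rw [← Ideal.mem_comap, hcm]
    exact hgp
  · intro q hq hgq
    have h1 : (q.comap (algebraMap R B)).IsMaximal := by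
      refine ((Ring.krullDimLE_one_iff.mp hdim) _ (Ideal.comap_isPrime _ _)).resolve_left fun h => ?_
      exact hgm _ h hgq
    have h2 : q.comap (algebraMap R B) ≤ p := by
      rw [← hcm]
      exact Ideal.comap_mono (IsLocalRing.le_maximalIdeal hq.ne_top)
    have h3 := h1.eq_of_le hp.ne_top h2
    rw [← map_comap_loc p.primeCompl B q, h3, ← hcm,
      map_comap_loc p.primeCompl B]
  · intro q hq hgq
    refine mem_minimalPrimes_of_localization p q hq ?_
    refine ((Ring.krullDimLE_one_iff.mp hdim) _ (Ideal.comap_isPrime _ _)).resolve_right fun h => ?_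
    have h2 : q.comap (algebraMap R B) ≤ p := by
      rw [← hcm]
      exact Ideal.comap_mono (IsLocalRing.le_maximalIdeal hq.ne_top)
    have h3 := h.eq_of_le hp.ne_top h2
    apply hgq
    rw [← Ideal.mem_comap, h3]
    exact hgp

end Global

end Groth.Agent.VarietyA.Dim1Ring
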