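import Mathlib.AlgebraicGeometry.Limits
import Mathlib.AlgebraicGeometry.Noetherian
import Groth.Agent.CurvesA.DimOne
import Groth.Agent.VarietyA.Dim1Ring

/-!
# Topology of one-dimensional Noetherian schemes
-/

set_option autoImplicit false

universe u

open CategoryTheory CategoryTheory.Limits AlgebraicGeometry TopologicalSpace Opposite

namespace Groth.Agent.VarietyA.Dim1Top

variable {X : Scheme.{u}}

/-- On a Noetherian scheme every point has an affine open neighbourhood which is dense. -/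
theorem exists_dense_affine [IsNoetherian X] (x : X) :
    ∃ U : X.Opens, IsAffineOpen U ∧ x ∈ U ∧ Dense (U : Set X) := by
  classical
  set C := irreducibleComponents X with hC
  have hfin : C.Finite := NoetherianSpace.finite_irreducibleComponents
  have hclosed : ∀ Z ∈ C, IsClosed Z := fun Z hZ => isClosed_of_mem_irreducibleComponents Z hZ
  -- the open part of each component
  let O : Set X → X.Opens := fun Z => ⟨(⋃₀ (C \ {Z}))ᶜ, by
    rw [isOpen_compl_iff, Set.sUnion_eq_biUnion]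
    exact (hfin.subset Set.sdiff_subset).isClosed_biUnion fun W hW => hclosed W hW.1⟩
  have hOcl : ∀ Z ∈ C, closure (O Z : Set X) = Z := fun Z hZ =>
    closure_sUnion_irreducibleComponents_sdiff_singleton hfin Z hZ
  have hOsub : ∀ Z ∈ C, (O Z : Set X) ⊆ Z := fun Z hZ => by
    have := subset_closure (s := (O Z : Set X))
    rwa [hOcl Z hZ] at this
  have hOne : ∀ Z ∈ C, ∃ z : X, z ∈ O Z := by
    intro Z hZ
    have h1 : Z.Nonempty := hZ.1.1
    rw [← hOcl Z hZ, closure_nonempty_iff] at h1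
    exact h1
  have hWex : ∀ Z ∈ C, ∃ W : X.Opens, IsAffineOpen W ∧ (W : Set X).Nonempty ∧ W ≤ O Z := by
    intro Z hZ
    obtain ⟨z, hz⟩ := hOne Z hZ
    obtain ⟨_, ⟨W, hW, rfl⟩, hzW, hWO⟩ :=
      X.isBasis_affineOpens.exists_subset_of_mem_open hz (O Z).isOpen
    exact ⟨W, hW, ⟨z, hzW⟩, hWO⟩
  choose! W hWaff hWne hWO using hWex
  -- the neighbourhood of x
  let N : X.Opens := ⟨(⋃₀ {Z | Z ∈ C ∧ x ∉ Z})ᶜ, by
    rw [isOpen_compl_iff, Set.sUnion_eq_biUnion]
    exact (hfin.subset fun Z hZ => hZ.1).isClosed_biUnion fun W hW => hclosed W hW.1⟩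
  have hxN : x ∈ N := by
    intro hx
    obtain ⟨Z, ⟨-, hZ⟩, hxZ⟩ := hx
    exact hZ hxZ
  obtain ⟨_, ⟨W₀, hW₀, rfl⟩, hxW₀, hW₀N⟩ :=
    X.isBasis_affineOpens.exists_subset_of_mem_open hxN N.isOpen
  let D : Set (Set X) := {Z | Z ∈ C ∧ x ∉ Z}
  have hDfin : D.Finite := hfin.subset fun Z hZ => hZ.1
  refine ⟨W₀ ⊔ ⨆ Z ∈ D, W Z, ?_, Or.inl hxW₀, ?_⟩
  · refine IsAffineOpen.sup_of_disjoint hW₀ (IsAffineOpen.biSup_of_disjoint hDfin
      (fun Z hZ => hWaff Z hZ.1) ?_) ?_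
    · intro Z hZ Z' hZ' hne
      rw [Function.onFun, disjoint_iff_inf_le]
      rintro y ⟨hy, hy'⟩
      have h1 : y ∈ Z := hOsub Z hZ.1 (hWO Z hZ.1 hy)
      exact (hWO Z' hZ'.1 hy') ⟨Z, ⟨hZ.1, hne⟩, h1⟩
    · rw [disjoint_iff_inf_le]
      rintro y ⟨hy, hy'⟩
      simp only [SetLike.mem_coe, Opens.mem_iSup, exists_prop] at hy'
      obtain ⟨Z, hZ, hyZ⟩ := hy'
      exact (hW₀N hy) ⟨Z, hZ, hOsub Z hZ.1 (hWO Z hZ.1 hyZ)⟩
  · intro y
    have hZ : irreducibleComponent y ∈ C := irreducibleComponent_mem_irreducibleComponents y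
    have hyZ : y ∈ irreducibleComponent y := mem_irreducibleComponent
    by_cases hx : x ∈ irreducibleComponent y
    · have h1 := subset_closure_inter_of_isPreirreducible_of_isOpen hZ.1.isPreirreducible
        W₀.isOpen ⟨x, hx, hxW₀⟩
      refine closure_mono ?_ (h1 hyZ)
      rintro a ⟨-, ha⟩
      exact Or.inl ha
    · obtain ⟨w, hw⟩ := hWne _ hZ
      have h1 := subset_closure_inter_of_isPreirreducible_of_isOpen hZ.1.isPreirreducible
        (W (irreducibleComponent y)).isOpen ⟨w, hOsub _ hZ (hWO _ hZ hw), hw⟩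
      refine closure_mono ?_ (h1 hyZ)
      rintro a ⟨-, ha⟩
      refine Or.inr ?_
      simp only [SetLike.mem_coe, Opens.mem_iSup, exists_prop]
      exact ⟨_, ⟨hZ, hx⟩, ha⟩

/-- In a Noetherian scheme of dimension at most one, an irreducible closed subset of the complement
of a dense open is a point. -/
theorem subsingleton_of_compl [IsNoetherian X] (hdim : topologicalKrullDim X ≤ 1) (U : X.Opens)
    (hU : Dense (U : Set X)) (T : Set X) (hT : IsIrreducible T) (hTc : IsClosed T)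
    (hTU : T ⊆ (U : Set X)ᶜ) :
    T.Subsingleton ∧ ∃ η ∈ U, T ⊆ closure {η} := by
  obtain ⟨Z, hZ, hTZ⟩ := exists_mem_irreducibleComponents_subset_of_isIrreducible T hT
  have hZc := isClosed_of_mem_irreducibleComponents Z hZ
  obtain ⟨O, hO, hOne, hOZ⟩ :=
    NoetherianSpace.exists_isOpen_nonempty_subset_irreducibleComponent Z hZ
  obtain ⟨y, hyO, hyU⟩ := hU.inter_open_nonempty O hO hOne
  have hyZ : y ∈ Z := hOZ hyO
  obtain ⟨η, hη⟩ := QuasiSober.sober hZ.1 hZc
  have hηU : η ∈ U := by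
    have : y ∈ closure {η} := by rw [hη.def]; exact hyZ
    exact (specializes_iff_mem_closure.mpr this).mem_open U.isOpen hyU
  refine ⟨?_, η, hηU, by rw [hη.def]; exact hTZ⟩
  refine Groth.Agent.CurvesA.DimOne.subsingleton_of_lt hdim
    (Z := ⟨T, hT, hTc⟩) (W := ⟨Z, hZ.1, hZc⟩) ?_
  refine lt_of_le_of_ne hTZ ?_
  intro h
  have h' : T = Z := congrArg (fun T : IrreducibleCloseds X => (T : Set X)) h
  exact hTU (h' ▸ hyZ) hyU

/-- Points of the complement of a dense open in a Noetherian scheme of dimension at most one. -/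
theorem point_of_compl [IsNoetherian X] (hdim : topologicalKrullDim X ≤ 1) (U : X.Opens)
    (hU : Dense (U : Set X)) (z : X) (hz : z ∉ U) :
    IsClosed ({z} : Set X) ∧ ∃ η ∈ U, η ⤳ z := by
  obtain ⟨h1, η, hη, h2⟩ := subsingleton_of_compl hdim U hU (closure {z})
    isIrreducible_singleton.closure isClosed_closure
    (U.isOpen.isClosed_compl.closure_subset_iff.mpr (Set.singleton_subset_iff.mpr hz))
  have hzc : z ∈ closure ({z} : Set X) := subset_closure rfl
  refine ⟨?_, η, hη, specializes_iff_mem_closure.mpr (h2 hzc)⟩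
  rw [← h1.eq_singleton_of_mem hzc]
  exact isClosed_closure

theorem finite_compl [IsNoetherian X] (hdim : topologicalKrullDim X ≤ 1) (U : X.Opens)
    (hU : Dense (U : Set X)) : ((U : Set X)ᶜ).Finite := by
  obtain ⟨S, hSf, hSc, hSi, hSU⟩ :=
    NoetherianSpace.exists_finite_set_isClosed_irreducible U.isOpen.isClosed_compl
  rw [hSU]
  refine hSf.sUnion fun T hT => ?_
  exact (subsingleton_of_compl hdim U hU T (hSi T hT) (hSc T hT)
    (by rw [hSU]; exact Set.subset_sUnion_of_mem hT)).1.finite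

/-- The good affine neighbourhoods of the missing points. -/
structure GoodNbhd (U : X.Opens) (z : X) where
  /-- the affine open -/
  V : X.Opens
  hV : IsAffineOpen V
  hz : z ∈ V
  hVU : ∀ y ∈ V, y ∈ U ∨ y = z
  /-- the function -/
  g : Γ(X, V)
  hg : U ⊓ V = X.basicOpen g
  hdim : Ring.KrullDimLE 1 Γ(X, V)
  hmax : (hV.primeIdealOf ⟨z, hz⟩).asIdeal.IsMaximal
  hmin : ∀ q ∈ minimalPrimes Γ(X, V), g ∉ q

theorem mem_basicOpen_iff {V : X.Opens} (hV : IsAffineOpen V) (y : X) (hy : y ∈ V) (f : Γ(X, V)) :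
    y ∈ X.basicOpen f ↔ f ∉ (hV.primeIdealOf ⟨y, hy⟩).asIdeal := by
  have h1 : hV.fromSpec ⁻¹ᵁ X.basicOpen f = PrimeSpectrum.basicOpen f :=
    hV.fromSpec_preimage_basicOpen f
  have h2 : hV.fromSpec (hV.primeIdealOf ⟨y, hy⟩) = y := hV.fromSpec_primeIdealOf ⟨y, hy⟩
  have h3 : (hV.primeIdealOf ⟨y, hy⟩ : Spec Γ(X, V)) ∈ hV.fromSpec ⁻¹ᵁ X.basicOpen f ↔
      y ∈ X.basicOpen f := by
    change hV.fromSpec (hV.primeIdealOf ⟨y, hy⟩) ∈ X.basicOpen f ↔ _
    rw [h2]
  rw [← h3, h1]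
  rfl

theorem krullDimLE_one (hdim : topologicalKrullDim X ≤ 1) {V : X.Opens} (hV : IsAffineOpen V) :
    Ring.KrullDimLE 1 Γ(X, V) := by
  rw [Ring.krullDimLE_iff, ← PrimeSpectrum.topologicalKrullDim_eq_ringKrullDim]
  exact (hV.fromSpec.isOpenEmbedding.isInducing.topologicalKrullDim_le).trans hdim

theorem primeIdealOf_notMem_minimalPrimes {V : X.Opens} (hV : IsAffineOpen V) (z : X) (hz : z ∈ V)
    (η : X) (hη : η ⤳ z) (hne : η ≠ z) :
    (hV.primeIdealOf ⟨z, hz⟩).asIdeal ∉ minimalPrimes Γ(X, V) := by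
  intro hmin
  have hηV : η ∈ V := hη.mem_open V.isOpen hz
  have h1 : hV.primeIdealOf ⟨η, hηV⟩ ⤳ hV.primeIdealOf ⟨z, hz⟩ := by
    refine (hV.fromSpec.isOpenEmbedding.isInducing.specializes_iff).mp ?_
    change hV.fromSpec (hV.primeIdealOf ⟨η, hηV⟩) ⤳ hV.fromSpec (hV.primeIdealOf ⟨z, hz⟩)
    rw [hV.fromSpec_primeIdealOf, hV.fromSpec_primeIdealOf]
    exact hη
  have h2 : (hV.primeIdealOf ⟨η, hηV⟩).asIdeal ≤ (hV.primeIdealOf ⟨z, hz⟩).asIdeal :=
    (PrimeSpectrum.le_iff_specializes _ _).mpr h1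
  have h3 : (hV.primeIdealOf ⟨η, hηV⟩).asIdeal = (hV.primeIdealOf ⟨z, hz⟩).asIdeal :=
    le_antisymm h2 (hmin.2 ⟨(hV.primeIdealOf ⟨η, hηV⟩).isPrime, bot_le⟩ h2)
  apply hne
  have h4 := congrArg hV.fromSpec (PrimeSpectrum.ext h3)
  rw [hV.fromSpec_primeIdealOf, hV.fromSpec_primeIdealOf] at h4
  exact h4

theorem exists_goodNbhd [IsNoetherian X] (hdim : topologicalKrullDim X ≤ 1) (U : X.Opens)
    (hU : Dense (U : Set X)) (z : X) (hz : z ∉ U) : Nonempty (GoodNbhd U z) := by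
  obtain ⟨hzc, η, hηU, hη⟩ := point_of_compl hdim U hU z hz
  have hne : η ≠ z := fun h => hz (h ▸ hηU)
  -- open neighbourhood of z meeting the complement only in z
  let N : X.Opens := ⟨((U : Set X)ᶜ \ {z})ᶜ, by
    rw [isOpen_compl_iff]
    have hf : ((U : Set X)ᶜ \ {z}).Finite := (finite_compl hdim U hU).subset Set.sdiff_subset
    rw [← Set.biUnion_of_singleton ((U : Set X)ᶜ \ {z})]
    exact hf.isClosed_biUnion fun w hw => (point_of_compl hdim U hU w hw.1).1⟩
  have hzN : z ∈ N := fun h => h.2 rfl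
  obtain ⟨_, ⟨V, hV, rfl⟩, hzV, hVN⟩ :=
    X.isBasis_affineOpens.exists_subset_of_mem_open hzN N.isOpen
  have hVU : ∀ y ∈ V, y ∈ U ∨ y = z := by
    intro y hy
    by_contra hcon
    push Not at hcon
    exact hVN hy ⟨hcon.1, hcon.2⟩
  have hN : IsNoetherianRing Γ(X, V) := IsLocallyNoetherian.component_noetherian ⟨V, hV⟩
  have hmax := hV.primeIdealOf_isMaximal_of_isClosed ⟨z, hzV⟩ hzc
  obtain ⟨g, hgp, s, hsp, hgm, hgs⟩ := Dim1Ring.exists_g_s (krullDimLE_one hdim hV)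
    (hV.primeIdealOf ⟨z, hzV⟩).asIdeal (primeIdealOf_notMem_minimalPrimes hV z hzV η hη hne)
  have hzs : z ∈ X.basicOpen s := (mem_basicOpen_iff hV z hzV s).mpr hsp
  have hle : X.basicOpen s ≤ V := X.basicOpen_le s
  have hV' : IsAffineOpen (X.basicOpen s) := hV.basicOpen s
  have hVU' : ∀ y ∈ X.basicOpen s, y ∈ U ∨ y = z := fun y hy => hVU y (hle hy)
  -- D(g) in D(s)
  have hkey : ∀ y ∈ X.basicOpen s, y ∈ X.basicOpen g ∨ y = z := by
    intro y hy
    by_contra hcon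
    push Not at hcon
    rw [mem_basicOpen_iff hV y (hle hy)] at hcon
    have h1 := hgs (hV.primeIdealOf ⟨y, hle hy⟩).asIdeal (hV.primeIdealOf ⟨y, hle hy⟩).isPrime
      (by_contra hcon.1) ((mem_basicOpen_iff hV y (hle hy) s).mp hy)
    apply hcon.2
    have h4 := congrArg hV.fromSpec (PrimeSpectrum.ext h1)
    rw [hV.fromSpec_primeIdealOf, hV.fromSpec_primeIdealOf] at h4
    exact h4
  have hzg : z ∉ X.basicOpen g := by
    rw [mem_basicOpen_iff hV z hzV g]
    exact fun h => h hgp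
  refine ⟨⟨X.basicOpen s, hV', hzs, hVU', X.presheaf.map (homOfLE hle).op g, ?_,
    krullDimLE_one hdim hV', hV'.primeIdealOf_isMaximal_of_isClosed ⟨z, hzs⟩ hzc, ?_⟩⟩
  · rw [Scheme.basicOpen_res]
    ext y
    constructor
    · rintro ⟨hyU, hys⟩
      exact ⟨hys, (hkey y hys).resolve_right fun h => hz (h ▸ hyU)⟩
    · rintro ⟨hys, hyg⟩
      exact ⟨(hVU' y hys).resolve_right fun h => hzg (h ▸ hyg), hys⟩
  · intro q hq hgq
    -- the point corresponding to q
    have hqp : q.IsPrime := hq.1.1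
    let y : X := hV'.fromSpec ⟨q, hqp⟩
    have hy : y ∈ X.basicOpen s := by
      have : y ∈ Set.range hV'.fromSpec := ⟨_, rfl⟩
      rwa [hV'.range_fromSpec] at this
    have hyq : hV'.primeIdealOf ⟨y, hy⟩ = ⟨q, hqp⟩ := by
      apply hV'.fromSpec.isOpenEmbedding.injective
      exact hV'.fromSpec_primeIdealOf ⟨y, hy⟩
    have h1 : y ∉ X.basicOpen (X.presheaf.map (homOfLE hle).op g) := by
      rw [mem_basicOpen_iff hV' y hy, hyq]
      exact fun h => h hgq
    have hyz : y = z := by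
      refine (hkey y hy).resolve_left fun h => h1 ?_
      rw [Scheme.basicOpen_res]
      exact ⟨hy, h⟩
    have h2 := primeIdealOf_notMem_minimalPrimes hV' z hzs η hη hne
    apply h2
    have h3 : hV'.primeIdealOf ⟨z, hzs⟩ = ⟨q, hqp⟩ := by
      rw [← hyq]
      congr 1
      exact Subtype.ext hyz.symm
    rw [h3]
    exact hq

end Groth.Agent.VarietyA.Dim1Top
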