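import Groth.Agent.VarietyA.GeomRedSmooth
import Mathlib.AlgebraicGeometry.Geometrically.Reduced
import Mathlib.AlgebraicGeometry.Morphisms.Smooth
import Mathlib.AlgebraicGeometry.Noetherian
import Mathlib.AlgebraicGeometry.Pullbacks

/-!
# Geometrically reduced schemes over a field and smoothness
-/

universe u

open CategoryTheory CategoryTheory.Limits AlgebraicGeometry TensorProduct

namespace Groth.Agent.VarietyA.GeomRedSch

/-- Geometric reducedness passes to open subschemes. -/
theorem geometricallyReduced_comp {U X Y : Scheme.{u}} (j : U ⟶ X) [IsOpenImmersion j] (f : X ⟶ Y)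
    [GeometricallyReduced f] : GeometricallyReduced (j ≫ f) := by
  constructor
  intro K _ y Z fst snd h
  let l : Z ⟶ pullback f y := pullback.lift (fst ≫ j) snd (by rw [Category.assoc, h.w])
  have hl1 : l ≫ pullback.fst f y = fst ≫ j := pullback.lift_fst _ _ _
  have hl2 : l ≫ pullback.snd f y = snd := pullback.lift_snd _ _ _
  have h1 : IsPullback l fst (pullback.fst f y) j := by
    refine IsPullback.of_right (h₁₂ := pullback.snd f y) (h₂₂ := f) (v₁₃ := y) ?_ ?_ ?_
    · rw [hl2]; exact h.flip
    · exact hl1
    · exact (IsPullback.of_hasPullback f y).flip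
  have : IsOpenImmersion l := MorphismProperty.of_isPullback (P := @IsOpenImmersion) h1.flip inferInstance
  have : IsReduced (pullback f y) := GeometricallyReduced.geometrically_isReduced _ _ _ (.of_hasPullback _ _)
  exact isReduced_of_isOpenImmersion l

/-- Schemes smooth over a field are reduced. -/
theorem isReduced_of_smooth (K : Type u) [Field K] {X : Scheme.{u}} (f : X ⟶ Spec (CommRingCat.of K))
    [Smooth f] : IsReduced X := by
  suffices h : ∀ i, IsReduced (X.affineCover.X i) from IsReduced.of_openCover X X.affineCover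
  intro i
  obtain ⟨φ, hφ⟩ := Spec.map_surjective (X.affineCover.f i ≫ f)
  have hsm : φ.hom.Smooth := by
    rw [← HasRingHomProperty.Spec_iff (P := @Smooth), hφ]
    exact smooth_comp (X.affineCover.f i) f
  algebraize [φ.hom]
  exact (affine_isReduced_iff _).mpr (GeomRedSmooth.isReduced_of_smooth K _)

/-- For a reduced ring over `k` with geometrically reduced spectrum, `k̄ ⊗ A` is reduced. -/
theorem isReduced_tensor {k A : Type u} [Field k] [CommRing A] [Algebra k A]
    (h : GeometricallyReduced (Spec.map (CommRingCat.ofHom (algebraMap k A))))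
    (L : Type u) [Field L] [Algebra k L] : _root_.IsReduced (L ⊗[k] A) := by
  have h1 : IsReduced (pullback (Spec.map (CommRingCat.ofHom (algebraMap k A)))
      (Spec.map (CommRingCat.ofHom (algebraMap k L)))) :=
    GeometricallyReduced.geometrically_isReduced _ _ _ (.of_hasPullback _ _)
  have h2 : IsReduced (Spec (CommRingCat.of (A ⊗[k] L))) :=
    isReduced_of_isOpenImmersion (pullbackSpecIso k A L).inv
  have h3 : _root_.IsReduced (A ⊗[k] L) := (affine_isReduced_iff (CommRingCat.of (A ⊗[k] L))).mp h2
  exact isReduced_of_injective (Algebra.TensorProduct.comm k L A) (Algebra.TensorProduct.comm k L A).injective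

/-- A geometrically reduced scheme locally of finite type over a field has dense smooth locus. -/
theorem dense_smoothLocus (k : Type u) [Field k] {X : Scheme.{u}} (f : X ⟶ Spec (CommRingCat.of k))
    [LocallyOfFinitePresentation f] [GeometricallyReduced f] : Dense (f.smoothLocus : Set X) := by
  rw [dense_iff_inter_open]
  rintro W hW ⟨y, hy⟩
  obtain ⟨_, ⟨V, hV, rfl⟩, hyV, hVW⟩ := X.isBasis_affineOpens.exists_subset_of_mem_open hy hW
  have hV' : IsAffineOpen V := hV
  obtain ⟨φ, hφ⟩ := Spec.map_surjective (hV'.fromSpec ≫ f)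
  have hg : GeometricallyReduced (Spec.map φ) := by
    rw [hφ]
    exact geometricallyReduced_comp _ _
  have hft : φ.hom.FiniteType := by
    rw [← HasRingHomProperty.Spec_iff (P := @LocallyOfFiniteType), hφ]
    infer_instance
  have hnt : Nontrivial Γ(X, V) := by
    have : Nonempty V := ⟨⟨y, hyV⟩⟩
    infer_instance
  algebraize [φ.hom]
  have hred : _root_.IsReduced (AlgebraicClosure k ⊗[k] Γ(X, V)) := isReduced_tensor hg _
  obtain ⟨r, hr, hs⟩ := GeomRedSmooth.exists_smooth_away k Γ(X, V) hred
  let j : Spec (CommRingCat.of (Localization.Away r)) ⟶ X :=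
    Spec.map (CommRingCat.ofHom (algebraMap Γ(X, V) (Localization.Away r))) ≫ hV'.fromSpec
  have hj : IsOpenImmersion j := by
    have : IsOpenImmersion (Spec.map (CommRingCat.ofHom (algebraMap Γ(X, V) (Localization.Away r)))) :=
      IsOpenImmersion.of_isLocalization r
    infer_instance
  have hsm : Smooth (j ≫ f) := by
    have : j ≫ f = Spec.map (CommRingCat.ofHom (algebraMap k (Localization.Away r))) := by
      simp only [j, Category.assoc]
      rw [← hφ, ← Spec.map_comp]
      rfl
    rw [this, HasRingHomProperty.Spec_iff (P := @Smooth)]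
    exact RingHom.smooth_algebraMap.mpr hs
  have h1 : j ⁻¹ᵁ f.smoothLocus = ⊤ := by
    rw [Scheme.Hom.preimage_smoothLocus_eq, Scheme.Hom.smoothLocus_eq_top]
  have hnt2 : Nontrivial (Localization.Away r) := by
    rw [← not_subsingleton_iff_nontrivial,
      IsLocalization.subsingleton_iff (M := Submonoid.powers r) (S := Localization.Away r)]
    rintro ⟨n, hn⟩
    exact hr ⟨n, hn⟩
  obtain ⟨z⟩ : Nonempty (Spec (CommRingCat.of (Localization.Away r))) :=
    inferInstanceAs (Nonempty (PrimeSpectrum (Localization.Away r)))
  refine ⟨j z, hVW ?_, ?_⟩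
  · have := hV'.range_fromSpec
    change _ ∈ (V : Set X)
    rw [← this]
    exact ⟨_, rfl⟩
  · have : z ∈ j ⁻¹ᵁ f.smoothLocus := by rw [h1]; trivial
    exact this

end Groth.Agent.VarietyA.GeomRedSch
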