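import Groth.Agent.VarietyA.GeomRedAlg
import Groth.Agent.VarietyA.StalkBC
import Groth.Prelude.Def_Curv2
import Mathlib.RingTheory.LocalProperties.Reduced
import Mathlib.AlgebraicGeometry.Geometrically.Reduced

/-!
# Geometric reducedness of schemes over a field

Main results: `isGeomReducedAt_iff` (Stacks 035W), `isGeomReducedAt_of_specializes` (04KS (1)).
-/

set_option autoImplicit false
universe u
open CategoryTheory CategoryTheory.Limits AlgebraicGeometry TensorProduct

attribute [local instance] Curv2.resAlgebra Curv2.stalkAlgebra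

namespace Groth.Agent.VarietyA.GeomRed

open Groth.Agent.VarietyA.StalkBC Groth.Agent.VarietyA.GeomRedAlg

variable (k : Type u) [Field k] (X : Scheme.{u}) [X.Over (Spec (CommRingCat.of k))]

lemma algebraMap_stalk_eq (x : X) :
    algebraMap k (X.presheaf.stalk x) = stalkRingHom (X ↘ Spec (CommRingCat.of k)) x := rfl

/-- If `𝒪_{X,x}` is geometrically reduced then `X` is geometrically reduced at `x`. -/
theorem isGeomReducedAt_of_stalk (x : X) [Algebra.IsGeometricallyReduced k (X.presheaf.stalk x)] :
    Curv2.IsGeomReducedAt k X x := by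
  intro K _ _ z hz
  obtain ⟨q, rfl, hq⟩ := exists_specTensorTo_eq (X ↘ Spec (CommRingCat.of k)) K x
    (algebraMap_stalk_eq k X x) z hz
  have h1 : IsReduced (X.presheaf.stalk x ⊗[k] K) :=
    isReduced_tensorProduct_comm (isReduced_tensorProduct_field K)
  have h2 : IsReduced (Localization.AtPrime q.asIdeal) :=
    isReduced_localizationPreserves q.asIdeal.primeCompl _ h1
  exact isReduced_of_injective (stalkEquiv (X ↘ Spec (CommRingCat.of k)) K x
    (algebraMap_stalk_eq k X x) q) (RingEquiv.injective _)

/-- If `X` is geometrically reduced at `x` then `𝒪_{X,x}` is geometrically reduced. -/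
theorem isGeometricallyReduced_stalk (x : X) (hx : Curv2.IsGeomReducedAt k X x) :
    Algebra.IsGeometricallyReduced k (X.presheaf.stalk x) := by
  rw [Algebra.isGeometricallyReduced_field_iff]
  apply isReduced_tensorProduct_comm
  let K := AlgebraicClosure k
  change IsReduced (X.presheaf.stalk x ⊗[k] K)
  apply isReduced_ofLocalizationMaximal
  intro m hm
  let q : Spec (CommRingCat.of (X.presheaf.stalk x ⊗[k] K)) := ⟨m, hm.isPrime⟩
  have hq : q.asIdeal.comap (Algebra.TensorProduct.includeLeftRingHom (R := k)
      (A := X.presheaf.stalk x) (B := K)) = IsLocalRing.maximalIdeal _ := by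
    have : Algebra.IsIntegral (X.presheaf.stalk x) (X.presheaf.stalk x ⊗[k] K) := inferInstance
    have : (m.comap (algebraMap (X.presheaf.stalk x) (X.presheaf.stalk x ⊗[k] K))).IsMaximal :=
      Ideal.isMaximal_comap_of_isIntegral_of_isMaximal m
    exact IsLocalRing.eq_maximalIdeal this
  have h1 := fst_specTensorTo_apply (X ↘ Spec (CommRingCat.of k)) K x
    (algebraMap_stalk_eq k X x) q hq
  have h2 := hx K _ h1
  exact isReduced_of_injective (stalkEquiv (X ↘ Spec (CommRingCat.of k)) K x
    (algebraMap_stalk_eq k X x) q).symm (RingEquiv.injective _)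

/-- Stacks 035W. -/
theorem isGeomReducedAt_iff (x : X) :
    Curv2.IsGeomReducedAt k X x ↔ Algebra.IsGeometricallyReduced k (X.presheaf.stalk x) :=
  ⟨isGeometricallyReduced_stalk k X x, fun _ => isGeomReducedAt_of_stalk k X x⟩

/-- Stacks 04KS (1): geometric reducedness passes to generizations. -/
theorem isGeomReducedAt_of_specializes (x x' : X) (h : x' ⤳ x) (hx : Curv2.IsGeomReducedAt k X x) :
    Curv2.IsGeomReducedAt k X x' := by
  have := isGeometricallyReduced_stalk k X x hx
  intro K _ _ z hz
  obtain ⟨q, rfl⟩ := exists_specTensorTo_eq_of_specializes (X ↘ Spec (CommRingCat.of k)) K x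
    (algebraMap_stalk_eq k X x) z (by
      change Curv2.bcFst k X K z ⤳ x
      rw [hz]; exact h)
  have h1 : IsReduced (X.presheaf.stalk x ⊗[k] K) :=
    isReduced_tensorProduct_comm (isReduced_tensorProduct_field K)
  have h2 : IsReduced (Localization.AtPrime q.asIdeal) :=
    isReduced_localizationPreserves q.asIdeal.primeCompl _ h1
  exact isReduced_of_injective (stalkEquiv (X ↘ Spec (CommRingCat.of k)) K x
    (algebraMap_stalk_eq k X x) q) (RingEquiv.injective _)

/-- `𝒪_{X,x} ⊗[k] K` is reduced if `X_K` is. -/
theorem isReduced_stalk_tensorProduct (K : Type u) [Field K] [Algebra k K]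
    [IsReduced (Curv2.bc k X K)] (x : X) : _root_.IsReduced (X.presheaf.stalk x ⊗[k] K) := by
  apply isReduced_ofLocalizationMaximal
  intro m hm
  let q : Spec (CommRingCat.of (X.presheaf.stalk x ⊗[k] K)) := ⟨m, hm.isPrime⟩
  have h2 : _root_.IsReduced ((Curv2.bc k X K).presheaf.stalk
      (specTensorTo (X ↘ Spec (CommRingCat.of k)) K x (algebraMap_stalk_eq k X x) q)) :=
    inferInstance
  exact isReduced_of_injective (stalkEquiv (X ↘ Spec (CommRingCat.of k)) K x
    (algebraMap_stalk_eq k X x) q).symm (RingEquiv.injective _)

/-- `X` is geometrically reduced over `k` iff it is so at every point. -/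
theorem geometricallyReduced_iff_forall :
    GeometricallyReduced (X ↘ Spec (CommRingCat.of k)) ↔ ∀ x : X, Curv2.IsGeomReducedAt k X x := by
  rw [geometricallyReduced_iff, geometrically_iff_of_commRing_of_isClosedUnderIsomorphisms]
  constructor
  · intro h x K _ _ z hz
    have : IsReduced (Curv2.bc k X K) := h K
    infer_instance
  · intro h K _ _
    have h1 : ∀ z : Curv2.bc k X K, _root_.IsReduced ((Curv2.bc k X K).presheaf.stalk z) :=
      fun z => h _ K z rfl
    exact isReduced_of_isReduced_stalk (Curv2.bc k X K)

/-- version with stalks -/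
theorem geometricallyReduced_iff_forall_stalk :
    GeometricallyReduced (X ↘ Spec (CommRingCat.of k)) ↔
      ∀ x : X, Algebra.IsGeometricallyReduced k (X.presheaf.stalk x) := by
  rw [geometricallyReduced_iff_forall]
  exact forall_congr' fun x => isGeomReducedAt_iff k X x

/-- Stacks 020I -/
theorem isGeomReducedAt_of_perfectField [PerfectField k] (x : X)
    [_root_.IsReduced (X.presheaf.stalk x)] : Curv2.IsGeomReducedAt k X x := by
  have : Algebra.IsGeometricallyReduced k (X.presheaf.stalk x) :=
    isGeometricallyReduced_of_perfectField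
  exact isGeomReducedAt_of_stalk k X x

/-- Stacks 035X -/
theorem geometricallyReduced_of_purelyInseparable
    (h : ∀ (k' : Type u) [Field k'] [Algebra k k'] [FiniteDimensional k k']
      [IsPurelyInseparable k k'], IsReduced (Curv2.bc k X k')) :
    GeometricallyReduced (X ↘ (Spec (CommRingCat.of k))) := by
  rw [geometricallyReduced_iff_forall_stalk]
  intro x
  apply isGeometricallyReduced_of_purelyInseparable
  intro k' _ _ _ _
  have := h k'
  exact isReduced_tensorProduct_comm (isReduced_stalk_tensorProduct k X k' x)

/-- the localization of `𝒪_{X,x}` at a prime `w` is the stalk at the corresponding generization,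
as `k`-algebras -/
noncomputable def stalkFromSpecStalkAlgEquiv (x : X) (w : Spec (X.presheaf.stalk x)) :
    X.presheaf.stalk (X.fromSpecStalk x w) ≃ₐ[k] Localization.AtPrime w.asIdeal :=
  AlgEquiv.ofRingEquiv (f := stalkFromSpecStalkEquiv x w) (fun r => by
    have := RingHom.congr_fun
      (stalkFromSpecStalkEquiv_comp (X ↘ Spec (CommRingCat.of k)) x w) r
    rw [IsScalarTower.algebraMap_apply k (X.presheaf.stalk x) (Localization.AtPrime w.asIdeal)]
    exact this)

/-- For `w` a minimal prime of `𝒪_{X,x}`, the corresponding point of `X` is a generic point of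
an irreducible component. -/
lemma closure_mem_irreducibleComponents {X : Scheme.{u}} (x : X) (w : Spec (X.presheaf.stalk x))
    (hw : w.asIdeal ∈ minimalPrimes (X.presheaf.stalk x)) :
    closure {X.fromSpecStalk x w} ∈ irreducibleComponents (X : Type u) := by
  refine ⟨isIrreducible_singleton.closure, fun Z hZ hle => ?_⟩
  -- let `y` be the generic point of the closure of `Z`
  have hZ' : IsIrreducible Z := hZ
  let y := hZ'.genericPoint
  have hy : closure {y} = closure Z := hZ'.genericPoint_closure_eq
  have h1 : y ⤳ X.fromSpecStalk x w := by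
    rw [specializes_iff_mem_closure, hy]
    exact subset_closure (hle (subset_closure rfl))
  have h2 : X.fromSpecStalk x w ⤳ x := by
    have : X.fromSpecStalk x w ∈ Set.range (X.fromSpecStalk x) := ⟨w, rfl⟩
    rwa [Scheme.range_fromSpecStalk] at this
  obtain ⟨w', hw'⟩ : y ∈ Set.range (X.fromSpecStalk x) := by
    rw [Scheme.range_fromSpecStalk]
    exact h1.trans h2
  rw [← hw', (X.fromSpecStalk x).isEmbedding.isInducing.specializes_iff] at h1
  replace h1 : w'.asIdeal ≤ w.asIdeal := (PrimeSpectrum.le_iff_specializes w' w).2 h1
  have h3 : w' = w := by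
    apply PrimeSpectrum.ext
    refine le_antisymm h1 (hw.2 ⟨w'.isPrime, bot_le⟩ h1)
  rw [← h3, hw', hy]
  exact subset_closure

/-- Stacks 04KS (3) -/
theorem geometricallyReduced_of_generic_points [IsReduced X]
    (h : ∀ Z ∈ irreducibleComponents (X : Type u), ∀ η : X, IsGenericPoint η Z →
      Curv2.IsGeomReducedAt k X η) :
    GeometricallyReduced (X ↘ (Spec (CommRingCat.of k))) := by
  rw [geometricallyReduced_iff_forall_stalk]
  intro x
  apply isGeometricallyReduced_of_minimalPrimes
  intro p hp hpm
  let w : Spec (X.presheaf.stalk x) := ⟨p, hp⟩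
  have h1 := h _ (closure_mem_irreducibleComponents x w hpm) (X.fromSpecStalk x w) rfl
  have h2 := isGeometricallyReduced_stalk k X _ h1
  have h3 : Algebra.IsGeometricallyReduced k (Localization.AtPrime p) :=
    isGeometricallyReduced_of_algEquiv (stalkFromSpecStalkAlgEquiv k X x w)
  -- the localization at `p` is a field so it injects in the residue field
  have h4 : IsField (Localization.AtPrime p) := by
    rw [← PrimeSpectrum.subsingleton_iff_isField_of_isReduced]
    exact IsLocalization.subsingleton_primeSpectrum_of_mem_minimalPrimes _ hpm _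
  have h5 : Function.Bijective (algebraMap (Localization.AtPrime p) p.ResidueField) := by
    let _ := h4.toField
    refine ⟨RingHom.injective _, IsLocalRing.residue_surjective⟩
  let e : Localization.AtPrime p ≃ₐ[k] p.ResidueField :=
    AlgEquiv.ofBijective (IsScalarTower.toAlgHom k _ _) h5
  exact isGeometricallyReduced_of_algEquiv e

/-- Stacks 04KS (4) -/
theorem geometricallyReduced_iff_functionField [IsIntegral X] :
    GeometricallyReduced (X ↘ (Spec (CommRingCat.of k))) ↔
      Algebra.IsGeometricallyReduced k X.functionField := by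
  constructor
  · intro h
    rw [geometricallyReduced_iff_forall_stalk] at h
    exact h (genericPoint X)
  · intro h
    apply geometricallyReduced_of_generic_points
    intro Z hZ η hη
    rw [irreducibleComponents_eq_singleton, Set.mem_singleton_iff] at hZ
    subst hZ
    have : η = genericPoint X := hη.eq (genericPoint_spec X)
    subst this
    exact isGeomReducedAt_of_stalk k X _

end Groth.Agent.VarietyA.GeomRed
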