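import Groth.Agent.VarietyA.TensPairing
import Groth.Agent.VarietyA.Flasque1
import Groth.Agent.Dcoh.Restrict
import Groth.Agent.S0453
import Groth.Agent.S0458
import Mathlib.AlgebraicGeometry.FunctionField

/-!
# Cohomology of torsion modules on one-dimensional irreducible schemes

On an irreducible Noetherian scheme of dimension at most one, a module all of whose sections vanish on
nonempty opens has no higher cohomology; a morphism which is bijective over a nonempty open is
surjective on `H^n`, `n ≥ 1`.
-/

set_option autoImplicit false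
universe u
open CategoryTheory CategoryTheory.Limits AlgebraicGeometry Opposite TopologicalSpace
open Groth.Agent.CohqB.ToSheafExact Groth.Agent.CohqB.HSeqMod
open Groth.Agent.Fdesc

namespace Groth.Agent.VarietyA.TorsionVanish

variable {X : Scheme.{u}}

/-- All sections vanish on a nonempty open subset. -/
def IsTorsion (M : X.Modules) : Prop :=
  ∀ (U : X.Opens) (s : Γ(M, U)), ∃ (V : X.Opens) (hVU : V ≤ U),
    ((U : Set X).Nonempty → (V : Set X).Nonempty) ∧ LocGen.res M hVU s = 0

theorem IsTorsion.subsingleton [IrreducibleSpace X] [NoetherianSpace X]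
    (hd : topologicalKrullDim X ≤ 1) {M : X.Modules} (h : IsTorsion M) (n : ℕ) :
    Subsingleton (Coh.HH X M (n + 1)) := by
  have h1 : TopCat.Sheaf.IsFlasque ((toAbF X).obj M) :=
    Flasque1.isFlasque_of_torsion (X := X.toPresheafedSpace.carrier) hd ((toAbF X).obj M) h
  exact @Groth.Agent.S0453.result X.toPresheafedSpace.carrier ((toAbF X).obj M) h1 n

theorem subsingleton_of_two_le [NoetherianSpace X] (hd : topologicalKrullDim X ≤ 1) (M : X.Modules)
    (n : ℕ) (hn : 2 ≤ n) : Subsingleton (Coh.HH X M n) :=
  @Groth.Agent.S0458.result X.toPresheafedSpace.carrier _ 1 (by exact_mod_cast hd) (Coh.toAb M) n hn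

section KerCoker

variable [IrreducibleSpace X] {A B : X.Modules} (u : A ⟶ B) (U : X.Opens) (hU : (U : Set X).Nonempty)
  (hbij : ∀ V : X.Opens, V ≤ U → Function.Bijective (u.app V))

include hU in
theorem inter_nonempty (W : X.Opens) (hW : (W : Set X).Nonempty) : ((W ⊓ U : X.Opens) : Set X).Nonempty :=
  nonempty_preirreducible_inter W.isOpen U.isOpen hW hU

include hU hbij in
theorem isTorsion_kernel : IsTorsion (kernel u) := by
  intro W s
  refine ⟨W ⊓ U, inf_le_left, inter_nonempty U hU W, ?_⟩
  have hmono : Function.Injective ((kernel.ι u).app (W ⊓ U)) := by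
    have h2 : Mono ((Scheme.Modules.toPresheaf X).map (kernel.ι u)) := inferInstance
    have h3 := (NatTrans.mono_iff_mono_app _).1 h2 (op (W ⊓ U))
    exact (AddCommGrpCat.mono_iff_injective _).1 h3
  apply hmono
  rw [map_zero]
  apply (hbij (W ⊓ U) inf_le_right).1
  rw [map_zero]
  have h0 : (kernel.ι u ≫ u).app (W ⊓ U) = 0 := by rw [kernel.condition]; rfl
  exact congr($h0 (LocGen.res _ inf_le_left s))

include hU hbij in
theorem isTorsion_cokernel : IsTorsion (cokernel u) := by
  intro W s
  by_cases hW : (W : Set X).Nonempty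
  · obtain ⟨x, hxW, hxU⟩ := inter_nonempty U hU W hW
    obtain ⟨V, hVW, t, hxV, ht⟩ := Dcoh.Restrict.exists_local_preimage (cokernel.π u) (W ⊓ U)
      (LocGen.res _ inf_le_left s) x ⟨hxW, hxU⟩
    refine ⟨V, hVW.trans inf_le_left, fun _ => ⟨x, hxV⟩, ?_⟩
    obtain ⟨a, ha⟩ := (hbij V (hVW.trans inf_le_right)).2 t
    have h0 : (u ≫ cokernel.π u).app V = 0 := by rw [cokernel.condition]; rfl
    have h1 : (cokernel.π u).app V t = 0 := by
      rw [← ha]
      exact congr($h0 a)
    have h2 : LocGen.res (cokernel u) (hVW.trans inf_le_left) s =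
        LocGen.res (cokernel u) hVW (LocGen.res (cokernel u) inf_le_left s) := (LocGen.res_res _ _ _ _).symm
    rw [h2]
    exact ht.symm.trans h1
  · refine ⟨⊥, bot_le, fun h => absurd h hW, ?_⟩
    exact LocGen.res_ext _ (fun i : Empty => i.elim) (fun i => i.elim) bot_le fun i => i.elim

end KerCoker

section Abelian

variable {C : Type*} [Category C] [Abelian C]

theorem shortExact_ker {A B : C} (u : A ⟶ B) :
    (ShortComplex.mk (kernel.ι u) (Abelian.factorThruImage u) (by
      rw [← cancel_mono (Abelian.image.ι u)]; simp)).ShortExact := by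
  have h := ShortComplex.exact_kernel u
  refine { exact := ?_ , mono_f := inferInstance, epi_g := inferInstance }
  let φ : ShortComplex.mk (kernel.ι u) (Abelian.factorThruImage u) (by
      rw [← cancel_mono (Abelian.image.ι u)]; simp) ⟶ ShortComplex.mk (kernel.ι u) u (by simp) :=
    { τ₁ := 𝟙 _, τ₂ := 𝟙 _, τ₃ := Abelian.image.ι u }
  exact (ShortComplex.exact_iff_of_epi_of_isIso_of_mono φ).2 h

theorem shortExact_coker {A B : C} (u : A ⟶ B) :
    (ShortComplex.mk (Abelian.image.ι u) (cokernel.π u) (by simp)).ShortExact where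
  exact := ShortComplex.exact_of_f_is_kernel _ (kernelIsKernel _)
  mono_f := inferInstance
  epi_g := inferInstance

end Abelian

/-- `H^n(A) → H^n(B)` is surjective as soon as `H^{n+1}` of the kernel and `H^n` of the cokernel vanish. -/
theorem hmap_surjective_of_ker_coker {A B : X.Modules} (u : A ⟶ B) (n : ℕ)
    (hk : Subsingleton (Coh.HH X (kernel u) (n + 1))) (hc : Subsingleton (Coh.HH X (cokernel u) n)) :
    Function.Surjective (hmap u n) := by
  intro y
  obtain ⟨z, rfl⟩ := exact₂ (shortExact_coker u) n y (@Subsingleton.elim _ hc _ _)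
  obtain ⟨w, rfl⟩ := exact₃ (shortExact_ker u) n z (@Subsingleton.elim _ hk _ _)
  refine ⟨w, ?_⟩
  rw [← hmap_comp_apply]
  exact congrArg (fun t => hmap t n w) (Abelian.image.fac u).symm

/-- A morphism of modules on an irreducible Noetherian scheme of dimension at most one which is
bijective over a nonempty open is surjective on `H^n` for `n ≥ 1`. -/
theorem hmap_surjective_of_bijective [IrreducibleSpace X] [NoetherianSpace X]
    (hd : topologicalKrullDim X ≤ 1) {A B : X.Modules} (u : A ⟶ B) (U : X.Opens)
    (hU : (U : Set X).Nonempty) (hbij : ∀ V : X.Opens, V ≤ U → Function.Bijective (u.app V)) (n : ℕ) :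
    Function.Surjective (hmap u (n + 1)) :=
  hmap_surjective_of_ker_coker u (n + 1) ((isTorsion_kernel u U hU hbij).subsingleton hd (n + 1))
    ((isTorsion_cokernel u U hU hbij).subsingleton hd n)

/-- A nonzero global section of an invertible module on an integral scheme generates it over some
nonempty open. -/
theorem exists_isGen_of_ne_zero [IsIntegral X] {N : X.Modules} (hN : PicF.IsInvertible N)
    {m : Γ(N, ⊤)} (hm : m ≠ 0) : ∃ U : X.Opens, (U : Set X).Nonempty ∧
      LocGen.IsGen (LocGen.res N (le_top : U ≤ ⊤) m) := by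
  by_contra hcon
  push Not at hcon
  apply hm
  choose U e hxU he using (LocGen.isInvertible_iff N).1 hN
  refine LocGen.res_ext N (fun x => U x) (fun x => le_top)
    (fun x _ => Opens.mem_iSup.mpr ⟨x, hxU x⟩) fun x => ?_
  rw [map_zero]
  obtain ⟨a, ha⟩ := (he x).exists_eq (LocGen.res N (le_top : U x ≤ ⊤) m)
  by_contra hne
  have ha0 : a ≠ 0 := by
    rintro rfl
    apply hne
    rw [ha, zero_smul]
  have hD : ((X.basicOpen a : X.Opens) : Set X).Nonempty := by
    by_contra hempty
    rw [Set.not_nonempty_iff_eq_empty] at hempty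
    apply ha0
    have hbot : X.basicOpen a = ⊥ := by
      ext y
      have : y ∉ ((X.basicOpen a : X.Opens) : Set X) := by rw [hempty]; exact Set.notMem_empty y
      simpa using this
    exact (AlgebraicGeometry.basicOpen_eq_bot_iff a).1 hbot
  apply hcon (X.basicOpen a) hD
  have h1 : LocGen.res N (le_top : X.basicOpen a ≤ ⊤) m =
      LocGen.ores (X.basicOpen_le a) a • LocGen.res N (X.basicOpen_le a) (e x) := by
    rw [← LocGen.res_smul, ← ha, LocGen.res_res]
  rw [h1]
  exact ((he x).res (X.basicOpen_le a)).unit_smul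
    (RingedSpace.isUnit_res_basicOpen X.toRingedSpace a)

/-- Multiplication by a nonzero section of an invertible module is surjective on `H^n`, `n ≥ 1`, on an
integral Noetherian scheme of dimension at most one. -/
theorem hmap_mulSec_surjective [IsIntegral X] [NoetherianSpace X]
    (hd : topologicalKrullDim X ≤ 1) (F : X.Modules) {N : X.Modules} (hN : PicF.IsInvertible N)
    {m : Γ(N, ⊤)} (hm : m ≠ 0) (n : ℕ) :
    Function.Surjective (hmap (TensPairing.mulSec F m) (n + 1)) := by
  obtain ⟨U, hU, hgen⟩ := exists_isGen_of_ne_zero hN hm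
  refine hmap_surjective_of_bijective hd _ U hU (fun V hV => ?_) n
  have := LocGen.tmul_right_bijective F hgen hV
  convert this using 2 with f
  rw [LocGen.res_res]
  rfl

end Groth.Agent.VarietyA.TorsionVanish
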