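import Groth.Agent.CycB.RelDim2
import Groth.Agent.VarietyB.DimTop
import Groth.Prelude.Def_Flat
import Mathlib.AlgebraicGeometry.Noetherian

/-!
# Local dimension of fibres through transcendence degrees

`FlatMor.fibreDimAt f x` is the supremum of `rtd f z` (transcendence degree of `κ(z)/κ(f z)`) over
the generizations `z` of `x` in the fibre through `x`.
-/

set_option autoImplicit false

universe u

namespace Groth.Agent.VarietyA.LocDim

open AlgebraicGeometry CategoryTheory Cardinal TopologicalSpace CycB.RelDim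

variable {X Y : Scheme.{u}}

/-- In a Noetherian space every point `x` has an open neighbourhood all of whose maximal points
specialize to `x`. -/
theorem exists_opens_noetherian {V : Type*} [TopologicalSpace V] [NoetherianSpace V] [QuasiSober V]
    (x : V) : ∃ U : Opens V, x ∈ U ∧ ∀ z ∈ U, (∀ z', z' ⤳ z → z ⤳ z') → z ⤳ x := by
  let S : Set (Set V) := {T | T ∈ irreducibleComponents V ∧ x ∉ T}
  have hS : S.Finite := (NoetherianSpace.finite_irreducibleComponents (α := V)).subset
    fun T hT => hT.1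
  have hcl : IsClosed (⋃ T ∈ S, T) :=
    hS.isClosed_biUnion fun T hT => isClosed_of_mem_irreducibleComponents T hT.1
  refine ⟨⟨_, hcl.isOpen_compl⟩, ?_, ?_⟩
  · intro h
    simp only [Set.mem_iUnion] at h
    obtain ⟨T, hT, hx⟩ := h
    exact hT.2 hx
  · intro z hz hmin
    have hT := irreducibleComponent_mem_irreducibleComponents z
    have hTc : IsClosed (irreducibleComponent z) := isClosed_irreducibleComponent
    obtain ⟨z', hz'⟩ := QuasiSober.sober hT.1 hTc
    have h1 : z' ⤳ z := by
      rw [specializes_iff_mem_closure, hz'.def]; exact mem_irreducibleComponent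
    have h2 := hmin z' h1
    have h3 : x ∈ irreducibleComponent z := by
      by_contra hx
      apply hz
      simp only [Set.mem_iUnion]
      exact ⟨irreducibleComponent z, ⟨hT, hx⟩, mem_irreducibleComponent⟩
    rw [← hz'.def, ← specializes_iff_mem_closure] at h3
    exact h2.trans h3

theorem rtd_ι_comp (U : X.Opens) (g : X ⟶ Y) (z : U) : rtd (U.ι ≫ g) z = rtd g z.1 := by
  rw [rtd_comp]
  have h : rtd U.ι z = 0 := rtd_eq_zero_of_isPreimmersion _ _
  rw [h, add_zero]
  rfl

/-- the case of a scheme locally of finite type over a "field" : lower bound -/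
theorem le_localDim_of_specializes (g : X ⟶ Y) [LocallyOfFiniteType g]
    (hY : IsAffineOpen (⊤ : Y.Opens)) (hF : IsField Γ(Y, ⊤)) (x z : X) (h : z ⤳ x) :
    ∃ n : ℕ, rtd g z = n ∧ (n : WithBot ℕ∞) ≤ FlatMor.localDim X x := by
  obtain ⟨n, hn, -⟩ := exists_dim_closure g hY hF z
  refine ⟨n, hn, VarietyB.DimTop.le_localDim fun U hU => ?_⟩
  have hzU : z ∈ U := h.mem_open U.2 hU
  obtain ⟨m, hm, hm'⟩ := exists_dim_closure (Scheme.Opens.ι U ≫ g) hY hF ⟨z, hzU⟩
  have : m = n := by
    rw [rtd_ι_comp, hn] at hm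
    exact_mod_cast hm.symm
  subst this
  rw [← hm']
  exact topologicalKrullDim_subspace_le _ _

/-- the case of a scheme locally of finite type over a "field" : upper bound -/
theorem localDim_le_of_forall (g : X ⟶ Y) [LocallyOfFiniteType g] [IsLocallyNoetherian X]
    (hY : IsAffineOpen (⊤ : Y.Opens)) (hF : IsField Γ(Y, ⊤)) (x : X) (n : ℕ)
    (h : ∀ z : X, z ⤳ x → rtd g z ≤ n) :
    FlatMor.localDim X x ≤ n := by
  obtain ⟨V, hV, hxV, -⟩ := exists_isAffineOpen_mem_and_subset (x := x) (U := ⊤) trivial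
  have : IsNoetherianRing Γ(X, V) := IsLocallyNoetherian.component_noetherian ⟨V, hV⟩
  have : NoetherianSpace V := noetherianSpace_of_isAffineOpen V hV
  obtain ⟨U₀, hxU₀, hU₀⟩ := exists_opens_noetherian (V := V) ⟨x, hxV⟩
  let U : X.Opens := V.ι ''ᵁ U₀
  have hxU : x ∈ U := ⟨⟨x, hxV⟩, hxU₀, rfl⟩
  refine (VarietyB.DimTop.localDim_le U hxU).trans ?_
  change topologicalKrullDim U ≤ n
  rw [VarietyB.DimTop.topologicalKrullDim_eq_iSup_irreducibleComponents]
  refine iSup_le ?_
  rintro ⟨T, hT⟩
  have hTc : IsClosed T := isClosed_of_mem_irreducibleComponents T hT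
  obtain ⟨t, ht⟩ := QuasiSober.sober hT.1 hTc
  obtain ⟨⟨t', htV⟩, htU₀, ht'⟩ := t.2
  have ht'' : t' = t.1 := ht'
  have hgen : ∀ z' : V, z' ⤳ (⟨t', htV⟩ : V) → (⟨t', htV⟩ : V) ⤳ z' := by
    intro z' hz'
    have hz'U₀ : z' ∈ U₀ := hz'.mem_open U₀.2 htU₀
    have hzU : z'.1 ∈ U := ⟨z', hz'U₀, rfl⟩
    have h1 : (⟨z'.1, hzU⟩ : U) ⤳ t := by
      rw [subtype_specializes_iff]
      have := (subtype_specializes_iff z' (⟨t', htV⟩ : V)).mp hz'
      rw [← ht'']
      exact this
    have h2 : closure {(⟨z'.1, hzU⟩ : U)} ⊆ T := by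
      refine hT.2 isIrreducible_singleton.closure ?_
      rw [← ht.def]
      exact specializes_iff_closure_subset.mp h1
    have h3 : t ⤳ (⟨z'.1, hzU⟩ : U) := by
      rw [specializes_iff_mem_closure, ht.def]
      exact h2 (subset_closure rfl)
    have h4 : t.1 ⤳ z'.1 := (subtype_specializes_iff _ _).mp h3
    rw [← ht''] at h4
    exact (subtype_specializes_iff _ _).mpr h4
  have hspec := hU₀ _ htU₀ hgen
  have hspec' : t.1 ⤳ x := by
    rw [← ht'']
    exact (subtype_specializes_iff _ _).mp hspec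
  obtain ⟨m, hm, hm'⟩ := exists_dim_closure (Scheme.Opens.ι U ≫ g) hY hF t
  have hmn := h t.1 hspec'
  rw [rtd_ι_comp] at hm
  rw [hm] at hmn
  change topologicalKrullDim T ≤ n
  rw [← ht.def, hm']
  exact_mod_cast hmn

variable (f : X ⟶ Y) [LocallyOfFiniteType f]

/-- Lower bound of the local fibre dimension. -/
theorem le_fibreDimAt (x z : X) (h : z ⤳ x) (hf : f z = f x) :
    ∃ n : ℕ, rtd f z = n ∧ (n : WithBot ℕ∞) ≤ FlatMor.fibreDimAt f x := by
  have : z ∈ Set.range (f.fiberι (f x)) := by rw [Scheme.Hom.range_fiberι]; exact hf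
  obtain ⟨z', rfl⟩ := this
  have hsp : z' ⤳ f.asFiber x := by
    refine (f.fiberι (f x)).isEmbedding.isInducing.specializes_iff.mp ?_
    rw [Scheme.Hom.fiberι_asFiber]
    exact h
  rw [← rtd_fiberToSpecResidueField]
  have : LocallyOfFiniteType (f.fiberToSpecResidueField (f x)) :=
    inferInstanceAs (LocallyOfFiniteType (Limits.pullback.snd f (Y.fromSpecResidueField (f x))))
  exact le_localDim_of_specializes (f.fiberToSpecResidueField (f x)) (isAffineOpen_top _)
    ((Scheme.ΓSpecIso (Y.residueField (f x))).commRingCatIsoToRingEquiv.toMulEquiv.isField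
      (Field.toIsField _)) _ z' hsp

/-- Upper bound of the local fibre dimension. -/
theorem fibreDimAt_le (x : X) (n : ℕ) (h : ∀ z : X, z ⤳ x → f z = f x → rtd f z ≤ n) :
    FlatMor.fibreDimAt f x ≤ n := by
  have : LocallyOfFiniteType (f.fiberToSpecResidueField (f x)) :=
    inferInstanceAs (LocallyOfFiniteType (Limits.pullback.snd f (Y.fromSpecResidueField (f x))))
  have : IsLocallyNoetherian (f.fiber (f x)) :=
    LocallyOfFiniteType.isLocallyNoetherian (f.fiberToSpecResidueField (f x))
  refine localDim_le_of_forall (f.fiberToSpecResidueField (f x)) (isAffineOpen_top _)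
    ((Scheme.ΓSpecIso (Y.residueField (f x))).commRingCatIsoToRingEquiv.toMulEquiv.isField
      (Field.toIsField _)) _ n ?_
  intro z' hz'
  rw [rtd_fiberToSpecResidueField]
  refine h _ ?_ ?_
  · have := hz'.map (f.fiberι (f x)).continuous
    rwa [Scheme.Hom.fiberι_asFiber] at this
  · have : f.fiberι (f x) z' ∈ Set.range (f.fiberι (f x)) := ⟨z', rfl⟩
    rw [Scheme.Hom.range_fiberι] at this
    exact this

theorem rtd_le_of_specializes {x z : X} (h : z ⤳ x) (hf : f z = f x) : rtd f x ≤ rtd f z := by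
  by_cases hne : z = x
  · rw [hne]
  · exact (rtd_lt_of_specializes f h hne hf).le

end Groth.Agent.VarietyA.LocDim
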