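import Groth.Agent.CurvesA.InvAffine
import Groth.Agent.Fdesc.LocGen
import Mathlib.AlgebraicGeometry.Morphisms.Finite
import Mathlib.AlgebraicGeometry.Morphisms.QuasiFinite

/-!
# Invertible modules on finite schemes over `Y` are trivial locally on `Y`
-/

set_option autoImplicit false

universe u

open CategoryTheory CategoryTheory.Limits AlgebraicGeometry TopologicalSpace Opposite

namespace Groth.Agent.VarietyA.FinTriv

open Groth.Agent.Fdesc.LocGen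

variable {X Y : Scheme.{u}}

/-- Let `f : X ⟶ Y` be finite and `L` an invertible module on `X`.  Every point of `Y` has arbitrarily
small open neighbourhoods `W` such that `L` has a generator over `f⁻¹ W`. -/
theorem exists_isGen_preimage (f : X ⟶ Y) [IsFinite f] (L : X.Modules) (hL : PicF.IsInvertible L)
    (y : Y) (O : Y.Opens) (hy : y ∈ O) :
    ∃ (W : Y.Opens) (e : Γ(L, f ⁻¹ᵁ W)), y ∈ W ∧ W ≤ O ∧ IsGen e := by
  obtain ⟨W₀, hW₀, hyW₀, hW₀O⟩ := exists_isAffineOpen_mem_and_subset (x := y) (U := O) hy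
  have hU : IsAffineOpen (f ⁻¹ᵁ W₀) := hW₀.preimage f
  have hLU : ∀ x ∈ f ⁻¹ᵁ W₀, ∃ (V : X.Opens), x ∈ V ∧
      ∃ s : Γ(L, V), Ega4dA.GenSec.IsGen L V s := by
    intro x _
    obtain ⟨U, e, hx, he⟩ := (isInvertible_iff L).mp hL x
    exact ⟨U, hx, e, he⟩
  have hfin : (f ⁻¹' {y}).Finite := f.finite_preimage_singleton y
  obtain ⟨s, hs⟩ := CurvesA.InvAffine.exists_section_of_finite L hU hLU hfin.toFinset (by
    intro x hx
    have : f x = y := by simpa using hx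
    change f x ∈ W₀
    rw [this]; exact hyW₀)
  let G : Set X := {x | ∃ (V : X.Opens) (h : V ≤ f ⁻¹ᵁ W₀), x ∈ V ∧ IsGen (res L h s)}
  have hG : IsOpen G := by
    rw [isOpen_iff_forall_mem_open]
    rintro x ⟨V, h, hx, hg⟩
    exact ⟨V, fun z hz => ⟨V, h, hz, hg⟩, V.2, hx⟩
  have hcl : IsClosed (f '' Gᶜ) := f.isClosedMap _ hG.isClosed_compl
  let W : Y.Opens := W₀ ⊓ ⟨(f '' Gᶜ)ᶜ, hcl.isOpen_compl⟩
  have hWW₀ : W ≤ W₀ := inf_le_left
  have hle : f ⁻¹ᵁ W ≤ f ⁻¹ᵁ W₀ := f.preimage_mono hWW₀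
  refine ⟨W, res L hle s, ⟨hyW₀, ?_⟩, hWW₀.trans hW₀O, ?_⟩
  · rintro ⟨x, hx, hxy⟩
    apply hx
    obtain ⟨V, hV, hxV, hgen⟩ := hs x (by simpa using hxy)
    exact ⟨V, hV, hxV, hgen⟩
  · rw [isGen_iff_forall_exists]
    intro x hx
    have hxG : x ∈ G := by
      by_contra h
      exact hx.2 ⟨x, h, rfl⟩
    obtain ⟨V, hV, hxV, hgen⟩ := hxG
    refine ⟨f ⁻¹ᵁ W ⊓ V, inf_le_left, ⟨hx, hxV⟩, ?_⟩
    have h1 := hgen.res (inf_le_right : f ⁻¹ᵁ W ⊓ V ≤ V)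
    rw [res_res] at h1 ⊢
    exact h1

end Groth.Agent.VarietyA.FinTriv
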