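import Groth.Agent.VarietyA.GeomIrrGen
import Mathlib.AlgebraicGeometry.Morphisms.Integral

/-!
# Geometric connectedness from one geometrically connected fibre
-/

namespace Groth.Agent.VarietyA.GeomConn

open TensorProduct CategoryTheory CategoryTheory.Limits AlgebraicGeometry

universe u v w

/-- If `f : Y → X` is open and closed, `X` is connected and one fibre is connected (nonempty), then
`Y` is connected. -/
theorem connectedSpace_of_fiber {X Y : Type*} [TopologicalSpace X] [TopologicalSpace Y] (f : Y → X)
    (hfo : IsOpenMap f) (hfc : IsClosedMap f) [ConnectedSpace X] (x : X)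
    (hx : IsConnected (f ⁻¹' {x})) : ConnectedSpace Y := by
  have hne : Nonempty Y := ⟨hx.nonempty.some⟩
  have hpre : PreconnectedSpace Y := by
    rw [preconnectedSpace_iff_clopen]
    intro U hU
    by_contra hcon
    rw [not_or] at hcon
    obtain ⟨hU0, hU1⟩ := hcon
    have key : ∀ V : Set Y, IsClopen V → V.Nonempty → x ∈ f '' V := by
      intro V hV hne
      have h1 : IsClopen (f '' V) := ⟨hfc _ hV.1, hfo _ hV.2⟩
      rcases isClopen_iff.1 h1 with h2 | h2
      · exact absurd h2 (hne.image f).ne_empty
      · rw [h2]; trivial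
    obtain ⟨y, hyU, hy⟩ := key U hU (Set.nonempty_iff_ne_empty.2 hU0)
    obtain ⟨z, hzU, hz⟩ := key Uᶜ hU.compl (Set.nonempty_compl.2 hU1)
    have := hx.isPreconnected.subset_isClopen hU ⟨y, hy, hyU⟩
    exact hzU (this hz)
  exact { hpre with toNonempty := hne }

/-- Stacks 04KV. -/
theorem geometricallyConnected_of_point (k : Type u) [Field k] {X : Scheme.{u}}
    (f : X ⟶ Spec (CommRingCat.of k)) [ConnectedSpace X] (x : X)
    [Algebra k (X.residueField x)]
    (h : X.fromSpecResidueField x ≫ f =
      Spec.map (CommRingCat.ofHom (algebraMap k (X.residueField x))))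
    (hF : ∀ a : X.residueField x, IsSeparable k a → a ∈ (algebraMap k (X.residueField x)).range) :
    GeometricallyConnected f := by
  let ks := SeparableClosure k
  let p := pullback.fst f (Spec.map (CommRingCat.ofHom (algebraMap k ks)))
  have h1 : IrreducibleSpace (p.fiber x) := GeomIrr.irreducibleSpace_fiber_bc k f x h hF ks
  have h2 : IsIrreducible (p ⁻¹' {x}) := by
    rw [← p.range_fiberι, ← Set.image_univ]
    exact (IrreducibleSpace.isIrreducible_univ _).image _ (p.fiberι _).continuous.continuousOn
  have hint : IsIntegralHom (Spec.map (CommRingCat.ofHom (algebraMap k ks))) := by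
    rw [IsIntegralHom.SpecMap_iff]
    exact algebraMap_isIntegral_iff.2 inferInstance
  have hc : IsClosedMap p := p.isClosedMap
  have : ConnectedSpace ↥(pullback f (Spec.map (CommRingCat.ofHom (algebraMap k ks)))) :=
    connectedSpace_of_fiber p p.isOpenMap hc x h2.isConnected
  exact GeomIrr.geometricallyConnected_of_connectedSpace_of_isSepClosed k ks f

end Groth.Agent.VarietyA.GeomConn
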