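import Groth.Agent.PerfC.ResolAmple
import Groth.Agent.Flat2F.HHSeq
import Groth.Agent.Flat2F.FtSub
import Groth.Agent.Sga67.CohBasic
import Groth.Agent.S0014
import Groth.Agent.S0016

set_option autoImplicit false
universe u

open CategoryTheory CategoryTheory.Limits AlgebraicGeometry Opposite TopologicalSpace
open Groth.Agent.Fdesc.LocGen

namespace Groth.Agent.VarietyA.AmpleNegPow

open Groth.Agent.Ega2.TensGen Groth.Agent.Ega2.TensPow Groth.Agent.Ega2.SecCalc
open Groth.Agent.Ega2.GlobGenCrit Groth.Agent.Ega2.AmpleGlobGen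
open Groth.Agent.PerfC.ResolAmple

variable {X : Scheme.{u}}

/-- Finitely many global sections of `F ⊗ K^m` generate it over the given affine loci, with `m` as
large as we want. -/
theorem exists_finset_span_ge [CompactSpace X] [QuasiSeparatedSpace X] {F K : X.Modules}
    (hK : PicF.IsInvertible K) {ι : Type*} [Finite ι] (s : ι → (Coh.structureModule X ⟶ K))
    (haff : ∀ i, IsAffineOpen (CohB1.genLocus K (s i))) (hF : Coh.IsQCoh F) (hF' : CohB1.IsFT F)
    (n₀ : ℕ) :
    ∃ (m : ℕ) (_ : n₀ ≤ m) (S : Finset Γ(CohB1.tensorMod F (CohB1.tensorPow K m), ⊤)), ∀ i,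
      Submodule.span Γ(X, CohB1.genLocus K (s i))
        (res (CohB1.tensorMod F (CohB1.tensorPow K m))
          (le_top : CohB1.genLocus K (s i) ≤ ⊤) '' (S : Set _)) = ⊤ := by
  classical
  cases nonempty_fintype ι
  have h0 : ∀ i, ∃ T : Finset Γ(F, CohB1.genLocus K (s i)),
      Submodule.span Γ(X, CohB1.genLocus K (s i)) (T : Set Γ(F, CohB1.genLocus K (s i))) = ⊤ :=
    fun i => (CohqB.FiniteType2.finite_sections_of_isFT F hF' (haff i)).fg_top
  choose T hT using h0
  choose n hn using fun (i : ι) (t : Γ(F, CohB1.genLocus K (s i))) =>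
    exists_extend_top hF hK (s i) t
  let m := max n₀ (Finset.univ.sup fun i => (T i).sup (n i))
  have hm : ∀ i, ∀ t ∈ T i, n i t ≤ m := fun i t ht =>
    ((Finset.le_sup (f := n i) ht).trans
      (Finset.le_sup (f := fun i => (T i).sup (n i)) (Finset.mem_univ i))).trans (le_max_right _ _)
  have h1 : ∀ i (t : Γ(F, CohB1.genLocus K (s i))), ∃ t' : Γ(CohB1.tensorMod F (CohB1.tensorPow K m), ⊤),
      t ∈ T i → res _ (le_top : CohB1.genLocus K (s i) ≤ ⊤) t' =
        tmul t (pow (sec (s i) (CohB1.genLocus K (s i))) m) := by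
    intro i t
    by_cases ht : t ∈ T i
    · obtain ⟨t', ht'⟩ := hn i t m (hm i t ht)
      exact ⟨t', fun _ => ht'⟩
    · exact ⟨0, fun h => absurd h ht⟩
  choose t' ht' using h1
  refine ⟨m, le_max_left _ _, Finset.univ.biUnion fun i => (T i).image (t' i), fun i => ?_⟩
  rw [eq_top_iff]
  intro v _
  obtain ⟨t, rfl⟩ := exists_eq_tmul ((isGen_sec_genLocus (s i)).pow m) v
  have ht : t ∈ Submodule.span Γ(X, CohB1.genLocus K (s i))
      (T i : Set Γ(F, CohB1.genLocus K (s i))) := by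
    rw [hT]; trivial
  induction ht using Submodule.span_induction with
  | mem t ht =>
    rw [← ht' i t ht]
    refine Submodule.subset_span ⟨t' i t, ?_, rfl⟩
    simp only [Finset.coe_biUnion, Set.mem_iUnion]
    exact ⟨i, Finset.mem_coe.2 (Finset.mem_univ i), Finset.mem_coe.2 (Finset.mem_image_of_mem _ ht)⟩
  | zero => rw [zero_tmul]; exact zero_mem _
  | add a b _ _ ha hb => rw [add_tmul]; exact add_mem (ha trivial) (hb trivial)
  | smul r a _ ha => rw [smul_tmul]; exact Submodule.smul_mem _ _ (ha trivial)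

/-- `O^n ≅ O`. -/
noncomputable def powUnit (X : Scheme.{u}) : (n : ℕ) →
    (CohB1.tensorPow (Coh.structureModule X) n ≅ Coh.structureModule X)
  | 0 => Iso.refl _
  | n + 1 => Ega2.Tens.mapTIso (powUnit X n) (Iso.refl _) ≪≫ Ega2.Tens.lunit _

/-- If `L ⊗ L' ≅ O` then `L^n ⊗ L'^n ≅ O`. -/
noncomputable def powInv {L L' : X.Modules} (e : CohB1.tensorMod L L' ≅ Coh.structureModule X)
    (n : ℕ) : CohB1.tensorMod (CohB1.tensorPow L n) (CohB1.tensorPow L' n) ≅
      Coh.structureModule X :=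
  (powTensor L L' n).symm ≪≫ powIso e n ≪≫ powUnit X n

/-- If `M ⊗ K` is generated by finitely many global sections with `K ⊗ K' ≅ O`, then `M` is a
quotient of a finite direct sum of copies of `K'`. -/
theorem exists_epi_of_epi {M K K' : X.Modules}
    (e : CohB1.tensorMod K K' ≅ Coh.structureModule X) {κ : Type u} [Finite κ]
    (s : κ → (Coh.structureModule X ⟶ CohB1.tensorMod M K)) (hs : Epi (desc s)) :
    ∃ (φ : κ → (K' ⟶ M)), Epi (Sigma.desc φ) := by
  let Φ := DCoh.tensorRightMod K'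
  let θ : Φ.obj (CohB1.tensorMod M K) ≅ M := (PerfB.TensInv.tensorInvIso e).app M
  let ψ : K' ≅ Φ.obj (Coh.structureModule X) := (Ega2.Tens.lunit K').symm
  refine ⟨fun k => ψ.hom ≫ Φ.map (s k) ≫ θ.hom, Preadditive.epi_of_cancel_zero _ fun {Z} f hf => ?_⟩
  have h1 : ∀ k, Φ.map (s k) ≫ θ.hom ≫ f = 0 := by
    intro k
    have := congrArg (fun t => Sigma.ι (fun _ : κ => K') k ≫ t) hf
    simp only [Sigma.ι_desc_assoc, comp_zero, Category.assoc] at this
    rwa [← cancel_epi ψ.hom, comp_zero]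
  have hs' : Epi (Sigma.desc s : (∐ fun _ : κ => Coh.structureModule X) ⟶ CohB1.tensorMod M K) := hs
  have hs'' : Epi (Φ.map (Sigma.desc s : (∐ fun _ : κ => Coh.structureModule X) ⟶
    CohB1.tensorMod M K)) := inferInstance
  have h4 : θ.hom ≫ f = 0 := hom_ext_of_epi_desc Φ s hs'' _ _ fun k => by
    rw [h1 k, comp_zero]
  rw [← cancel_epi θ.hom, h4, comp_zero]

/-- On a scheme with an ample invertible module `L` with inverse `L'`, every quasi-coherent module
of finite type is a quotient of a finite direct sum of copies of `L'^N`, `N ≥ n₀`. -/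
theorem exists_epi {L L' : X.Modules} (hL : CohB1.IsAmple L)
    (e : CohB1.tensorMod L L' ≅ Coh.structureModule X) (n₀ : ℕ) {M : X.Modules}
    (hM : Coh.IsQCoh M) (hM' : CohB1.IsFT M) :
    ∃ (N : ℕ) (_ : n₀ ≤ N) (κ : Type u) (_ : Finite κ) (φ : κ → (CohB1.tensorPow L' N ⟶ M)),
      Epi (Sigma.desc φ) := by
  classical
  have hc : CompactSpace X := hL.2.1
  have hqs : QuasiSeparatedSpace X := Flat2H.FamOpen.quasiSeparatedSpace_of_isAmple hL
  obtain ⟨d, ι, _, s, haff, hcov⟩ := exists_common_cover hL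
  have hK : PicF.IsInvertible (CohB1.tensorPow L (d + 1)) := isInvertible_tensorPow hL.1 (d + 1)
  obtain ⟨m, hm, S, hS⟩ := exists_finset_span_ge hK s haff hM hM' n₀
  have hKm := isInvertible_tensorPow hK m
  have h1 : Epi (desc (fun k : S => homOf k.1)) := by
    refine epi_desc_of_span (isQCoh_tensor hM hKm) (fun i => CohB1.genLocus _ (s i)) haff hcov _
      fun i => ?_
    convert hS i using 3
    ext v
    constructor
    · rintro ⟨k, rfl⟩
      exact ⟨k.1, k.2, (sec_homOf k.1 _).symm⟩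
    · rintro ⟨k, hk, rfl⟩
      exact ⟨⟨k, hk⟩, sec_homOf k _⟩
  let e' : CohB1.tensorMod (CohB1.tensorPow (CohB1.tensorPow L (d + 1)) m)
      (CohB1.tensorPow L' ((d + 1) * m)) ≅ Coh.structureModule X :=
    Ega2.Tens.mapTIso (powMul L (d + 1) m) (Iso.refl _) ≪≫ powInv e ((d + 1) * m)
  obtain ⟨φ, hφ⟩ := exists_epi_of_epi e' (κ := S) (fun k => homOf k.1) h1
  exact ⟨(d + 1) * m, hm.trans (Nat.le_mul_of_pos_left m d.succ_pos), S, inferInstance, φ, hφ⟩

end Groth.Agent.VarietyA.AmpleNegPow
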