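import Groth.Agent.VarietyA.StalkBC
import Groth.Prelude.Def_Curv2

/-!
# Changing the base field (Stacks 0384)
-/

set_option autoImplicit false
universe u
open CategoryTheory CategoryTheory.Limits AlgebraicGeometry TensorProduct

namespace Groth.Agent.VarietyA.GeomRedBC

open Groth.Agent.VarietyA.StalkBC

/-- stalks along flat morphisms: the source stalk reduced implies the target stalk reduced. -/
lemma isReduced_stalk_of_flat {X Y : Scheme.{u}} (g : X ⟶ Y) [Flat g] (x : X)
    [_root_.IsReduced (X.presheaf.stalk x)] : _root_.IsReduced (Y.presheaf.stalk (g x)) := by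
  have h2 : (g.stalkMap x).hom.Flat := Flat.stalkMap g x
  have h3 : (g.stalkMap x).hom.FaithfullyFlat := by
    algebraize [(g.stalkMap x).hom]
    have : IsLocalHom (algebraMap (Y.presheaf.stalk (g x)) (X.presheaf.stalk x)) :=
      inferInstanceAs (IsLocalHom (g.stalkMap x).hom)
    exact Module.FaithfullyFlat.of_flat_of_isLocalHom
  exact isReduced_of_injective (g.stalkMap x).hom h3.injective

variable (k : Type u) [Field k] (X : Scheme.{u}) [X.Over (Spec (CommRingCat.of k))]

/-- `(X_{k'})_K` is the base change of `X` to `K` (for `K / k' / k`). -/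
lemma isPullback_bc_bc (k' : Type u) [Field k'] [Algebra k k'] (F : Type u) [Field F]
    [Algebra k' F] [Algebra k F] [IsScalarTower k k' F] :
    IsPullback
      (pullback.fst (Curv2.bcSnd k X k') (Spec.map (CommRingCat.ofHom (algebraMap k' F))) ≫
        Curv2.bcFst k X k')
      (pullback.snd (Curv2.bcSnd k X k') (Spec.map (CommRingCat.ofHom (algebraMap k' F))))
      (X ↘ Spec (CommRingCat.of k)) (Spec.map (CommRingCat.ofHom (algebraMap k F))) := by
  have h1 := (IsPullback.of_hasPullback (Curv2.bcSnd k X k')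
    (Spec.map (CommRingCat.ofHom (algebraMap k' F))))
  have h2 := (IsPullback.of_hasPullback (X ↘ Spec (CommRingCat.of k))
    (Spec.map (CommRingCat.ofHom (algebraMap k k'))))
  have h3 := h1.flip.paste_vert h2.flip
  rw [← Spec.map_comp, ← CommRingCat.ofHom_comp, ← IsScalarTower.algebraMap_eq] at h3
  exact h3.flip

/-- Given points `z` of `X_K` and `x'` of `X_{k'}` with the same image in `X`, there are a common
extension `F` of `K` and `k'`, and a point `w` of `(X_{k'})_F` over `x'`, and a flat morphism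
`g : (X_{k'})_F ⟶ X_K` of `X`-schemes with `g w = z`. -/
lemma exists_common (K : Type u) [Field K] [Algebra k K] (k' : Type u) [Field k'] [Algebra k k']
    (z : Curv2.bc k X K) (x' : Curv2.bc k X k') (h : Curv2.bcFst k X K z = Curv2.bcFst k X k' x') :
    ∃ (F : Type u) (_ : Field F) (_ : Algebra k F) (_ : Algebra k' F) (_ : Algebra K F)
      (_ : IsScalarTower k k' F) (_ : IsScalarTower k K F)
      (w : ↥(pullback (Curv2.bcSnd k X k') (Spec.map (CommRingCat.ofHom (algebraMap k' F)))))
      (g : pullback (Curv2.bcSnd k X k') (Spec.map (CommRingCat.ofHom (algebraMap k' F))) ⟶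
        Curv2.bc k X K),
      Flat g ∧ pullback.fst (Curv2.bcSnd k X k') (Spec.map (CommRingCat.ofHom (algebraMap k' F))) w
        = x' ∧ g w = z ∧
      g ≫ Curv2.bcFst k X K = pullback.fst (Curv2.bcSnd k X k')
        (Spec.map (CommRingCat.ofHom (algebraMap k' F))) ≫ Curv2.bcFst k X k' ∧
      g ≫ Curv2.bcSnd k X K = pullback.snd (Curv2.bcSnd k X k')
        (Spec.map (CommRingCat.ofHom (algebraMap k' F))) ≫
          Spec.map (CommRingCat.ofHom (algebraMap K F)) := by
  obtain ⟨w0, hw1, hw2⟩ := Scheme.Pullback.exists_preimage_pullback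
    (f := Curv2.bcFst k X K) (g := Curv2.bcFst k X k') z x' h
  let P := pullback (Curv2.bcFst k X K) (Curv2.bcFst k X k')
  let F := P.residueField w0
  let ι : Spec F ⟶ P := P.fromSpecResidueField w0
  let a : CommRingCat.of K ⟶ F := Spec.preimage (ι ≫ pullback.fst _ _ ≫ Curv2.bcSnd k X K)
  let b : CommRingCat.of k' ⟶ F := Spec.preimage (ι ≫ pullback.snd _ _ ≫ Curv2.bcSnd k X k')
  have ha : Spec.map a = ι ≫ pullback.fst _ _ ≫ Curv2.bcSnd k X K := Spec.map_preimage _
  have hb : Spec.map b = ι ≫ pullback.snd _ _ ≫ Curv2.bcSnd k X k' := Spec.map_preimage _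
  have hab : CommRingCat.ofHom (algebraMap k K) ≫ a = CommRingCat.ofHom (algebraMap k k') ≫ b := by
    apply Spec.map_injective
    rw [Spec.map_comp, Spec.map_comp, ha, hb, Category.assoc, Category.assoc, Category.assoc,
      Category.assoc]
    have e1 : Curv2.bcSnd k X K ≫ Spec.map (CommRingCat.ofHom (algebraMap k K)) =
      Curv2.bcFst k X K ≫ (X ↘ Spec (CommRingCat.of k)) := pullback.condition.symm
    have e2 : Curv2.bcSnd k X k' ≫ Spec.map (CommRingCat.ofHom (algebraMap k k')) =
      Curv2.bcFst k X k' ≫ (X ↘ Spec (CommRingCat.of k)) := pullback.condition.symm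
    rw [e1, e2, pullback.condition_assoc]
  let iF : Field F := inferInstance
  let i1 : Algebra k' F := b.hom.toAlgebra
  let i2 : Algebra K F := a.hom.toAlgebra
  let i3 : Algebra k F := (b.hom.comp (algebraMap k k')).toAlgebra
  have i4 : IsScalarTower k k' F := IsScalarTower.of_algebraMap_eq' rfl
  have i5 : IsScalarTower k K F :=
    IsScalarTower.of_algebraMap_eq' (congrArg CommRingCat.Hom.hom hab).symm
  let W := pullback (Curv2.bcSnd k X k') (Spec.map (CommRingCat.ofHom (algebraMap k' F)))
  have hpb := isPullback_bc_bc k X k' F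
  let g : W ⟶ Curv2.bc k X K := pullback.lift
    (pullback.fst (Curv2.bcSnd k X k') (Spec.map (CommRingCat.ofHom (algebraMap k' F))) ≫
        Curv2.bcFst k X k')
    (pullback.snd (Curv2.bcSnd k X k') (Spec.map (CommRingCat.ofHom (algebraMap k' F))) ≫
      Spec.map (CommRingCat.ofHom (algebraMap K F)))
    (by
      rw [hpb.w, IsScalarTower.algebraMap_eq k K F, CommRingCat.ofHom_comp, Spec.map_comp,
        Category.assoc])
  have hg1 : g ≫ Curv2.bcFst k X K = pullback.fst (Curv2.bcSnd k X k')
        (Spec.map (CommRingCat.ofHom (algebraMap k' F))) ≫ Curv2.bcFst k X k' :=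
    pullback.lift_fst _ _ _
  have hg2 : g ≫ Curv2.bcSnd k X K = pullback.snd (Curv2.bcSnd k X k')
        (Spec.map (CommRingCat.ofHom (algebraMap k' F))) ≫
          Spec.map (CommRingCat.ofHom (algebraMap K F)) := pullback.lift_snd _ _ _
  have hgpb : IsPullback g (pullback.snd (Curv2.bcSnd k X k')
      (Spec.map (CommRingCat.ofHom (algebraMap k' F)))) (Curv2.bcSnd k X K)
      (Spec.map (CommRingCat.ofHom (algebraMap K F))) := by
    apply IsPullback.of_right (h₁₂ := Curv2.bcFst k X K)
      (h₂₂ := Spec.map (CommRingCat.ofHom (algebraMap k K)))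
      (v₁₃ := X ↘ Spec (CommRingCat.of k)) _ hg2
      (IsPullback.of_hasPullback (X ↘ Spec (CommRingCat.of k))
    (Spec.map (CommRingCat.ofHom (algebraMap k K))))
    rw [hg1, ← Spec.map_comp, ← CommRingCat.ofHom_comp, ← IsScalarTower.algebraMap_eq]
    exact hpb
  let l : Spec F ⟶ W := pullback.lift (ι ≫ pullback.snd _ _) (𝟙 _) (by
    rw [Category.assoc, Category.id_comp]
    exact hb.symm)
  have hl : l ≫ g = ι ≫ pullback.fst _ _ := by
    apply pullback.hom_ext
    · change (l ≫ g) ≫ Curv2.bcFst k X K = (ι ≫ pullback.fst _ _) ≫ Curv2.bcFst k X K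
      rw [Category.assoc, hg1, pullback.lift_fst_assoc, Category.assoc, Category.assoc,
        pullback.condition]
    · change (l ≫ g) ≫ Curv2.bcSnd k X K = (ι ≫ pullback.fst _ _) ≫ Curv2.bcSnd k X K
      rw [Category.assoc, hg2, pullback.lift_snd_assoc, Category.id_comp, Category.assoc]
      exact ha
  let pt : Spec F := IsLocalRing.closedPoint F
  have hpt : ι pt = w0 := Scheme.fromSpecResidueField_apply _ _
  refine ⟨F, iF, i3, i1, i2, i4, i5, l pt, g, ?_, ?_, ?_, hg1, hg2⟩
  · exact MorphismProperty.of_isPullback hgpb.flip inferInstance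
  · rw [← Scheme.Hom.comp_apply, pullback.lift_fst, Scheme.Hom.comp_apply, hpt, hw2]
  · rw [← Scheme.Hom.comp_apply, hl, Scheme.Hom.comp_apply, hpt, hw1]

/-- Stacks 0384 -/
theorem isGeomReducedAt_iff_baseChange (k' : Type u) [Field k'] [Algebra k k']
    (x : X) (x' : Curv2.bc k X k') (hx : Curv2.bcFst k X k' x' = x) :
    Curv2.IsGeomReducedAt k X x ↔
      @Curv2.IsGeomReducedAt k' _ (Curv2.bc k X k') ⟨Curv2.bcSnd k X k'⟩ x' := by
  constructor
  · intro h K _ _ z hz
    let _ : Algebra k K := ((algebraMap k' K).comp (algebraMap k k')).toAlgebra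
    have : IsScalarTower k k' K := IsScalarTower.of_algebraMap_eq' rfl
    have hpb := isPullback_bc_bc k X k' K
    let e := hpb.isoPullback
    have he : e.hom ≫ Curv2.bcFst k X K =
      pullback.fst (Curv2.bcSnd k X k') (Spec.map (CommRingCat.ofHom (algebraMap k' K))) ≫
        Curv2.bcFst k X k' := hpb.isoPullback_hom_fst
    have h1 : Curv2.bcFst k X K (e.hom z) = x := by
      rw [← Scheme.Hom.comp_apply, he, Scheme.Hom.comp_apply, ← hx]
      exact congrArg _ hz
    have h2 := h K (e.hom z) h1
    exact isReduced_of_injective (asIso (e.hom.stalkMap z)).symm.commRingCatIsoToRingEquiv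
      (RingEquiv.injective _)
  · intro h K _ _ z hz
    obtain ⟨F, iF, i1, i2, i3, i4, i5, w, g, hg, hw, hgw, -, -⟩ :=
      exists_common k X K k' z x' (hz.trans hx.symm)
    rw [← hgw]
    have h1 : _root_.IsReduced ((pullback (Curv2.bcSnd k X k')
      (Spec.map (CommRingCat.ofHom (algebraMap k' F)))).presheaf.stalk w) := h F w hw
    exact isReduced_stalk_of_flat g w

end Groth.Agent.VarietyA.GeomRedBC
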