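import Groth.Agent.VarietyA.LocDim
import Groth.Agent.S0554
import Mathlib.AlgebraicGeometry.PullbackCarrier
import Mathlib.AlgebraicGeometry.Stalk

/-!
# The dimension inequality for morphisms locally of finite type
-/

set_option autoImplicit false

universe u

namespace Groth.Agent.VarietyA.DimIneq

open AlgebraicGeometry CategoryTheory Cardinal TopologicalSpace CycB.RelDim CycB.TrdegAlg CycB

variable {X Y : Scheme.{u}}

theorem height_le_height_comap {T S : Type u} [CommRing T] [CommRing S] [IsNoetherianRing S]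
    (f : T →+* S) (hf : Function.Surjective f) (q : Ideal S) [q.IsPrime] :
    q.height ≤ (q.comap f).height := by
  obtain ⟨l, hl, hlen⟩ := q.exists_ltSeries_length_eq_height
  let l' : LTSeries (PrimeSpectrum T) :=
    l.map (PrimeSpectrum.comap f) (RingHom.strictMono_comap_of_surjective hf)
  rw [← hlen, (⟨q.comap f, inferInstance⟩ : PrimeSpectrum T).height_eq_orderHeight]
  have : (l.length : ℕ∞) = (l'.length : ℕ∞) := by simp [l']
  rw [this]
  apply Order.length_le_height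
  simp [l', hl]
  rfl

/-- algebra: `A → B` of finite type with `A` Noetherian, `P < Q` primes of `B`, `ψ_A`, `ψ_B` the maps
to residue fields. -/
theorem alg_ineq {A B : Type u} [CommRing A] [CommRing B] [IsNoetherianRing A] (φ : A →+* B)
    (hφ : φ.FiniteType) {K L : Type u} [Field K] [Field L] (ψA : A →+* K) (ψB : B →+* L)
    (θ : K →+* L) (comm : θ.comp ψA = ψB.comp φ) (hA : FracGen ψA) (hB : FracGen ψB)
    (P Q : Ideal B) [P.IsPrime] (hQ : Q = RingHom.ker ψB) (hlt : P < Q) :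
    trd θ + 1 ≤ ((RingHom.ker ψA).height : Cardinal.{u}) +
      trd (Ideal.quotientMap P φ (le_refl (P.comap φ))) := by
  subst hQ
  let φ' : A ⧸ P.comap φ →+* B ⧸ P := Ideal.quotientMap P φ (le_refl (P.comap φ))
  have hφ' : φ'.FiniteType := quotientMap_finiteType φ hφ _ _ le_rfl
  have hinj : Function.Injective φ' := Ideal.quotientMap_injective
  let _ := φ'.toAlgebra
  have : Algebra.FiniteType (A ⧸ P.comap φ) (B ⧸ P) := hφ'
  have : FaithfulSMul (A ⧸ P.comap φ) (B ⧸ P) := (faithfulSMul_iff_algebraMap_injective _ _).mpr hinj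
  have hkA : ∀ a ∈ P.comap φ, ψA a = 0 := by
    intro a ha
    have h1 : ψB (φ a) = 0 := hlt.le ha
    have h2 : θ (ψA a) = ψB (φ a) := congrArg (fun g => g a) comm
    rw [h1] at h2
    exact (map_eq_zero θ).mp h2
  have hkB : ∀ b ∈ P, ψB b = 0 := fun b hb => hlt.le hb
  let ψA' : A ⧸ P.comap φ →+* K := Ideal.Quotient.lift _ ψA hkA
  let ψB' : B ⧸ P →+* L := Ideal.Quotient.lift _ ψB hkB
  have comm' : θ.comp ψA' = ψB'.comp φ' := by
    ext a
    exact congrArg (fun g => g a) comm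
  have hA' : FracGen ψA' := by
    intro z
    obtain ⟨a, b, hb, hab⟩ := hA z
    exact ⟨Ideal.Quotient.mk _ a, Ideal.Quotient.mk _ b, hb, hab⟩
  have hB' : FracGen ψB' := by
    intro z
    obtain ⟨a, b, hb, hab⟩ := hB z
    exact ⟨Ideal.Quotient.mk _ a, Ideal.Quotient.mk _ b, hb, hab⟩
  have hp : (RingHom.ker ψA').IsPrime := RingHom.ker_isPrime _
  have hq : (RingHom.ker ψB').IsPrime := RingHom.ker_isPrime _
  have hover : RingHom.ker ψA' = (RingHom.ker ψB').comap φ' := by
    rw [RingHom.comap_ker, ← comm']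
    ext a
    simp only [RingHom.mem_ker, RingHom.comp_apply, map_eq_zero]
  have hlies : (RingHom.ker ψB').LiesOver (RingHom.ker ψA') := ⟨hover⟩
  have h1 := S0554.result (A ⧸ P.comap φ) (B ⧸ P) (RingHom.ker ψA') (RingHom.ker ψB')
  have h2 : trd θ = Algebra.trdeg ((A ⧸ P.comap φ) ⧸ RingHom.ker ψA') ((B ⧸ P) ⧸ RingHom.ker ψB') := by
    rw [trd_eq_trd_quotientMap φ' ψA' ψB' θ comm' hA' hB' _ rfl _ rfl hover.le]
    rfl
  have h3 : (1 : ℕ∞) ≤ (RingHom.ker ψB').height := by
    refine Order.one_le_iff_ne_zero.mpr fun h0 => ?_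
    rw [Ideal.height_eq_zero_iff_eq_bot] at h0
    obtain ⟨b, hb, hbP⟩ := Set.exists_of_ssubset hlt
    have : Ideal.Quotient.mk P b ∈ RingHom.ker ψB' := hb
    rw [h0] at this
    exact hbP (Ideal.Quotient.eq_zero_iff_mem.mp this)
  have h4 : (RingHom.ker ψA').height ≤ (RingHom.ker ψA).height := by
    have : RingHom.ker ψA = (RingHom.ker ψA').comap (Ideal.Quotient.mk (P.comap φ)) := by
      ext a
      rfl
    rw [this]
    exact height_le_height_comap _ Ideal.Quotient.mk_surjective _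
  rw [h2]
  change _ ≤ _ + Algebra.trdeg (A ⧸ P.comap φ) (B ⧸ P)
  calc _ = Algebra.trdeg ((A ⧸ P.comap φ) ⧸ RingHom.ker ψA') ((B ⧸ P) ⧸ RingHom.ker ψB') +
        ((1 : ℕ∞) : Cardinal.{u}) := by simp
    _ ≤ Algebra.trdeg ((A ⧸ P.comap φ) ⧸ RingHom.ker ψA') ((B ⧸ P) ⧸ RingHom.ker ψB') +
        ((RingHom.ker ψB').height : Cardinal.{u}) := by gcongr
    _ ≤ ((RingHom.ker ψA').height : Cardinal.{u}) + Algebra.trdeg (A ⧸ P.comap φ) (B ⧸ P) := by
      rw [add_comm]; exact h1
    _ ≤ _ := by gcongr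

/-- affine Noetherian base -/
theorem affine_ineq (f : X ⟶ Y) [LocallyOfFiniteType f] (hY : IsAffineOpen (⊤ : Y.Opens))
    [IsNoetherianRing Γ(Y, ⊤)] {x x' : X} (h : x' ⤳ x) (hne : x' ≠ x) :
    rtd f x + 1 ≤ ((hY.primeIdealOf ⟨f x, trivial⟩).asIdeal.height : Cardinal.{u}) + rtd f x' := by
  obtain ⟨V, hV, hx, -⟩ := exists_isAffineOpen_mem_and_subset (x := x) (U := ⊤) trivial
  have hx' : x' ∈ V := h.mem_open V.2 hx
  have hft : (f.appLE ⊤ V le_top).hom.FiniteType := f.finiteType_appLE hY hV le_top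
  have hq' : (hY.primeIdealOf ⟨f x', trivial⟩).asIdeal =
      (hV.primeIdealOf ⟨x', hx'⟩).asIdeal.comap (f.appLE ⊤ V le_top).hom :=
    congrArg PrimeSpectrum.asIdeal
      (IsAffineOpen.comap_primeIdealOf_appLE ⊤ hY V hV le_top hx').symm
  have hle := primeIdealOf_le_of_specializes hV h hx hx'
  have hlt : (hV.primeIdealOf ⟨x', hx'⟩).asIdeal < (hV.primeIdealOf ⟨x, hx⟩).asIdeal := by
    refine lt_of_le_of_ne hle fun heq => hne ?_
    exact primeIdealOf_inj hV hx hx' (PrimeSpectrum.ext heq)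
  have := alg_ineq (f.appLE ⊤ V le_top).hom hft (Y.evaluation ⊤ (f x) trivial).hom
    (X.evaluation V x hx).hom (f.residueFieldMap x).hom
    (congrArg CommRingCat.Hom.hom (evaluation_comp_residueFieldMap f ⊤ V le_top x hx trivial))
    (fracGen_evaluation hY _ _) (fracGen_evaluation hV _ _) (hV.primeIdealOf ⟨x', hx'⟩).asIdeal
    (hV.primeIdealOf ⟨x, hx⟩).asIdeal (ker_evaluation hV _ _).symm hlt
  rw [ker_evaluation hY] at this
  refine this.trans ?_
  rw [rtd_eq_trd_quotientMap f hY hV le_top x' hx' trivial _ hq'.symm le_rfl]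

/-- The dimension inequality for a nontrivial specialization. -/
theorem ineq (f : X ⟶ Y) [LocallyOfFiniteType f] {x x' : X} (h : x' ⤳ x) (hne : x' ≠ x) (y : Y)
    (hy : f x = y) [IsNoetherianRing (Y.presheaf.stalk y)] :
    ∃ a b c : ℕ, rtd f x = a ∧ rtd f x' = b ∧ ringKrullDim (Y.presheaf.stalk y) = c ∧
      a + 1 ≤ c + b := by
  obtain ⟨a, ha⟩ := Cardinal.lt_aleph0.mp (rtd_lt_aleph0 f x)
  obtain ⟨b, hb⟩ := Cardinal.lt_aleph0.mp (rtd_lt_aleph0 f x')
  obtain ⟨c, hc⟩ : ∃ c : ℕ, ringKrullDim (Y.presheaf.stalk y) = c := by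
    have hfin : (IsLocalRing.maximalIdeal (Y.presheaf.stalk y)).height < ⊤ :=
      Ideal.height_lt_top Ideal.IsPrime.ne_top'
    obtain ⟨c, hc⟩ := ENat.ne_top_iff_exists.mp hfin.ne
    refine ⟨c, ?_⟩
    rw [← IsLocalRing.maximalIdeal_height_eq_ringKrullDim, ← hc]
    rfl
  refine ⟨a, b, c, ha, hb, hc, ?_⟩
  let g := Limits.pullback.fst f (Y.fromSpecStalk y)
  let f' := Limits.pullback.snd f (Y.fromSpecStalk y)
  have hrange : Set.range g = f ⁻¹' {z | z ⤳ y} := by
    rw [Scheme.Pullback.range_fst, Scheme.range_fromSpecStalk]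
  obtain ⟨z, hz⟩ : x ∈ Set.range g := by
    rw [hrange]
    change f x ⤳ y
    rw [hy]
  obtain ⟨z', hz'⟩ : x' ∈ Set.range g := by
    rw [hrange]
    change f x' ⤳ y
    rw [← hy]
    exact h.map f.continuous
  have hsp : z' ⤳ z := by
    refine g.isEmbedding.isInducing.specializes_iff.mp ?_
    rw [hz, hz']
    exact h
  have hne' : z' ≠ z := by
    rintro rfl
    exact hne (hz'.symm.trans hz)
  have hr : ∀ w, rtd f' w = rtd f (g w) := by
    intro w
    have h1 := rtd_comp g f w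
    have h2 := rtd_comp f' (Y.fromSpecStalk y) w
    rw [rtd_eq_zero_of_isPreimmersion g, add_zero] at h1
    rw [rtd_eq_zero_of_isPreimmersion (Y.fromSpecStalk y), zero_add] at h2
    rw [← h1, ← h2, Limits.pullback.condition]
  have hN : IsNoetherianRing Γ(Spec (Y.presheaf.stalk y), ⊤) :=
    isNoetherianRing_of_ringEquiv _
      (Scheme.ΓSpecIso (Y.presheaf.stalk y)).symm.commRingCatIsoToRingEquiv
  have key := affine_ineq f' (isAffineOpen_top _) hsp hne'
  rw [hr, hr, hz, hz', ha, hb] at key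
  generalize hp : ((isAffineOpen_top (Spec (Y.presheaf.stalk y))).primeIdealOf ⟨f' z, trivial⟩) = p at key
  have h1 : (p.asIdeal.height : WithBot ℕ∞) ≤ c := by
    have := Ideal.height_le_ringKrullDim_of_ne_top p.isPrime.ne_top
    rwa [ringKrullDim_eq_of_ringEquiv
      (Scheme.ΓSpecIso (Y.presheaf.stalk y)).commRingCatIsoToRingEquiv, hc] at this
  have h2 : p.asIdeal.height ≤ c := by exact_mod_cast h1
  have h3 : ((a + 1 : ℕ) : Cardinal.{u}) ≤ ((c + b : ℕ) : Cardinal.{u}) := by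
    push_cast
    refine key.trans ?_
    gcongr
    exact_mod_cast h2
  exact_mod_cast h3

end Groth.Agent.VarietyA.DimIneq
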