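import Groth.Agent.Dix.EllScheme

/-!
# Comparison of two local morphisms with values in a separated scheme
-/

set_option autoImplicit false
universe u
open CategoryTheory CategoryTheory.Limits AlgebraicGeometry

namespace Groth.Agent.VarietyA.Ell

open Groth.Agent.Dix.EllScheme

theorem exists_generic_lift {T W : Scheme.{u}} [IsIntegral T] (w : W ⟶ T) [IsOpenImmersion w]
    (x : W) : ∃ g : Spec T.functionField ⟶ W, g ≫ w = T.fromSpecStalk (genericPoint T) := by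
  have hη : genericPoint T ∈ Set.range w :=
    ((genericPoint_spec T).mem_open_set_iff w.isOpenEmbedding.isOpen_range).mpr
      ⟨w x, trivial, ⟨x, rfl⟩⟩
  have hr : Set.range (T.fromSpecStalk (genericPoint T)) ⊆ Set.range w := by
    rw [Scheme.range_fromSpecStalk]
    intro y hy
    exact Specializes.mem_open hy w.isOpenEmbedding.isOpen_range hη
  exact ⟨IsOpenImmersion.lift w _ hr, IsOpenImmersion.lift_fac _ _ _⟩

theorem eq_of_generic {T C S N₁ N₂ : Scheme.{u}} [IsIntegral T] (q : T ⟶ S) (f : C ⟶ S)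
    [IsSeparated f]
    (j₁ : N₁ ⟶ T) (j₂ : N₂ ⟶ T) [IsOpenImmersion j₁] [IsOpenImmersion j₂] (c₁ : N₁ ⟶ C) (c₂ : N₂ ⟶ C)
    (h₁ : c₁ ≫ f = j₁ ≫ q) (h₂ : c₂ ≫ f = j₂ ≫ q)
    (hgen : ∀ (F : Type u) [Field F] (u₁ : Spec (CommRingCat.of F) ⟶ N₁) (u₂ : Spec (CommRingCat.of F) ⟶ N₂),
      u₁ ≫ j₁ = u₂ ≫ j₂ → (u₁ ≫ j₁) (IsLocalRing.closedPoint F) = genericPoint T → u₁ ≫ c₁ = u₂ ≫ c₂)
    (F : Type u) [Field F] (u₁ : Spec (CommRingCat.of F) ⟶ N₁) (u₂ : Spec (CommRingCat.of F) ⟶ N₂)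
    (h : u₁ ≫ j₁ = u₂ ≫ j₂) : u₁ ≫ c₁ = u₂ ≫ c₂ := by
  let u : Spec (CommRingCat.of F) ⟶ pullback j₁ j₂ := pullback.lift u₁ u₂ h
  let w : pullback j₁ j₂ ⟶ T := pullback.fst j₁ j₂ ≫ j₁
  obtain ⟨g, hg⟩ := exists_generic_lift w (u (IsLocalRing.closedPoint F))
  have key : pullback.fst j₁ j₂ ≫ c₁ = pullback.snd j₁ j₂ ≫ c₂ := by
    refine ext_of_generic w f g hg _ _ ?_ ?_
    · rw [Category.assoc, Category.assoc, h₁, h₂, pullback.condition_assoc]
    · rw [← Category.assoc, ← Category.assoc]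
      refine hgen T.functionField (g ≫ pullback.fst j₁ j₂) (g ≫ pullback.snd j₁ j₂) ?_ ?_
      · rw [Category.assoc, Category.assoc, pullback.condition]
      · have e : (g ≫ pullback.fst j₁ j₂) ≫ j₁ = T.fromSpecStalk (genericPoint T) := by
          rw [Category.assoc]; exact hg
        have e2 := congrArg (fun t : Spec T.functionField ⟶ T => t (IsLocalRing.closedPoint _)) e
        refine Eq.trans ?_ (e2.trans Scheme.fromSpecStalk_closedPoint)
        rfl
  have e₁ : u ≫ pullback.fst j₁ j₂ = u₁ := pullback.lift_fst _ _ _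
  have e₂ : u ≫ pullback.snd j₁ j₂ = u₂ := pullback.lift_snd _ _ _
  rw [← e₁, ← e₂, Category.assoc, Category.assoc, key]

end Groth.Agent.VarietyA.Ell
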