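import Groth.Agent.VarietyA.EllNegSum
import Groth.Agent.Dix.EllZ6

/-!
# The group object on a curve with Weierstrass coordinates, from a morphism inducing the chord law
-/

set_option autoImplicit false
universe u
open CategoryTheory CategoryTheory.Limits AlgebraicGeometry
open WeierstrassCurve
open scoped WeierstrassCurve.Projective

namespace Groth.Agent.VarietyA.Ell

theorem equiv_of_toAffine_eq {F : Type u} [Field F] (W : WeierstrassCurve.Projective F) (P Q : Fin 3 → F)
    (hP : W.Nonsingular P) (hQ : W.Nonsingular Q)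
    (h : Projective.Point.toAffine W P = Projective.Point.toAffine W Q) : P ≈ Q := by
  classical
  have hP' : W.NonsingularLift ⟦P⟧ := hP
  have hQ' : W.NonsingularLift ⟦Q⟧ := hQ
  have h1 : (Projective.Point.toAffineAddEquiv W) ⟨hP'⟩ = (Projective.Point.toAffineAddEquiv W) ⟨hQ'⟩ := h
  have h2 := (Projective.Point.toAffineAddEquiv W).injective h1
  rw [Projective.Point.ext_iff] at h2
  exact Quotient.eq.mp h2

section

variable {K : Type u} [Field K] {C : Scheme.{u}} {f : C ⟶ Spec (CommRingCat.of K)} {pt : C} (D : WCoord f pt)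

/-- field-valued points over `t` and points of the affine Weierstrass curve -/
theorem toAffine_trip_bijective (hns : NS D) [IsSeparated f] (o : Spec (CommRingCat.of K) ⟶ C)
    (ho : o ≫ f = 𝟙 _) (hpt : ∀ p, o p = pt) {F : Type u} [Field F]
    (t : Spec (CommRingCat.of F) ⟶ Spec (CommRingCat.of K)) :
    Function.Bijective (fun v : {v : Spec (CommRingCat.of F) ⟶ C // v ≫ f = t} =>
      (Projective.Point.toAffine (D.W.map (Spec.preimage t).hom).toProjective (trip D v.1) :
        (D.W.map (Spec.preimage t).hom).toAffine.Point)) := by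
  constructor
  · rintro ⟨v, hv⟩ ⟨v', hv'⟩ h
    refine Subtype.ext ?_
    refine eq_of_trip D o ho ⟨IsLocalRing.closedPoint K, hpt _⟩ v v' (hv.trans hv'.symm) ?_
    refine equiv_of_toAffine_eq _ _ _ ?_ ?_ h
    · have := trip_nonsingular D hns v
      rw [hv] at this
      exact this
    · have := trip_nonsingular D hns v'
      rw [hv'] at this
      exact this
  · intro Q
    obtain ⟨v, hv, h⟩ := exists_point D o ho hpt t Q
    exact ⟨⟨v, hv⟩, h⟩

end

open MonoidalCategory CartesianMonoidalCategory in
theorem grpObj_of_negSum {K : Type u} [Field K] (C : Over (Spec (CommRingCat.of K))) [Smooth C.hom]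
    [IsSeparated C.hom] (o : Over.mk (𝟙 (Spec (CommRingCat.of K))) ⟶ C)
    (D : WCoord C.hom (o.left (IsLocalRing.closedPoint K))) (hns : NS D)
    (m : pullback C.hom C.hom ⟶ C.left) (hm : m ≫ C.hom = pullback.fst C.hom C.hom ≫ C.hom)
    (hsum : ∀ (F : Type u) [Field F] (u : Spec (CommRingCat.of F) ⟶ pullback C.hom C.hom),
      NegSum D (Spec.preimage (u ≫ pullback.fst C.hom C.hom ≫ C.hom)).hom (u ≫ pullback.fst C.hom C.hom)
        (u ≫ pullback.snd C.hom C.hom) (u ≫ m)) : Nonempty (GrpObj C) := by
  classical
  have ho : o.left ≫ C.hom = 𝟙 _ := Over.w o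
  have hpt : ∀ p, o.left p = o.left (IsLocalRing.closedPoint K) := fun p =>
    congrArg _ (Subsingleton.elim (α := PrimeSpectrum K) p (IsLocalRing.closedPoint K))
  have hbij : ∀ (F : Type u) [Field F] [Algebra K F], Function.Bijective
      (fun v : (Over.mk (Spec.map (CommRingCat.ofHom (algebraMap K F))) ⟶ C) =>
        (Projective.Point.toAffine (D.W.map
          (Spec.preimage (Spec.map (CommRingCat.ofHom (algebraMap K F)))).hom).toProjective (trip D v.left) :
        (D.W.map (Spec.preimage (Spec.map (CommRingCat.ofHom (algebraMap K F)))).hom).toAffine.Point)) := by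
    intro F _ _
    have h1 := toAffine_trip_bijective D hns o.left ho hpt (Spec.map (CommRingCat.ofHom (algebraMap K F)))
    constructor
    · intro v v' h
      have h2 := @h1.1 ⟨v.left, Over.w v⟩ ⟨v'.left, Over.w v'⟩ h
      exact Over.OverMorphism.ext (congrArg Subtype.val h2)
    · intro Q
      obtain ⟨⟨v, hv⟩, h⟩ := h1.2 Q
      exact ⟨Over.homMk v hv, h⟩
  let e := fun (F : Type u) [Field F] [Algebra K F] => Equiv.ofBijective _ (hbij F)
  let inst := fun (F : Type u) [Field F] [Algebra K F] => (e F).addCommGroup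
  let star : C ⊗ C ⟶ C := Over.homMk m hm
  refine Dix.EllZ6.grpObj_of_points C inst star o ?_ ?_
  · intro F _ _ p q
    apply (e F).injective
    let _ := inst F
    have h1 : e F (-(p + q)) = -(e F p + e F q) := by
      change e F ((e F).symm _) = _
      rw [Equiv.apply_symm_apply]
      change -(e F ((e F).symm _)) = _
      rw [Equiv.apply_symm_apply]
      rfl
    rw [h1]
    let u : Spec (CommRingCat.of F) ⟶ pullback C.hom C.hom := (lift p q).left
    have hu1 : u ≫ pullback.fst C.hom C.hom = p.left := congrArg (fun m => m.left) (lift_fst p q)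
    have hu2 : u ≫ pullback.snd C.hom C.hom = q.left := congrArg (fun m => m.left) (lift_snd p q)
    have h2 := hsum F u
    have h3 : u ≫ pullback.fst C.hom C.hom ≫ C.hom = Spec.map (CommRingCat.ofHom (algebraMap K F)) := by
      rw [← Category.assoc, hu1]
      exact Over.w p
    rw [h3, hu1, hu2] at h2
    exact h2
  · intro F _ _
    apply (e F).injective
    let _ := inst F
    have h1 : e F 0 = 0 := (e F).apply_symm_apply 0
    rw [h1]
    let v : Spec (CommRingCat.of F) ⟶ C.left := (toUnit (Over.mk (Spec.map (CommRingCat.ofHom (algebraMap K F)))) ≫ o).left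
    have hU : ¬ ⊤ ≤ v ⁻¹ᵁ D.U := by
      rw [le_iff_mem, D.memU, not_not]
      exact hpt _
    change Projective.Point.toAffine _ (trip D v) = 0
    rw [trip_of_not_mem D v hU]
    exact Projective.Point.toAffine_zero

end Groth.Agent.VarietyA.Ell
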