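import Groth.Agent.VarietyA.EllDefs
import Groth.Agent.Dix.EllPoleData
import Groth.Agent.Dix.EllPoleUniv
import Groth.Agent.Dix.EllOrd
import Groth.Agent.Dix.EllScheme

/-!
# Weierstrass coordinates on a curve of genus one (helper787)
-/

set_option autoImplicit false
universe u

open CategoryTheory CategoryTheory.Limits AlgebraicGeometry Opposite TopologicalSpace
open Groth.Agent.Fdesc.LocGen (ores ores_ores)
open Groth.Agent.Picfga.RegLocus Groth.Agent.Picfga.CurvePts
open Groth.Agent.Dix

namespace Groth.Agent.VarietyA.Ell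

attribute [local instance] EllPoleData.algK

section transport

variable {K : Type u} [Field K] {X : Scheme.{u}} [IsIntegral X] [X.Over (Spec (CommRingCat.of K))]

omit [IsIntegral X] in
theorem sc_eq_str (U : X.Opens) : sc (X ↘ Spec (CommRingCat.of K)) U = EllCech.str U := rfl

variable {x : X} {U : X.Opens} [Nonempty U] (D : EllPole.PoleData K X.functionField)

/-- Sections over `U` as elements of the subring `P`. -/
noncomputable def toP (hP : D.P = EllPoleData.pole K U) : Γ(X, U) →+* D.P :=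
  (X.germToFunctionField U).hom.codRestrict D.P (fun a => by rw [hP]; exact ⟨a, rfl⟩)

theorem toP_coe (hP : D.P = EllPoleData.pole K U) (a : Γ(X, U)) :
    (toP D hP a : X.functionField) = X.germToFunctionField U a := rfl

theorem toP_bijective (hP : D.P = EllPoleData.pole K U) : Function.Bijective (toP D hP) := by
  constructor
  · intro a b h
    exact X.germToFunctionField_injective U (congrArg Subtype.val h)
  · rintro ⟨p, hp⟩
    rw [hP] at hp
    obtain ⟨a, ha⟩ := hp
    exact ⟨a, Subtype.ext ha⟩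

theorem toP_sc (hP : D.P = EllPoleData.pole K U) :
    (toP D hP).comp (sc (X ↘ Spec (CommRingCat.of K)) U) = algebraMap K D.P := by
  ext c
  exact EllPoleData.germ_str U c

theorem nonempty_wCoord (hP : D.P = EllPoleData.pole K U) (hO : D.O = EllPoleData.regAt K x)
    (hUa : IsAffineOpen U) (hU : ∀ y : X, y ∈ U ↔ y ≠ x)
    (ht : ∃ t : X.presheaf.stalk x, t ∈ IsLocalRing.maximalIdeal (X.presheaf.stalk x) ∧
        D.t = algebraMap _ X.functionField t) :
    Nonempty (WCoord (X ↘ Spec (CommRingCat.of K)) x) := by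
  obtain ⟨s⟩ := EllPole.PoleData.nonempty_xy D
  obtain ⟨W, hW⟩ := s.exists_relation
  obtain ⟨t, ht, htD⟩ := ht
  obtain ⟨x₀, hx₀⟩ := (toP_bijective D hP).2 ⟨s.x, s.x_mem⟩
  obtain ⟨y₀, hy₀⟩ := (toP_bijective D hP).2 ⟨s.y, s.y_mem⟩
  have hx₁ : X.germToFunctionField U x₀ = s.x := congrArg Subtype.val hx₀
  have hy₁ : X.germToFunctionField U y₀ = s.y := congrArg Subtype.val hy₀
  -- `z` and `w`
  have key : ∀ {g : X.functionField} {n : ℕ} {c : K}, D.LZ (-(n + 1 : ℕ)) g c →
      ∃ g' : X.presheaf.stalk x, g' ∈ IsLocalRing.maximalIdeal (X.presheaf.stalk x) ∧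
        algebraMap (X.presheaf.stalk x) X.functionField g' = g := by
    intro g n c h
    have h1 := EllPole.PoleData.Lead.mem h
    rw [pow_zero, one_mul, hO] at h1
    obtain ⟨h', hh'⟩ := h1
    refine ⟨t ^ (n + 1) * h', Ideal.mul_mem_right _ _ (Ideal.pow_mem_of_mem _ ht _ (Nat.succ_pos n)), ?_⟩
    have h2 : algebraMap (X.presheaf.stalk x) X.functionField h' =
      D.t ^ (-((n + 1 : ℕ) : ℤ)) * g := hh'
    rw [map_mul, map_pow, ← htD, h2, ← mul_assoc, ← zpow_natCast, ← zpow_add₀ D.t_ne_zero]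
    simp
  obtain ⟨z', hz', hz⟩ := key (n := 0) (c := 1) (g := s.ξ) s.lz_ξ
  obtain ⟨w', hw', hw⟩ := key (n := 2) (c := 1) (g := s.ζ) s.lz_ζ
  have hmem : x ∈ reg s.ξ ⊓ reg s.ζ := ⟨⟨z', hz⟩, ⟨w', hw⟩⟩
  have hne : Nonempty (reg s.ξ ⊓ reg s.ζ : X.Opens) := ⟨⟨_, hmem⟩⟩
  have hne' : Nonempty (U ⊓ (reg s.ξ ⊓ reg s.ζ) : X.Opens) :=
    ⟨⟨_, genericPoint_mem U, genericPoint_mem (reg s.ξ ⊓ reg s.ζ)⟩⟩
  have hgz : X.germToFunctionField (reg s.ξ ⊓ reg s.ζ) (ores inf_le_left (sec s.ξ)) = s.ξ := by
    rw [EllPoleData.germ_res, germToFunctionField_sec]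
  have hgw : X.germToFunctionField (reg s.ξ ⊓ reg s.ζ) (ores inf_le_right (sec s.ζ)) = s.ζ := by
    rw [EllPoleData.germ_res, germToFunctionField_sec]
  refine ⟨{ W := W, U := U, affU := hUa, memU := hU, x := x₀, y := y₀, eqn := ?_, univ := ?_, ext := ?_,
            V := reg s.ξ ⊓ reg s.ζ, memV := hmem, z := ores inf_le_left (sec s.ξ),
            w := ores inf_le_right (sec s.ζ), germ_z := ?_, germ_w := ?_, rel_w := ?_, rel_z := ?_ }⟩
  · -- eqn
    apply X.germToFunctionField_injective U
    simp only [sc_eq_str, map_add, map_mul, map_pow, EllPoleData.germ_str, hx₁, hy₁]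
    exact hW
  · intro B _ r a b hab
    obtain ⟨φ, h1, h2, h3⟩ := s.exists_hom hW r a b hab
    refine ⟨φ.comp (toP D hP), ?_, ?_, ?_⟩
    · rw [RingHom.comp_assoc, toP_sc, h1]
    · rw [RingHom.comp_apply, hx₀, h2]
    · rw [RingHom.comp_apply, hy₀, h3]
  · intro B _ φ ψ h1 h2 h3
    let e := RingEquiv.ofBijective (toP D hP) (toP_bijective D hP)
    have he : e.toRingHom = toP D hP := rfl
    have he' : ∀ χ : Γ(X, U) →+* B, (χ.comp e.symm.toRingHom).comp (toP D hP) = χ := by
      intro χ
      ext a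
      change χ (e.symm (e a)) = χ a
      rw [e.symm_apply_apply]
    rw [← he' φ, ← he' ψ]
    congr 1
    apply s.hom_ext
    · rw [← toP_sc D hP, ← RingHom.comp_assoc, ← RingHom.comp_assoc, he', he', h1]
    · rw [← hx₀]
      change φ (e.symm (e x₀)) = ψ (e.symm (e x₀))
      rw [e.symm_apply_apply, h2]
    · rw [← hy₀]
      change φ (e.symm (e y₀)) = ψ (e.symm (e y₀))
      rw [e.symm_apply_apply, h3]
  · have h1 : X.presheaf.germ (reg s.ξ ⊓ reg s.ζ) x hmem (ores inf_le_left (sec s.ξ)) = z' := by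
      apply IsFractionRing.injective (X.presheaf.stalk x) X.functionField
      rw [X.algebraMap_germ_eq_germToFunctionField, hgz, hz]
    rw [h1]
    exact hz'
  · have h1 : X.presheaf.germ (reg s.ξ ⊓ reg s.ζ) x hmem (ores inf_le_right (sec s.ζ)) = w' := by
      apply IsFractionRing.injective (X.presheaf.stalk x) X.functionField
      rw [X.algebraMap_germ_eq_germToFunctionField, hgw, hw]
    rw [h1]
    exact hw'
  · apply X.germToFunctionField_injective (U ⊓ (reg s.ξ ⊓ reg s.ζ))
    rw [map_mul, map_one]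
    refine (congrArg₂ (· * ·) ((EllPoleData.germ_res inf_le_right _).trans hgw)
      ((EllPoleData.germ_res inf_le_left y₀).trans hy₁)).trans ?_
    exact inv_mul_cancel₀ s.y_ne_zero
  · apply X.germToFunctionField_injective (U ⊓ (reg s.ξ ⊓ reg s.ζ))
    rw [map_mul]
    refine (congrArg₂ (· * ·) ((EllPoleData.germ_res inf_le_right _).trans hgz)
      ((EllPoleData.germ_res inf_le_left y₀).trans hy₁)).trans
      (Eq.trans ?_ ((EllPoleData.germ_res inf_le_left x₀).trans hx₁).symm)
    change s.x * s.y⁻¹ * s.y = s.x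
    rw [mul_assoc, inv_mul_cancel₀ s.y_ne_zero, mul_one]

end transport

/-- **Weierstrass coordinates** on a smooth proper curve of genus one with a rational point. -/
theorem exists_wCoord {K : Type u} [Field K] (C : Over (Spec (CommRingCat.of K))) [IsProper C.hom]
    [Smooth C.hom] [GeometricallyIrreducible C.hom] (hdim : topologicalKrullDim C.left = 1)
    (hg : Module.finrank K (Coh.HH C.left (Coh.structureModule _) 1) = 1)
    (o : Over.mk (𝟙 (Spec (CommRingCat.of K))) ⟶ C) :
    Nonempty (WCoord C.hom (o.left (IsLocalRing.closedPoint K))) := by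
  have : IsReduced C.left := EllScheme.isReduced_of_smooth C.hom
  have : IrreducibleSpace C.left := GeometricallyIrreducible.irreducibleSpace_of_subsingleton C.hom
  have : IsIntegral C.left := isIntegral_of_irreducibleSpace_of_isReduced _
  have h1 : IsProper (C.left ↘ Spec (CommRingCat.of K)) := ‹IsProper C.hom›
  have h2 : Smooth (C.left ↘ Spec (CommRingCat.of K)) := ‹Smooth C.hom›
  have ho : o.left ≫ (C.left ↘ Spec (CommRingCat.of K)) = 𝟙 _ := Over.w o
  obtain ⟨U, _, D, hUa, hU, hP, hO, ht⟩ := EllPoleData.exists_poleData (K := K) hdim hg o.left ho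
    (o.left (IsLocalRing.closedPoint K)) (fun p => by
      rw [show p = IsLocalRing.closedPoint K from Subsingleton.elim (α := PrimeSpectrum K) _ _])
  exact nonempty_wCoord D hP hO hUa hU ht

end Groth.Agent.VarietyA.Ell
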