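import Groth.Agent.VarietyA.EllGeo
import Mathlib.FieldTheory.IsAlgClosed.AlgebraicClosure

/-!
# Generic inequalities between the coordinates of two points (helper787)
-/

set_option autoImplicit false
universe u
open CategoryTheory CategoryTheory.Limits AlgebraicGeometry
open WeierstrassCurve
open scoped WeierstrassCurve.Projective

namespace Groth.Agent.VarietyA.Ell

section field

variable {K F : Type u} [Field K] [Field F] [IsAlgClosed F] (W : WeierstrassCurve K) (s : K →+* F)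

/-- Over an algebraically closed field there are solutions with given `x`. -/
theorem exists_wEq (x : F) : ∃ y : F, WEq W s x y := by
  obtain ⟨y, hy⟩ := IsAlgClosed.exists_root (Polynomial.C (1 : F) * Polynomial.X ^ 2 +
    Polynomial.C (s W.a₁ * x + s W.a₃) * Polynomial.X +
    Polynomial.C (-(x ^ 3 + s W.a₂ * x ^ 2 + s W.a₄ * x + s W.a₆))) (by
      rw [Polynomial.degree_quadratic one_ne_zero]
      decide)
  refine ⟨y, ?_⟩
  rw [Polynomial.IsRoot.def] at hy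
  simp only [Polynomial.eval_add, Polynomial.eval_mul, Polynomial.eval_C, Polynomial.eval_pow,
    Polynomial.eval_X] at hy
  unfold WEq
  linear_combination hy

theorem exists_wEq_ne : ∃ x₁ y₁ x₂ y₂ : F, WEq W s x₁ y₁ ∧ WEq W s x₂ y₂ ∧ x₁ ≠ x₂ := by
  obtain ⟨y₁, h₁⟩ := exists_wEq W s (0 : F)
  obtain ⟨y₂, h₂⟩ := exists_wEq W s (1 : F)
  exact ⟨0, y₁, 1, y₂, h₁, h₂, zero_ne_one⟩

theorem exists_wEq_ne' : ∃ x₁ y₁ x₂ y₂ : F, WEq W s x₁ y₁ ∧ WEq W s x₂ y₂ ∧ x₁ * y₂ ≠ x₂ * y₁ := by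
  by_contra hcon
  push Not at hcon
  obtain ⟨l, hl⟩ := exists_wEq W s (1 : F)
  have key : ∀ x y : F, WEq W s x y → y = l * x := by
    intro x y h
    have h1 := hcon x y 1 l h hl
    rw [one_mul] at h1
    rw [← h1, mul_comm]
  have h0 : (Polynomial.X ^ 3 + Polynomial.C (s W.a₂ - l ^ 2 - s W.a₁ * l) * Polynomial.X ^ 2 +
      Polynomial.C (s W.a₄ - s W.a₃ * l) * Polynomial.X + Polynomial.C (s W.a₆) : Polynomial F) = 0 := by
    apply Polynomial.funext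
    intro x
    obtain ⟨y, hy⟩ := exists_wEq W s x
    have h1 := key x y hy
    subst h1
    unfold WEq at hy
    simp only [Polynomial.eval_add, Polynomial.eval_mul, Polynomial.eval_C, Polynomial.eval_pow,
      Polynomial.eval_X, Polynomial.eval_zero]
    linear_combination -hy
  have h2 := congrArg (fun p => Polynomial.coeff p 3) h0
  simp only [Polynomial.coeff_add, Polynomial.coeff_C_mul, Polynomial.coeff_X_pow, Polynomial.coeff_X,
    Polynomial.coeff_C, Polynomial.coeff_zero] at h2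
  norm_num at h2

end field

section point

variable {K : Type u} [Field K] {C : Scheme.{u}} {f : C ⟶ Spec (CommRingCat.of K)} {pt : C} (D : WCoord f pt)

/-- Every solution of the Weierstrass equation gives a field-valued point, form with `ev`. -/
theorem exists_of_WEq' {F : Type u} [Field F] (t : Spec (CommRingCat.of F) ⟶ Spec (CommRingCat.of K))
    (a b : F) (h : WEq D.W (Spec.preimage t).hom a b) :
    ∃ (v : Spec (CommRingCat.of F) ⟶ C) (hU : ⊤ ≤ v ⁻¹ᵁ D.U), v ≫ f = t ∧ ev v D.U hU D.x = a ∧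
      ev v D.U hU D.y = b := by
  obtain ⟨v, hv, ht⟩ := exists_of_WEq D t a b h
  by_cases hU : ⊤ ≤ v ⁻¹ᵁ D.U
  · rw [trip_of_mem D v hU] at ht
    have h0 := congrFun ht 0
    have h1 := congrFun ht 1
    exact ⟨v, hU, hv, h0, h1⟩
  · rw [trip_of_not_mem D v hU] at ht
    have h2 := congrFun ht 2
    simp at h2

end point

/-- A section which does not vanish at some field-valued point does not vanish at the generic point. -/
theorem ev_ne_zero_of_generic {T : Scheme.{u}} [IsIntegral T] {F F' : Type u} [Field F] [Field F']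
    (u : Spec (CommRingCat.of F) ⟶ T) (hu : u (IsLocalRing.closedPoint F) = genericPoint ↥T)
    (w : Spec (CommRingCat.of F') ⟶ T) (W : T.Opens) (hW : ⊤ ≤ u ⁻¹ᵁ W) (hW' : ⊤ ≤ w ⁻¹ᵁ W) (a : Γ(T, W))
    (h : ev w W hW' a ≠ 0) : ev u W hW a ≠ 0 := by
  rw [mem_basicOpen_of_ev_ne_zero] at h ⊢
  rw [hu]
  exact ((genericPoint_spec T).mem_open_set_iff (T.basicOpen a).isOpen).mpr ⟨_, trivial, h⟩

theorem generic_pair {K : Type u} [Field K] {C : Scheme.{u}} {f : C ⟶ Spec (CommRingCat.of K)} {pt : C}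
    (D : WCoord f pt) [IsIntegral (pullback f f)] (F : Type u) [Field F] (u : Spec (CommRingCat.of F) ⟶ pullback f f)
    (hu : u (IsLocalRing.closedPoint F) = genericPoint ↥(pullback f f)) :
    ∃ (h₁ : ⊤ ≤ (u ≫ pullback.fst f f) ⁻¹ᵁ D.U) (h₂ : ⊤ ≤ (u ≫ pullback.snd f f) ⁻¹ᵁ D.U),
      ev _ D.U h₁ D.x ≠ ev _ D.U h₂ D.x ∧
      ev _ D.U h₁ D.x * ev _ D.U h₂ D.y ≠ ev _ D.U h₂ D.x * ev _ D.U h₁ D.y := by
  let K' := AlgebraicClosure K
  let t : Spec (CommRingCat.of K') ⟶ Spec (CommRingCat.of K) := Spec.map (CommRingCat.ofHom (algebraMap K K'))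
  -- pairs of solutions give points of the product
  have key : ∀ x₁ y₁ x₂ y₂ : K', WEq D.W (Spec.preimage t).hom x₁ y₁ → WEq D.W (Spec.preimage t).hom x₂ y₂ →
      ∃ (w : Spec (CommRingCat.of K') ⟶ pullback f f) (h₁ : ⊤ ≤ (w ≫ pullback.fst f f) ⁻¹ᵁ D.U)
        (h₂ : ⊤ ≤ (w ≫ pullback.snd f f) ⁻¹ᵁ D.U),
        ev _ D.U h₁ D.x = x₁ ∧ ev _ D.U h₁ D.y = y₁ ∧ ev _ D.U h₂ D.x = x₂ ∧ ev _ D.U h₂ D.y = y₂ := by
    intro x₁ y₁ x₂ y₂ e₁ e₂
    obtain ⟨v₁, h₁, hv₁, hx₁, hy₁⟩ := exists_of_WEq' D t x₁ y₁ e₁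
    obtain ⟨v₂, h₂, hv₂, hx₂, hy₂⟩ := exists_of_WEq' D t x₂ y₂ e₂
    have h12 : v₁ ≫ f = v₂ ≫ f := hv₁.trans hv₂.symm
    have k₁ : pullback.lift v₁ v₂ h12 ≫ pullback.fst f f = v₁ := pullback.lift_fst _ _ _
    have k₂ : pullback.lift v₁ v₂ h12 ≫ pullback.snd f f = v₂ := pullback.lift_snd _ _ _
    refine ⟨pullback.lift v₁ v₂ h12, by rw [k₁]; exact h₁, by rw [k₂]; exact h₂, ?_⟩
    subst hx₁ hy₁ hx₂ hy₂
    simp only [k₁, k₂, and_self]
  -- the open set where all functions are defined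
  let W₁ : (pullback f f).Opens := pullback.fst f f ⁻¹ᵁ D.U
  let W₂ : (pullback f f).Opens := pullback.snd f f ⁻¹ᵁ D.U
  let W : (pullback f f).Opens := W₁ ⊓ W₂
  let x₁ : Γ(pullback f f, W) := (pullback f f).presheaf.map (homOfLE (inf_le_left : W ≤ W₁)).op
    ((pullback.fst f f).app D.U D.x)
  let y₁ : Γ(pullback f f, W) := (pullback f f).presheaf.map (homOfLE (inf_le_left : W ≤ W₁)).op
    ((pullback.fst f f).app D.U D.y)
  let x₂ : Γ(pullback f f, W) := (pullback f f).presheaf.map (homOfLE (inf_le_right : W ≤ W₂)).op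
    ((pullback.snd f f).app D.U D.x)
  let y₂ : Γ(pullback f f, W) := (pullback f f).presheaf.map (homOfLE (inf_le_right : W ≤ W₂)).op
    ((pullback.snd f f).app D.U D.y)
  have hev : ∀ {L : Type u} [Field L] (w : Spec (CommRingCat.of L) ⟶ pullback f f)
      (h₁ : ⊤ ≤ (w ≫ pullback.fst f f) ⁻¹ᵁ D.U) (h₂ : ⊤ ≤ (w ≫ pullback.snd f f) ⁻¹ᵁ D.U) (hW : ⊤ ≤ w ⁻¹ᵁ W),
      ev w W hW x₁ = ev _ D.U h₁ D.x ∧ ev w W hW y₁ = ev _ D.U h₁ D.y ∧
      ev w W hW x₂ = ev _ D.U h₂ D.x ∧ ev w W hW y₂ = ev _ D.U h₂ D.y := by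
    intro L _ w h₁ h₂ hW
    refine ⟨?_, ?_, ?_, ?_⟩
    · rw [ev_comp w _ D.U h₁]; exact ev_map w inf_le_left hW _
    · rw [ev_comp w _ D.U h₁]; exact ev_map w inf_le_left hW _
    · rw [ev_comp w _ D.U h₂]; exact ev_map w inf_le_right hW _
    · rw [ev_comp w _ D.U h₂]; exact ev_map w inf_le_right hW _
  have hleW : ∀ {L : Type u} [Field L] (w : Spec (CommRingCat.of L) ⟶ pullback f f)
      (_ : ⊤ ≤ (w ≫ pullback.fst f f) ⁻¹ᵁ D.U) (_ : ⊤ ≤ (w ≫ pullback.snd f f) ⁻¹ᵁ D.U), ⊤ ≤ w ⁻¹ᵁ W :=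
    fun w h₁ h₂ p hp => ⟨h₁ hp, h₂ hp⟩
  obtain ⟨p₁, q₁, p₂, q₂, e₁, e₂, hne⟩ := exists_wEq_ne D.W (Spec.preimage t).hom
  obtain ⟨w, k₁, k₂, l₁, l₂, l₃, l₄⟩ := key p₁ q₁ p₂ q₂ e₁ e₂
  obtain ⟨p₁', q₁', p₂', q₂', e₁', e₂', hne'⟩ := exists_wEq_ne' D.W (Spec.preimage t).hom
  obtain ⟨w', k₁', k₂', l₁', l₂', l₃', l₄'⟩ := key p₁' q₁' p₂' q₂' e₁' e₂'
  have hgW : genericPoint ↥(pullback f f) ∈ W :=
    ((genericPoint_spec ↥(pullback f f)).mem_open_set_iff W.isOpen).mpr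
      ⟨_, trivial, (le_iff_mem w W).mp (hleW w k₁ k₂)⟩
  have hW : ⊤ ≤ u ⁻¹ᵁ W := (le_iff_mem u W).mpr (by rw [hu]; exact hgW)
  have h₁ : ⊤ ≤ (u ≫ pullback.fst f f) ⁻¹ᵁ D.U := fun p hp => (hW hp).1
  have h₂ : ⊤ ≤ (u ≫ pullback.snd f f) ⁻¹ᵁ D.U := fun p hp => (hW hp).2
  refine ⟨h₁, h₂, ?_, ?_⟩
  · have h3 := ev_ne_zero_of_generic u hu w W hW (hleW w k₁ k₂) (x₁ - x₂) (by
      obtain ⟨m₁, m₂, m₃, m₄⟩ := hev w k₁ k₂ (hleW w k₁ k₂)
      rw [map_sub, m₁, m₃, l₁, l₃]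
      exact sub_ne_zero.mpr hne)
    obtain ⟨m₁, m₂, m₃, m₄⟩ := hev u h₁ h₂ hW
    rw [map_sub, m₁, m₃] at h3
    exact sub_ne_zero.mp h3
  · have h3 := ev_ne_zero_of_generic u hu w' W hW (hleW w' k₁' k₂') (x₁ * y₂ - x₂ * y₁) (by
      obtain ⟨m₁, m₂, m₃, m₄⟩ := hev w' k₁' k₂' (hleW w' k₁' k₂')
      rw [map_sub, map_mul, map_mul, m₁, m₂, m₃, m₄, l₁', l₂', l₃', l₄']
      exact sub_ne_zero.mpr hne')
    obtain ⟨m₁, m₂, m₃, m₄⟩ := hev u h₁ h₂ hW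
    rw [map_sub, map_mul, map_mul, m₁, m₂, m₃, m₄] at h3
    exact sub_ne_zero.mp h3

end Groth.Agent.VarietyA.Ell
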