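import Groth.Agent.Dix.EllScheme

/-!
# Gluing morphisms which are characterised by their field-valued points
-/

set_option autoImplicit false
universe u
open CategoryTheory CategoryTheory.Limits AlgebraicGeometry

namespace Groth.Agent.VarietyA.Ell

theorem exists_glue {T C S : Scheme.{u}} [IsReduced T] (q : T ⟶ S) (f : C ⟶ S) [IsSeparated f]
    (R : ∀ (F : Type u) [Field F] (_ : Spec (CommRingCat.of F) ⟶ T) (_ : Spec (CommRingCat.of F) ⟶ C), Prop)
    (huniq : ∀ (F : Type u) [Field F] (u : Spec (CommRingCat.of F) ⟶ T) (v v' : Spec (CommRingCat.of F) ⟶ C),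
      v ≫ f = u ≫ q → v' ≫ f = u ≫ q → R F u v → R F u v' → v = v')
    (hloc : ∀ t : T, ∃ (N : Scheme.{u}) (j : N ⟶ T) (_ : IsOpenImmersion j) (_ : t ∈ Set.range j) (c : N ⟶ C),
      c ≫ f = j ≫ q ∧ ∀ (F : Type u) [Field F] (u : Spec (CommRingCat.of F) ⟶ N), R F (u ≫ j) (u ≫ c)) :
    ∃ c : T ⟶ C, c ≫ f = q ∧ ∀ (F : Type u) [Field F] (u : Spec (CommRingCat.of F) ⟶ T), R F u (u ≫ c) := by
  choose N j hj hmem c hc hR using hloc
  let 𝒰 : T.OpenCover :=
    { I₀ := T
      X := N
      f := j
      mem₀ := by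
        rw [Scheme.presieve₀_mem_precoverage_iff]
        exact ⟨fun x => ⟨x, hmem x⟩, hj⟩ }
  have key : ∀ x y, pullback.fst (𝒰.f x) (𝒰.f y) ≫ c x = pullback.snd (𝒰.f x) (𝒰.f y) ≫ c y := by
    intro x y
    change pullback.fst (j x) (j y) ≫ c x = pullback.snd (j x) (j y) ≫ c y
    have : IsReduced (pullback (j x) (j y)) := isReduced_of_isOpenImmersion (pullback.fst (j x) (j y) ≫ j x)
    refine ext_of_fromSpecResidueField_eq _ _ f Set.univ dense_univ (fun z _ => ?_) ?_
    · let u : Spec (CommRingCat.of ((pullback (j x) (j y)).residueField z)) ⟶ pullback (j x) (j y) :=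
        (pullback (j x) (j y)).fromSpecResidueField z
      have h1 := hR x ((pullback (j x) (j y)).residueField z) (u ≫ pullback.fst _ _)
      have h2 := hR y ((pullback (j x) (j y)).residueField z) (u ≫ pullback.snd _ _)
      have h3 : (u ≫ pullback.fst (j x) (j y)) ≫ j x = (u ≫ pullback.snd (j x) (j y)) ≫ j y := by
        rw [Category.assoc, pullback.condition, Category.assoc]
      rw [← h3] at h2
      have h4 := huniq _ _ _ _ (by rw [Category.assoc, hc, ← Category.assoc])
        (by rw [Category.assoc, hc, ← Category.assoc, ← h3]) h1 h2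
      rw [Category.assoc, Category.assoc] at h4
      exact h4
    · rw [Category.assoc, hc, Category.assoc, hc, pullback.condition_assoc]
  have hι : ∀ x, j x ≫ 𝒰.glueMorphisms c key = c x := fun x => 𝒰.ι_glueMorphisms c key x
  refine ⟨𝒰.glueMorphisms c key, ?_, ?_⟩
  · apply 𝒰.hom_ext
    intro x
    rw [← Category.assoc, 𝒰.ι_glueMorphisms]
    exact hc x
  · intro F _ u
    let x : T := u (IsLocalRing.closedPoint F)
    have hr : Set.range u ⊆ Set.range (j x) := by
      rintro _ ⟨p, rfl⟩
      have : p = IsLocalRing.closedPoint F := Subsingleton.elim (α := PrimeSpectrum F) _ _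
      rw [this]
      exact hmem x
    have h1 := hR x F (IsOpenImmersion.lift (j x) u hr)
    rw [IsOpenImmersion.lift_fac] at h1
    rw [← hι x, ← Category.assoc, IsOpenImmersion.lift_fac] at h1
    exact h1

end Groth.Agent.VarietyA.Ell
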