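import Groth.Agent.VarietyA.EllDefs
import Groth.Agent.Dix.EllFrac
import Mathlib.AlgebraicGeometry.SpreadingOut
import Mathlib.AlgebraicGeometry.FunctionField

/-!
# Morphisms into a Weierstrass curve near the point at infinity
-/

set_option autoImplicit false
universe u
open CategoryTheory CategoryTheory.Limits AlgebraicGeometry Polynomial TopologicalSpace

namespace Groth.Agent.VarietyA.Ell

open Groth.Agent.Dix.EllPole

section Scalars

variable {K : Type u} [CommRing K] {X : Scheme.{u}} (f : X ⟶ Spec (CommRingCat.of K))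

theorem sc_res {U V : X.Opens} (i : V ≤ U) :
    (X.presheaf.map (homOfLE i).op).hom.comp (sc f U) = sc f V := by
  have h := Scheme.Hom.appLE_map f (U := ⊤) (e := (le_top : U ≤ f ⁻¹ᵁ ⊤)) (homOfLE i).op
  rw [sc, sc, ← h, CommRingCat.hom_comp, ← RingHom.comp_assoc]

theorem sc_res_apply {U V : X.Opens} (i : V ≤ U) (c : K) :
    X.presheaf.map (homOfLE i).op (sc f U c) = sc f V c :=
  congrArg (fun t : K →+* Γ(X, V) => t c) (sc_res f i)

/-- The scalars in a stalk. -/
noncomputable def scS (x : X) : K →+* X.presheaf.stalk x :=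
  (X.presheaf.germ ⊤ x trivial).hom.comp (sc f ⊤)

theorem germ_sc (U : X.Opens) (x : X) (hx : x ∈ U) (c : K) :
    X.presheaf.germ U x hx (sc f U c) = scS f x c := by
  rw [← sc_res_apply f (le_top : U ≤ ⊤) c]
  exact X.presheaf.germ_res_apply (homOfLE (le_top : U ≤ ⊤)) x hx (sc f ⊤ c)

end Scalars

variable {K : Type u} [Field K] {C : Scheme.{u}} {f : C ⟶ Spec (CommRingCat.of K)}

section CoordRing

variable (W : WeierstrassCurve K)

theorem wEq_coordinateRing : WEq (B := WeierstrassCurve.Affine.CoordinateRing W) W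
    ((AdjoinRoot.of _).comp Polynomial.C) (AdjoinRoot.of _ X) (AdjoinRoot.root _) := by
  have h : AdjoinRoot.mk (WeierstrassCurve.Affine.polynomial W)
    (WeierstrassCurve.Affine.polynomial W) = 0 := AdjoinRoot.mk_self
  have h1 : (WeierstrassCurve.Affine.polynomial W).eval₂ (AdjoinRoot.of (WeierstrassCurve.Affine.polynomial W))
      (AdjoinRoot.root _) = 0 := AdjoinRoot.eval₂_root _
  have h2 : AdjoinRoot.of (WeierstrassCurve.Affine.polynomial W) =
      eval₂RingHom ((AdjoinRoot.of (WeierstrassCurve.Affine.polynomial W)).comp Polynomial.C)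
        (AdjoinRoot.of (WeierstrassCurve.Affine.polynomial W) X) := by
    refine Polynomial.ringHom_ext (fun c => ?_) ?_ <;> simp
  have h3 := PoleData.eval₂_weier W ((AdjoinRoot.of (WeierstrassCurve.Affine.polynomial W)).comp Polynomial.C)
    (AdjoinRoot.of (WeierstrassCurve.Affine.polynomial W) X)
    (AdjoinRoot.root (WeierstrassCurve.Affine.polynomial W))
  rw [← h2, h1] at h3
  exact sub_eq_zero.mp h3.symm

end CoordRing

section Main

variable [IsIntegral C] {pt : C} (D : WCoord f pt)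

omit [IsIntegral C] in
include D in
theorem nonempty_U : Nonempty D.U := by
  by_contra hne
  have hU : D.U = ⊥ := by
    ext x
    simp only [Opens.coe_bot, Set.mem_empty_iff_false, iff_false]
    exact fun hx => hne ⟨⟨x, hx⟩⟩
  obtain ⟨φ, -⟩ := D.univ (B := WeierstrassCurve.Affine.CoordinateRing D.W) _ _ _
    (wEq_coordinateRing D.W)
  have h1 : Subsingleton Γ(C, D.U) := by rw [hU]; infer_instance
  have h2 : (1 : WeierstrassCurve.Affine.CoordinateRing D.W) = 0 := by
    rw [← map_one φ, Subsingleton.elim (1 : Γ(C, D.U)) 0, map_zero]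
  exact one_ne_zero h2

theorem gen_mem_U : genericPoint C ∈ D.U := by
  obtain ⟨⟨x, hx⟩⟩ := nonempty_U D
  exact ((genericPoint_spec C).mem_open_set_iff D.U.isOpen).mpr ⟨x, trivial, hx⟩

theorem gen_mem_V : genericPoint C ∈ D.V :=
  ((genericPoint_spec C).mem_open_set_iff D.V.isOpen).mpr ⟨pt, trivial, D.memV⟩

/-- The stalk at the origin inside the function field. -/
noncomputable def toFF : C.presheaf.stalk pt →+* C.functionField :=
  algebraMap (C.presheaf.stalk pt) C.functionField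

theorem toFF_injective : Function.Injective (toFF (C := C) (pt := pt)) :=
  IsFractionRing.injective (C.presheaf.stalk pt) C.functionField

theorem toFF_germ (U : C.Opens) (hx : pt ∈ U) (hη : genericPoint C ∈ U) (s : Γ(C, U)) :
    toFF (C.presheaf.germ U pt hx s) = C.presheaf.germ U (genericPoint C) hη s := by
  have h := TopCat.Presheaf.germ_stalkSpecializes C.presheaf (U := U) hx
    ((genericPoint_spec C).specializes (trivial : pt ∈ Set.univ))
  exact congrArg (fun t : Γ(C, U) ⟶ C.presheaf.stalk (genericPoint C) => t.hom s) h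

theorem toFF_scS (c : K) : toFF (scS f pt c) = scS f (genericPoint C) c := by
  rw [← germ_sc f ⊤ pt trivial c, toFF_germ ⊤ trivial trivial, germ_sc]

/-- The coordinates in the function field. -/
noncomputable def xF : C.functionField := C.presheaf.germ D.U (genericPoint C) (gen_mem_U D) D.x

noncomputable def yF : C.functionField := C.presheaf.germ D.U (genericPoint C) (gen_mem_U D) D.y

/-- The coordinates in the local ring at the origin. -/
noncomputable def zO : C.presheaf.stalk pt := C.presheaf.germ D.V pt D.memV D.z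

noncomputable def wO : C.presheaf.stalk pt := C.presheaf.germ D.V pt D.memV D.w

theorem germ_inf_U (s : Γ(C, D.U)) :
    C.presheaf.germ (D.U ⊓ D.V) (genericPoint C) ⟨gen_mem_U D, gen_mem_V D⟩
      (C.presheaf.map (homOfLE inf_le_left).op s) =
    C.presheaf.germ D.U (genericPoint C) (gen_mem_U D) s :=
  C.presheaf.germ_res_apply (homOfLE inf_le_left) _ _ s

theorem germ_inf_V (s : Γ(C, D.V)) :
    C.presheaf.germ (D.U ⊓ D.V) (genericPoint C) ⟨gen_mem_U D, gen_mem_V D⟩
      (C.presheaf.map (homOfLE inf_le_right).op s) =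
    C.presheaf.germ D.V (genericPoint C) (gen_mem_V D) s :=
  C.presheaf.germ_res_apply (homOfLE inf_le_right) _ _ s

theorem wO_mul_yF : toFF (wO D) * yF D = 1 := by
  rw [wO, toFF_germ D.V D.memV (gen_mem_V D), yF, ← germ_inf_U, ← germ_inf_V, ← map_mul, D.rel_w,
    map_one]

theorem zO_mul_yF : toFF (zO D) * yF D = xF D := by
  rw [zO, toFF_germ D.V D.memV (gen_mem_V D), yF, xF, ← germ_inf_U, ← germ_inf_U, ← germ_inf_V,
    ← map_mul, D.rel_z]

theorem wEq_F : WEq D.W (scS f (genericPoint C)) (xF D) (yF D) := by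
  have h := congrArg (C.presheaf.germ D.U (genericPoint C) (gen_mem_U D)) D.eqn
  unfold WEq
  simp only [map_add, map_mul, map_pow, germ_sc] at h
  exact h

theorem wEqInf_F : WEqInf D.W (scS f (genericPoint C)) (toFF (zO D)) (toFF (wO D)) := by
  have h := wEq_F D
  have h1 := wO_mul_yF D
  have h2 := zO_mul_yF D
  set y := yF D
  set x := xF D
  set z := toFF (zO D)
  set w := toFF (wO D)
  have hy : y ≠ 0 := right_ne_zero_of_mul_eq_one h1
  unfold WEqInf
  unfold WEq at h
  rw [← h2] at h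
  have h3 : w = y⁻¹ := eq_inv_of_mul_eq_one_left h1
  rw [h3]
  field_simp
  linear_combination h

theorem wEqInf_O : WEqInf D.W (scS f pt) (zO D) (wO D) := by
  apply toFF_injective
  have h := wEqInf_F D
  unfold WEqInf at h
  simp only [map_add, map_mul, map_pow, toFF_scS]
  exact h

theorem wO_ne_zero : wO D ≠ 0 := by
  intro h
  have h1 := wO_mul_yF D
  rw [h, map_zero, zero_mul] at h1
  exact zero_ne_one h1

omit [IsIntegral C] in
theorem exists_eval₂_U (c : Γ(C, D.U)) : ∃ p q : K[X],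
    c = p.eval₂ (sc f D.U) D.x + q.eval₂ (sc f D.U) D.x * D.y := by
  obtain ⟨φ, h1, h2, h3⟩ := D.univ (B := WeierstrassCurve.Affine.CoordinateRing D.W) _ _ _
    (wEq_coordinateRing D.W)
  refine exists_eval₂_eq (W := D.W) (sc f D.U) D.x D.y D.eqn φ ?_ c
  apply D.ext
  · ext k
    have h4 : φ (sc f D.U k) = AdjoinRoot.of _ (Polynomial.C k) :=
      congrArg (fun t : K →+* _ => t k) h1
    change PoleData.weierLift D.W (sc f D.U) D.x D.y D.eqn (φ (sc f D.U k)) = sc f D.U k
    rw [h4]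
    refine (AdjoinRoot.lift_of _).trans ?_
    simp
  · change PoleData.weierLift D.W (sc f D.U) D.x D.y D.eqn (φ D.x) = D.x
    rw [h2]
    refine (AdjoinRoot.lift_of _).trans ?_
    simp
  · change PoleData.weierLift D.W (sc f D.U) D.x D.y D.eqn (φ D.y) = D.y
    rw [h3]
    exact AdjoinRoot.lift_root _

theorem hfrac_O (o : C.presheaf.stalk pt) : ∃ p q : InfRing D.W,
    infHom D.W (scS f pt) (zO D) (wO D) (wEqInf_O D) q ≠ 0 ∧
      infHom D.W (scS f pt) (zO D) (wO D) (wEqInf_O D) q * o =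
        infHom D.W (scS f pt) (zO D) (wO D) (wEqInf_O D) p := by
  let ι : InfRing D.W →+* C.functionField :=
    toFF.comp (infHom D.W (scS f pt) (zO D) (wO D) (wEqInf_O D))
  have hιk : ι.comp (kInf D.W) = scS f (genericPoint C) := by
    ext c
    change toFF (infHom D.W (scS f pt) (zO D) (wO D) (wEqInf_O D) (kInf D.W c)) = _
    rw [infHom_k, toFF_scS]
  have hιz : ι (zInf D.W) = toFF (wO D) := congrArg _ (infHom_z _ _ _ _)
  have hιx : ι (xInf D.W) = toFF (zO D) := congrArg _ (infHom_x _ _ _ _)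
  have := nonempty_U D
  have hfr := functionField_isFractionRing_of_isAffineOpen C D.U D.affU
  obtain ⟨P, ⟨Q, hQ⟩, hPQ⟩ := IsLocalization.exists_mk'_eq (nonZeroDivisors Γ(C, D.U)) (toFF o)
  have hPQ' : C.presheaf.germ D.U (genericPoint C) (gen_mem_U D) Q * toFF o =
      C.presheaf.germ D.U (genericPoint C) (gen_mem_U D) P := by
    rw [← hPQ]
    exact IsLocalization.mk'_spec' C.functionField P ⟨Q, hQ⟩
  have hQ0 : C.presheaf.germ D.U (genericPoint C) (gen_mem_U D) Q ≠ 0 := by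
    intro h0
    have hinj := germ_injective_of_isIntegral C (genericPoint C) (gen_mem_U D)
    have : Q = 0 := hinj (by rw [h0, map_zero])
    exact nonZeroDivisors.ne_zero hQ this
  have hev : ∀ p q : K[X], C.presheaf.germ D.U (genericPoint C) (gen_mem_U D)
      (p.eval₂ (sc f D.U) D.x + q.eval₂ (sc f D.U) D.x * D.y) =
      p.eval₂ (ι.comp (kInf D.W)) (xF D) + q.eval₂ (ι.comp (kInf D.W)) (xF D) * yF D := by
    intro p q
    have h1 : (C.presheaf.germ D.U (genericPoint C) (gen_mem_U D)).hom.comp (sc f D.U) =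
        ι.comp (kInf D.W) := by
      rw [hιk]; ext c; exact germ_sc f D.U _ _ c
    have h2 : ∀ p : K[X], (C.presheaf.germ D.U (genericPoint C) (gen_mem_U D)).hom
        (p.eval₂ (sc f D.U) D.x) = p.eval₂ (ι.comp (kInf D.W)) (xF D) := fun p => by
      rw [hom_eval₂, h1]; rfl
    rw [map_add, map_mul]
    erw [h2, h2]
    rfl
  obtain ⟨p, q, hp⟩ := exists_eval₂_U D P
  obtain ⟨p', q', hq⟩ := exists_eval₂_U D Q
  rw [hp, hev, hq, hev] at hPQ'
  rw [hq, hev] at hQ0
  obtain ⟨a, b, hb, hab⟩ := exists_frac (W := D.W) ι (x := xF D) (y := yF D)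
    (by rw [hιz]; exact wO_mul_yF D) (by rw [hιx]; exact zO_mul_yF D)
    ⟨p, q, p', q', hQ0, hPQ'⟩
  refine ⟨a, b, ?_, ?_⟩
  · intro h0
    apply hb
    change toFF (infHom D.W (scS f pt) (zO D) (wO D) (wEqInf_O D) b) = 0
    rw [h0, map_zero]
  · apply toFF_injective
    rw [map_mul]
    exact hab

/-- Local homomorphisms out of the local ring at the origin are given by solutions of the equation
at infinity. -/
theorem exists_stalkHom {A : Type u} [CommRing A] [IsLocalRing A] (r : K →+* A) {a b : A}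
    (ha : a ∈ IsLocalRing.maximalIdeal A) (hb : b ∈ IsLocalRing.maximalIdeal A)
    (hab : WEqInf D.W r a b) :
    ∃ φ : C.presheaf.stalk pt →+* A, IsLocalHom φ ∧ φ.comp (scS f pt) = r ∧ φ (zO D) = a ∧
      φ (wO D) = b :=
  exists_localHom (scS f pt) D.germ_z D.germ_w (wEqInf_O D) (wO_ne_zero D) (hfrac_O D) r ha hb hab

/-- The scalars in a stalk, as a morphism. -/
noncomputable def scM {X : Scheme.{u}} (q : X ⟶ Spec (CommRingCat.of K)) (x : X) :
    CommRingCat.of K ⟶ X.presheaf.stalk x :=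
  (Scheme.ΓSpecIso (CommRingCat.of K)).inv ≫ q.appTop ≫ X.presheaf.germ ⊤ x trivial

theorem scM_apply {X : Scheme.{u}} (q : X ⟶ Spec (CommRingCat.of K)) (x : X) (c : K) :
    scM q x c = scS q x c := by
  simp only [scM, scS, sc, Scheme.Hom.appTop, CommRingCat.hom_comp, Scheme.Hom.app_eq_appLE]
  rfl

theorem comp_fromSpecStalk_eq {X : Scheme.{u}} (q : X ⟶ Spec (CommRingCat.of K)) (x : X) :
    X.fromSpecStalk x ≫ q = Spec.map (scM q x) := by
  rw [← cancel_mono (Spec (CommRingCat.of K)).toSpecΓ, Category.assoc, Scheme.toSpecΓ_naturality,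
    Scheme.fromSpecStalk_toSpecΓ_assoc, ← SpecMap_ΓSpecIso_hom, ← Spec.map_comp, ← Spec.map_comp,
    scM, Iso.hom_inv_id_assoc]

theorem fromSpecStalkOfMem_closedPoint {X : Scheme.{u}} (U : X.Opens) (x : X) (hx : x ∈ U) :
    U.fromSpecStalkOfMem x hx (IsLocalRing.closedPoint (X.presheaf.stalk x)) = ⟨x, hx⟩ := by
  apply Subtype.ext
  have h := congrArg (fun g : Spec (X.presheaf.stalk x) ⟶ X => g (IsLocalRing.closedPoint _))
    (Scheme.Opens.fromSpecStalkOfMem_ι U x hx)
  simp only [Scheme.Hom.comp_apply, Scheme.fromSpecStalk_closedPoint] at h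
  exact h

theorem germ_eq_of_appTop_eq {X : Scheme.{u}} (x : X) (s t : Γ(X, ⊤))
    (h : (X.fromSpecStalk x).appTop s = (X.fromSpecStalk x).appTop t) :
    X.presheaf.germ ⊤ x trivial s = X.presheaf.germ ⊤ x trivial t := by
  rw [Scheme.fromSpecStalk_appTop] at h
  have h2 := (ConcreteCategory.bijective_of_isIso
    ((Scheme.ΓSpecIso (X.presheaf.stalk x)).inv ≫ 𝟙 _)).1
  apply h2
  have e : (homOfLE (le_top : (⊤ : (Spec (X.presheaf.stalk x)).Opens) ≤ ⊤)).op = 𝟙 _ := rfl
  have e' : (Spec (X.presheaf.stalk x)).presheaf.map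
      (homOfLE (le_top : (⊤ : (Spec (X.presheaf.stalk x)).Opens) ≤ ⊤)).op = 𝟙 _ := by
    rw [e, CategoryTheory.Functor.map_id]
  rw [← e']
  exact h

theorem injective_appTop_fromSpecStalkOfMem {X : Scheme.{u}} [IsIntegral X] (U : X.Opens) (x : X)
    (hx : x ∈ U) : Function.Injective (U.fromSpecStalkOfMem x hx).appTop := by
  have : Nonempty U := ⟨⟨x, hx⟩⟩
  intro s t hst
  have h1 : U.toScheme.fromSpecStalk ⟨x, hx⟩ =
      Spec.map (U.ι.stalkMap ⟨x, hx⟩) ≫ U.fromSpecStalkOfMem x hx := by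
    rw [← cancel_mono U.ι]
    refine (Scheme.SpecMap_stalkMap_fromSpecStalk U.ι (x := ⟨x, hx⟩)).symm.trans ?_
    rw [Category.assoc]
    exact congrArg (fun t => Spec.map (U.ι.stalkMap ⟨x, hx⟩) ≫ t)
      (Scheme.Opens.fromSpecStalkOfMem_ι U x hx).symm
  apply germ_injective_of_isIntegral U.toScheme (U := ⊤) ⟨x, hx⟩ trivial
  apply germ_eq_of_appTop_eq
  rw [h1, Scheme.Hom.comp_appTop]
  exact congrArg (Spec.map (U.ι.stalkMap ⟨x, hx⟩)).appTop hst

theorem top_le_preimage_fromSpecStalk {Y : Scheme.{u}} (y : Y) (V : Y.Opens) (hV : y ∈ V) :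
    (⊤ : (Spec (Y.presheaf.stalk y)).Opens) ≤ (Y.fromSpecStalk y) ⁻¹ᵁ V := by
  intro p _
  have h : (Y.fromSpecStalk y) p ⤳ y := by
    have : (Y.fromSpecStalk y) p ∈ Set.range (Y.fromSpecStalk y) := ⟨p, rfl⟩
    rw [Scheme.range_fromSpecStalk] at this
    exact this
  exact h.mem_open V.isOpen hV

theorem fromSpecStalk_appLE {Y : Scheme.{u}} (y : Y) (V : Y.Opens) (hV : y ∈ V)
    (e : (⊤ : (Spec (Y.presheaf.stalk y)).Opens) ≤ (Y.fromSpecStalk y) ⁻¹ᵁ V) :
    (Y.fromSpecStalk y).appLE V ⊤ e =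
      Y.presheaf.germ V y hV ≫ (Scheme.ΓSpecIso (Y.presheaf.stalk y)).inv := by
  rw [Scheme.Hom.appLE, Scheme.fromSpecStalk_app hV, Category.assoc, Category.assoc,
    ← Functor.map_comp]
  have : (homOfLE (le_top : (Y.fromSpecStalk y) ⁻¹ᵁ V ≤ ⊤)).op ≫ (homOfLE e).op = 𝟙 _ := rfl
  rw [this, CategoryTheory.Functor.map_id, Category.comp_id]

theorem appLE_fromSpecStalk {X Y : Scheme.{u}} (y : Y) {x : X}
    (φ : Y.presheaf.stalk y ⟶ X.presheaf.stalk x) (V : Y.Opens) (hV : y ∈ V)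
    (e : (⊤ : (Spec (X.presheaf.stalk x)).Opens) ≤ (Spec.map φ ≫ Y.fromSpecStalk y) ⁻¹ᵁ V)
    (s : Γ(Y, V)) (a : Γ(X, ⊤)) (h : φ (Y.presheaf.germ V y hV s) = X.presheaf.germ ⊤ x trivial a) :
    (Spec.map φ ≫ Y.fromSpecStalk y).appLE V ⊤ e s = (X.fromSpecStalk x).appTop a := by
  have h1 : (Spec.map φ ≫ Y.fromSpecStalk y).appLE V ⊤ e =
      Y.presheaf.germ V y hV ≫ φ ≫ (Scheme.ΓSpecIso (X.presheaf.stalk x)).inv := by
    rw [← Scheme.Hom.appLE_comp_appLE (Spec.map φ) (Y.fromSpecStalk y) V ⊤ ⊤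
      (top_le_preimage_fromSpecStalk y V hV) le_top, fromSpecStalk_appLE y V hV,
      Category.assoc, Scheme.ΓSpecIso_inv_naturality φ]
    congr 2
  have h2 : (X.fromSpecStalk x).appTop =
      X.presheaf.germ ⊤ x trivial ≫ (Scheme.ΓSpecIso (X.presheaf.stalk x)).inv := by
    rw [← fromSpecStalk_appLE x ⊤ trivial le_top]
    exact Scheme.Hom.app_eq_appLE _
  rw [h1, h2]
  exact congrArg (Scheme.ΓSpecIso (X.presheaf.stalk x)).inv.hom h

/-- Morphisms to the curve near the origin are given by solutions of the equation at infinity. -/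
theorem exists_of_coords_aux [LocallyOfFiniteType f] (T : Scheme.{u}) [IsIntegral T]
    (q : T ⟶ Spec (CommRingCat.of K)) (t : T) (a b : Γ(T, ⊤)) (h : WEqInf D.W (sc q ⊤) a b)
    (ha : T.presheaf.germ ⊤ t trivial a ∈ IsLocalRing.maximalIdeal (T.presheaf.stalk t))
    (hb : T.presheaf.germ ⊤ t trivial b ∈ IsLocalRing.maximalIdeal (T.presheaf.stalk t)) :
    ∃ (N : T.Opens) (_ : t ∈ N) (c : N.toScheme ⟶ C) (_ : c ≫ f = N.ι ≫ q)
      (hc : ∀ n, c n ∈ D.V), c.appLE D.V ⊤ (fun n _ => hc n) D.z = N.ι.appTop a ∧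
        c.appLE D.V ⊤ (fun n _ => hc n) D.w = N.ι.appTop b := by
  have h' : WEqInf D.W (scS q t) (T.presheaf.germ ⊤ t trivial a) (T.presheaf.germ ⊤ t trivial b) := by
    have h1 := congrArg (T.presheaf.germ ⊤ t trivial) h
    simp only [map_add, map_mul, map_pow, germ_sc] at h1
    exact h1
  obtain ⟨φ, hφl, hφs, hφz, hφw⟩ := exists_stalkHom D (scS q t) ha hb h'
  let φ' : C.presheaf.stalk pt ⟶ T.presheaf.stalk t := CommRingCat.ofHom φ
  have hover : (Spec.map φ' ≫ C.fromSpecStalk pt) ≫ f = T.fromSpecStalk t ≫ q := by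
    rw [Category.assoc, comp_fromSpecStalk_eq, comp_fromSpecStalk_eq, ← Spec.map_comp]
    congr 1
    ext c
    change φ (scM f pt c) = scM q t c
    rw [scM_apply, scM_apply, ← hφs]
    rfl
  obtain ⟨N, hN, c, hc1, hc2⟩ := spread_out_of_isGermInjective' q f
    (Spec.map φ' ≫ C.fromSpecStalk pt) hover
  have hct : c ⟨t, hN⟩ = pt := by
    have h1 : (Spec.map φ' ≫ C.fromSpecStalk pt)
        (IsLocalRing.closedPoint (T.presheaf.stalk t)) = pt := by
      rw [Scheme.Hom.comp_apply]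
      have : (Spec.map φ') (IsLocalRing.closedPoint (T.presheaf.stalk t)) =
          IsLocalRing.closedPoint (C.presheaf.stalk pt) := IsLocalRing.comap_closedPoint φ
      rw [this, Scheme.fromSpecStalk_closedPoint]
    rw [hc1, Scheme.Hom.comp_apply, fromSpecStalkOfMem_closedPoint] at h1
    exact h1
  let N' : T.Opens := N.ι ''ᵁ (c ⁻¹ᵁ D.V)
  have hN'le : N' ≤ N := by
    rintro _ ⟨y, _, rfl⟩
    exact y.2
  have htN' : t ∈ N' := ⟨⟨t, hN⟩, by change c ⟨t, hN⟩ ∈ D.V; rw [hct]; exact D.memV, rfl⟩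
  have hmem : ∀ n : N', (T.homOfLE hN'le ≫ c) n ∈ D.V := by
    intro n
    rw [Scheme.Hom.comp_apply]
    obtain ⟨y, hy, hyn⟩ := n.2
    have : (T.homOfLE hN'le) n = y := by
      apply Subtype.ext
      refine Eq.trans ?_ hyn.symm
      exact congrArg (fun g : N'.toScheme ⟶ T => g n) (Scheme.homOfLE_ι T hN'le)
    rw [this]
    exact hy
  have hσ : N'.fromSpecStalkOfMem t htN' ≫ T.homOfLE hN'le = N.fromSpecStalkOfMem t hN := by
    rw [← cancel_mono N.ι, Category.assoc, Scheme.homOfLE_ι, Scheme.Opens.fromSpecStalkOfMem_ι,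
      Scheme.Opens.fromSpecStalkOfMem_ι]
  have key : ∀ (s : Γ(C, D.V)) (a : Γ(T, ⊤)),
      φ' (C.presheaf.germ D.V pt D.memV s) = T.presheaf.germ ⊤ t trivial a →
      (T.homOfLE hN'le ≫ c).appLE D.V ⊤ (fun n _ => hmem n) s = N'.ι.appTop a := by
    intro s a hsa
    apply injective_appTop_fromSpecStalkOfMem N' t htN'
    have e1 : (N'.fromSpecStalkOfMem t htN').appTop
        ((T.homOfLE hN'le ≫ c).appLE D.V ⊤ (fun n _ => hmem n) s) =
        (N'.fromSpecStalkOfMem t htN' ≫ T.homOfLE hN'le ≫ c).appLE D.V ⊤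
          (fun n _ => hmem _) s := by
      have := Scheme.Hom.appLE_comp_appLE (N'.fromSpecStalkOfMem t htN') (T.homOfLE hN'le ≫ c)
        D.V ⊤ ⊤ (fun n _ => hmem n) le_top
      rw [← this, Scheme.Hom.appTop, Scheme.Hom.app_eq_appLE]
      rfl
    have e2 : (N'.fromSpecStalkOfMem t htN').appTop (N'.ι.appTop a) =
        (T.fromSpecStalk t).appTop a := by
      rw [← Scheme.Opens.fromSpecStalkOfMem_ι N' t htN', Scheme.Hom.comp_appTop]
      rfl
    rw [e1, e2]
    have e3 : N'.fromSpecStalkOfMem t htN' ≫ T.homOfLE hN'le ≫ c =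
        Spec.map φ' ≫ C.fromSpecStalk pt := by
      rw [← Category.assoc, hσ, hc1]
    have e4 : ∀ (g g' : Spec (T.presheaf.stalk t) ⟶ C) (hg : g = g') (e : ⊤ ≤ g ⁻¹ᵁ D.V)
        (e' : ⊤ ≤ g' ⁻¹ᵁ D.V), g.appLE D.V ⊤ e s = g'.appLE D.V ⊤ e' s := by
      rintro g _ rfl _ _; rfl
    rw [e4 _ _ e3 _ (by rw [← e3]; exact fun n _ => hmem _)]
    exact appLE_fromSpecStalk pt φ' D.V D.memV _ s a hsa
  refine ⟨N', htN', T.homOfLE hN'le ≫ c, ?_, hmem, key _ _ hφz, key _ _ hφw⟩
  rw [Category.assoc, hc2, Scheme.homOfLE_ι_assoc]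

end Main

/-- Morphisms to the curve near the origin are given by solutions of the equation at infinity. -/
theorem exists_of_coords {K : Type u} [Field K] {C : Scheme.{u}} (f : C ⟶ Spec (CommRingCat.of K))
    [Smooth f] [IsIntegral C] (pt : C) (D : WCoord f pt) (T : Scheme.{u}) [IsIntegral T]
    (q : T ⟶ Spec (CommRingCat.of K)) (t : T) (a b : Γ(T, ⊤)) (h : WEqInf D.W (sc q ⊤) a b)
    (ha : T.presheaf.germ ⊤ t trivial a ∈ IsLocalRing.maximalIdeal (T.presheaf.stalk t))
    (hb : T.presheaf.germ ⊤ t trivial b ∈ IsLocalRing.maximalIdeal (T.presheaf.stalk t)) :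
    ∃ (N : T.Opens) (_ : t ∈ N) (c : N.toScheme ⟶ C) (_ : c ≫ f = N.ι ≫ q)
      (hc : ∀ n, c n ∈ D.V), c.appLE D.V ⊤ (fun n _ => hc n) D.z = N.ι.appTop a ∧
        c.appLE D.V ⊤ (fun n _ => hc n) D.w = N.ι.appTop b :=
  exists_of_coords_aux D T q t a b h ha hb

end Groth.Agent.VarietyA.Ell
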