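import Groth.Agent.VarietyA.EllDefs
import Groth.Agent.Dix.EllScheme
import Mathlib.AlgebraicGeometry.EllipticCurve.Affine.Basic
import Mathlib.AlgebraicGeometry.Geometrically.Irreducible
import Mathlib.RingTheory.Smooth.Basic

/-!
# Integrality of products and nonsingularity of Weierstrass equations of smooth curves
-/

set_option autoImplicit false
universe u
open CategoryTheory CategoryTheory.Limits AlgebraicGeometry Polynomial

namespace Groth.Agent.VarietyA.EllNonsing

open Groth.Agent.VarietyA.Ell

/-- A smooth geometrically irreducible scheme over a field is integral. -/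
theorem isIntegral_of_smooth {K : Type u} [Field K] {C : Scheme.{u}} (f : C ⟶ Spec (CommRingCat.of K))
    [Smooth f] [GeometricallyIrreducible f] : IsIntegral C := by
  have h1 : IsReduced C := Dix.EllScheme.isReduced_of_smooth f
  have h2 : IrreducibleSpace C := GeometricallyIrreducible.irreducibleSpace f f.isOpenMap
  exact isIntegral_of_irreducibleSpace_of_isReduced C

/-- The product of smooth schemes over a field, one of them integral and the other geometrically irreducible, is
integral. -/
theorem isIntegral_pullback {K : Type u} [Field K] {C D : Scheme.{u}} (f : C ⟶ Spec (CommRingCat.of K))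
    (g : D ⟶ Spec (CommRingCat.of K)) [Smooth f] [GeometricallyIrreducible f] [Smooth g]
    [GeometricallyIrreducible g] : IsIntegral (pullback f g) := by
  have h0 : IsIntegral D := isIntegral_of_smooth g
  have h1 : IsReduced (pullback f g) := Dix.EllScheme.isReduced_of_smooth (pullback.fst f g ≫ f)
  have h2 : IrreducibleSpace ↥(pullback f g) := inferInstance
  exact isIntegral_of_irreducibleSpace_of_isReduced _

/-- If the ring of the affine Weierstrass curve is formally smooth over the base field then every field-valued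
point is nonsingular. -/
theorem partial_ne_zero {K A F : Type u} [Field K] [CommRing A] [Field F] (W : WeierstrassCurve K)
    [Algebra K A] [Algebra.FormallySmooth K A] (x y : A) (heqn : WEq W (algebraMap K A) x y)
    (univ : ∀ {B : Type u} [CommRing B] (s : K →+* B) (a b : B), WEq W s a b →
      ∃ φ : A →+* B, φ.comp (algebraMap K A) = s ∧ φ x = a ∧ φ y = b)
    (s : K →+* F) (a b : F) (h : WEq W s a b)
    (hX : s W.a₁ * b - (3 * a ^ 2 + 2 * s W.a₂ * a + s W.a₄) = 0)
    (hY : 2 * b + s W.a₁ * a + s W.a₃ = 0) : False := by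
  let J : Ideal F[X] := Ideal.span {X ^ 3}
  let B := F[X] ⧸ J
  let ι : F →+* B := (Ideal.Quotient.mk J).comp Polynomial.C
  let ε : B := Ideal.Quotient.mk J X
  have hε3 : ε ^ 3 = 0 := by
    rw [← map_pow]
    exact Ideal.Quotient.eq_zero_iff_mem.2 (Ideal.mem_span_singleton_self _)
  have hε2 : ε ^ 2 ≠ 0 := by
    rw [← map_pow]
    intro h0
    have h1 : (X ^ 2 : F[X]) ∈ J := Ideal.Quotient.eq_zero_iff_mem.1 h0
    rw [Ideal.mem_span_singleton] at h1
    have h2 := Polynomial.natDegree_le_of_dvd h1 (pow_ne_zero 2 Polynomial.X_ne_zero)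
    rw [Polynomial.natDegree_X_pow, Polynomial.natDegree_X_pow] at h2
    omega
  let I : Ideal B := Ideal.span {ε ^ 2}
  have hI : IsNilpotent I := by
    refine ⟨2, ?_⟩
    rw [Ideal.span_singleton_pow, ← pow_mul, show 2 * 2 = 3 + 1 from rfl, pow_succ, hε3, zero_mul,
      Ideal.span_singleton_eq_bot.2 rfl]
    rfl
  let π := Ideal.Quotient.mk I
  have hπε : π ε ^ 2 = 0 := by
    rw [← map_pow]
    exact Ideal.Quotient.eq_zero_iff_mem.2 (Ideal.mem_span_singleton_self _)
  -- images of the relations
  have h' : (ι b) ^ 2 + ι (s W.a₁) * ι a * ι b + ι (s W.a₃) * ι b =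
      (ι a) ^ 3 + ι (s W.a₂) * (ι a) ^ 2 + ι (s W.a₄) * ι a + ι (s W.a₆) := by
    have := congrArg ι h
    simpa only [map_add, map_mul, map_pow] using this
  have hX' : ι (s W.a₁) * ι b - (3 * (ι a) ^ 2 + 2 * ι (s W.a₂) * ι a + ι (s W.a₄)) = 0 := by
    have := congrArg ι hX
    simpa only [map_add, map_mul, map_pow, map_sub, map_zero, map_ofNat] using this
  have hY' : 2 * ι b + ι (s W.a₁) * ι a + ι (s W.a₃) = 0 := by
    have := congrArg ι hY
    simpa only [map_add, map_mul, map_pow, map_sub, map_zero, map_ofNat] using this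
  obtain ⟨φ, hφs, hφx, hφy⟩ := univ (π.comp (ι.comp s)) (π (ι a)) (π (ι b) + π ε) (by
    have e1 := congrArg π h'
    have e2 := congrArg π hY'
    simp only [map_add, map_mul, map_pow, map_zero, map_ofNat] at e1 e2
    simp only [WEq, RingHom.comp_apply]
    linear_combination e1 + (π ε) * e2 + hπε)
  let : Algebra K B := (ι.comp s).toAlgebra
  let φ' : A →ₐ[K] B ⧸ I := { φ with commutes' := fun r => DFunLike.congr_fun hφs r }
  let ψ : A →ₐ[K] B := Algebra.FormallySmooth.lift I hI φ'
  have hψ : ∀ z, π (ψ z) = φ z := fun z => Algebra.FormallySmooth.mk_lift I hI φ' z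
  have hx3 : ψ x - ι a ∈ I := by
    apply Ideal.Quotient.eq_zero_iff_mem.1
    rw [map_sub]
    exact sub_eq_zero.2 ((hψ x).trans hφx)
  have hy3 : ψ y - (ι b + ε) ∈ I := by
    apply Ideal.Quotient.eq_zero_iff_mem.1
    rw [map_sub]
    refine sub_eq_zero.2 ((hψ y).trans ?_)
    rw [hφy, map_add]
  obtain ⟨a', ha'⟩ := Ideal.mem_span_singleton'.1 hx3
  obtain ⟨b', hb'⟩ := Ideal.mem_span_singleton'.1 hy3
  have hx3' : ψ x = ι a + a' * ε ^ 2 := by rw [ha']; ring
  have hy3' : ψ y = ι b + ε + b' * ε ^ 2 := by rw [hb']; ring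
  have hcm : ∀ r : K, ψ (algebraMap K A r) = ι (s r) := fun r => ψ.commutes r
  have heq3 := congrArg ψ heqn
  simp only [map_add, map_mul, map_pow, hcm, hx3', hy3'] at heq3
  apply hε2
  linear_combination heq3 - h' - (ε + b' * ε ^ 2) * hY' - (a' * ε ^ 2) * hX' -
    (2 * b' + b' ^ 2 * ε + ι (s W.a₁) * a' + ι (s W.a₁) * a' * b' * ε - 3 * ι a * a' ^ 2 * ε -
      a' ^ 3 * ε ^ 3 - ι (s W.a₂) * a' ^ 2 * ε) * hε3

/-- The scalars in the sections over an affine open of a smooth scheme are formally smooth. -/
theorem formallySmooth_sc {K : Type u} [Field K] {C : Scheme.{u}} (f : C ⟶ Spec (CommRingCat.of K))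
    [Smooth f] (U : C.Opens) (hU : IsAffineOpen U) : (sc f U).FormallySmooth := by
  have h1 : (f.appLE ⊤ U le_top).hom.FormallySmooth :=
    (HasRingHomProperty.appLE @Smooth f inferInstance ⟨⊤, isAffineOpen_top _⟩ ⟨U, hU⟩ le_top :
      (f.appLE ⊤ U le_top).hom.Smooth).formallySmooth
  exact (RingHom.FormallySmooth.of_bijective
    (ConcreteCategory.bijective_of_isIso (Scheme.ΓSpecIso (CommRingCat.of K)).inv)).comp h1

/-- Points of the affine part of a smooth curve with Weierstrass coordinates are nonsingular. -/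
theorem nonsingular {K : Type u} [Field K] {C : Scheme.{u}} (f : C ⟶ Spec (CommRingCat.of K)) [Smooth f]
    (pt : C) (D : WCoord f pt) {F : Type u} [Field F] (s : K →+* F) (a b : F) (h : WEq D.W s a b) :
    (D.W.map s).toAffine.Nonsingular a b := by
  rw [WeierstrassCurve.Affine.nonsingular_iff']
  refine ⟨(WeierstrassCurve.Affine.equation_iff a b).2 h, ?_⟩
  by_contra hcon
  rw [not_or, not_not, not_not] at hcon
  let : Algebra K Γ(C, D.U) := (sc f D.U).toAlgebra
  have : Algebra.FormallySmooth K Γ(C, D.U) := formallySmooth_sc f D.U D.affU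
  exact partial_ne_zero D.W D.x D.y D.eqn D.univ s a b h hcon.1 hcon.2

end Groth.Agent.VarietyA.EllNonsing
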