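import Groth.Agent.VarietyA.EllChord
import Groth.Agent.VarietyA.EllInf
import Groth.Agent.VarietyA.EllForm
import Groth.Agent.VarietyA.EllGen
import Groth.Agent.VarietyA.EllCmp
import Groth.Agent.VarietyA.EllFin
import Groth.Agent.VarietyA.EllGlue
import Groth.Agent.VarietyA.EllNonsing

/-!
# The group law on a smooth proper geometrically irreducible curve of genus one with a rational point
-/

set_option autoImplicit false
universe u
open CategoryTheory CategoryTheory.Limits AlgebraicGeometry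
open WeierstrassCurve
open scoped WeierstrassCurve.Projective

namespace Groth.Agent.VarietyA.Ell

open Groth.Agent.VarietyA.EllAlg

variable {K : Type u} [Field K] {C : Scheme.{u}} {f : C ⟶ Spec (CommRingCat.of K)} {pt : C} (D : WCoord f pt)

theorem exists_lift_point {F : Type u} [Field F] {N T : Scheme.{u}} (j : N ⟶ T) [IsOpenImmersion j]
    (u : Spec (CommRingCat.of F) ⟶ T) (h : u (IsLocalRing.closedPoint F) ∈ Set.range j) :
    ∃ v : Spec (CommRingCat.of F) ⟶ N, v ≫ j = u := by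
  have hr : Set.range u ⊆ Set.range j := by
    rintro _ ⟨p, rfl⟩
    have : p = IsLocalRing.closedPoint F := Subsingleton.elim (α := PrimeSpectrum F) _ _
    rw [this]
    exact h
  exact ⟨IsOpenImmersion.lift j u hr, IsOpenImmersion.lift_fac _ _ _⟩

/-- The case of the origin twice. -/
theorem hasChord_VV (hD : LocInf D) (hns : NS D) [IsSeparated f] (o : Spec (CommRingCat.of K) ⟶ C)
    (ho : o ≫ f = 𝟙 _) (hpt : pt ∈ Set.range o) {T : Scheme.{u}} [IsIntegral T]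
    (q : T ⟶ Spec (CommRingCat.of K)) (c₁ c₂ : T ⟶ C) (h₁ : c₁ ≫ f = q) (h₂ : c₂ ≫ f = q)
    (hgen : ∀ (F : Type u) [Field F] (u : Spec (CommRingCat.of F) ⟶ T),
      u (IsLocalRing.closedPoint F) = genericPoint T →
      ∃ (k₁ : ⊤ ≤ (u ≫ c₁) ⁻¹ᵁ D.U) (k₂ : ⊤ ≤ (u ≫ c₂) ⁻¹ᵁ D.U),
      ev _ D.U k₁ D.x ≠ ev _ D.U k₂ D.x ∧
      ev _ D.U k₁ D.x * ev _ D.U k₂ D.y ≠ ev _ D.U k₂ D.x * ev _ D.U k₁ D.y) (t : T)
    (e₁ : c₁ t = pt) (e₂ : c₂ t = pt) : HasChord D q c₁ c₂ t := by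
  classical
  let N : T.Opens := c₁ ⁻¹ᵁ D.V ⊓ c₂ ⁻¹ᵁ D.V
  have hN : t ∈ N := ⟨by change c₁ t ∈ D.V; rw [e₁]; exact D.memV, by change c₂ t ∈ D.V; rw [e₂]; exact D.memV⟩
  have : Nonempty N.toScheme := ⟨⟨t, hN⟩⟩
  have : IsIntegral N.toScheme := isIntegral_of_isOpenImmersion N.ι
  have hV₁ := le_comp_ι N c₁ D.V inf_le_left
  have hV₂ := le_comp_ι N c₂ D.V inf_le_right
  have hP := rep_V D (N.ι ≫ c₁) hV₁
  have hQ := rep_V D (N.ι ≫ c₂) hV₂
  set z₁ := (N.ι ≫ c₁).appLE D.V ⊤ hV₁ D.z with hz₁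
  set w₁ := (N.ι ≫ c₁).appLE D.V ⊤ hV₁ D.w with hw₁
  set z₂ := (N.ι ≫ c₂).appLE D.V ⊤ hV₂ D.z with hz₂
  set w₂ := (N.ι ≫ c₂).appLE D.V ⊤ hV₂ D.w with hw₂
  have hq₁ : (N.ι ≫ c₁) ≫ f = N.ι ≫ q := by rw [Category.assoc, h₁]
  have hq₂ : (N.ι ≫ c₂) ≫ f = N.ι ≫ q := by rw [Category.assoc, h₂]
  -- the values at points over the origin
  have hval : ∀ (F : Type u) [Field F] (u : Spec (CommRingCat.of F) ⟶ N.toScheme),
      c₁ ((u ≫ N.ι) (IsLocalRing.closedPoint F)) = pt → c₂ ((u ≫ N.ι) (IsLocalRing.closedPoint F)) = pt →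
      evT u z₁ = 0 ∧ evT u w₁ = 0 ∧ evT u z₂ = 0 ∧ evT u w₂ = 0 := by
    intro F _ u k₁ k₂
    have a₁ := ev_pt D (u ≫ N.ι ≫ c₁) (le_comp u _ D.V hV₁)
      (by rw [← Category.assoc, Scheme.Hom.comp_apply]; exact k₁)
    have a₂ := ev_pt D (u ≫ N.ι ≫ c₂) (le_comp u _ D.V hV₂)
      (by rw [← Category.assoc, Scheme.Hom.comp_apply]; exact k₂)
    rw [← evT_appLE u _ D.V hV₁, ← evT_appLE u _ D.V hV₁] at a₁
    rw [← evT_appLE u _ D.V hV₂, ← evT_appLE u _ D.V hV₂] at a₂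
    exact ⟨a₁.1, a₁.2, a₂.1, a₂.2⟩
  have hsum0 : ∀ (F : Type u) [Field F] (u : Spec (CommRingCat.of F) ⟶ N.toScheme),
      c₁ ((u ≫ N.ι) (IsLocalRing.closedPoint F)) = pt → c₂ ((u ≫ N.ι) (IsLocalRing.closedPoint F)) = pt →
      IsSum (D.W.map (sc (N.ι ≫ q) ⊤)) ![z₁, 1, w₁] ![z₂, 1, w₂]
        (infTriple (D.W.map (sc (N.ι ≫ q) ⊤)) z₁ w₁ z₂ w₂) (evT u) := by
    intro F _ u k₁ k₂
    obtain ⟨a₁, a₂, a₃, a₄⟩ := hval F u k₁ k₂
    exact isSum_infTriple_zero _ _ _ _ _ _ a₁ a₂ a₃ a₄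
  obtain ⟨n, hn⟩ : ∃ n : N.toScheme, N.ι n = t := ⟨⟨t, hN⟩, rfl⟩
  -- `Hi` and `Ki` at `t`
  have hHK : n ∈ N.toScheme.basicOpen (Hi (D.W.map (sc (N.ι ≫ q) ⊤)) z₁ w₁ w₂) ∧
      n ∈ N.toScheme.basicOpen (Ki (D.W.map (sc (N.ι ≫ q) ⊤)) z₁ w₁ z₂ w₂) := by
    obtain ⟨F, _, u, hu⟩ := exists_field_point N.toScheme n
    have ht : (u ≫ N.ι) (IsLocalRing.closedPoint F) = t := by rw [Scheme.Hom.comp_apply, hu, hn]
    obtain ⟨a₁, a₂, a₃, a₄⟩ := hval F u (by rw [ht]; exact e₁) (by rw [ht]; exact e₂)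
    rw [← hu, ← evT_ne_zero_iff, ← evT_ne_zero_iff, map_Hi, map_Ki, a₁, a₂, a₃, a₄]
    constructor
    · simp [Hi]
    · simp [Ki, Hi, Gi]
  have hsum1 : ∀ (F : Type u) [Field F] (u : Spec (CommRingCat.of F) ⟶ N.toScheme),
      (u ≫ N.ι) (IsLocalRing.closedPoint F) = genericPoint T →
      IsSum (D.W.map (sc (N.ι ≫ q) ⊤)) ![z₁, 1, w₁] ![z₂, 1, w₂]
        (infTriple (D.W.map (sc (N.ι ≫ q) ⊤)) z₁ w₁ z₂ w₂) (evT u) := by
    intro F _ u hu
    have hu' : u (IsLocalRing.closedPoint F) = genericPoint N.toScheme := by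
      apply N.ι.isOpenEmbedding.injective
      rw [← Scheme.Hom.comp_apply, hu, genericPoint_eq_of_isOpenImmersion]
    obtain ⟨k₁, k₂, hx, hxy⟩ := hgen F (u ≫ N.ι) hu
    have n₁ := rep_nonsingular D hns _ _ hq₁ _ hP u
    have n₂ := rep_nonsingular D hns _ _ hq₂ _ hQ u
    rw [comp_triple, map_one] at n₁ n₂
    have k₁' : ⊤ ≤ (u ≫ N.ι ≫ c₁) ⁻¹ᵁ D.U := by rw [← Category.assoc]; exact k₁
    have k₂' : ⊤ ≤ (u ≫ N.ι ≫ c₂) ⁻¹ᵁ D.U := by rw [← Category.assoc]; exact k₂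
    have b₁ := ev_rel D (u ≫ N.ι ≫ c₁) k₁' (le_comp u _ D.V hV₁)
    have b₂ := ev_rel D (u ≫ N.ι ≫ c₂) k₂' (le_comp u _ D.V hV₂)
    rw [← evT_appLE u _ D.V hV₁, ← evT_appLE u _ D.V hV₁] at b₁
    rw [← evT_appLE u _ D.V hV₂, ← evT_appLE u _ D.V hV₂] at b₂
    have hx' : ev (u ≫ N.ι ≫ c₁) D.U k₁' D.x ≠ ev (u ≫ N.ι ≫ c₂) D.U k₂' D.x := by
      simpa only [Category.assoc] using hx
    have hxy' : ev (u ≫ N.ι ≫ c₁) D.U k₁' D.x * ev (u ≫ N.ι ≫ c₂) D.U k₂' D.y ≠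
        ev (u ≫ N.ι ≫ c₂) D.U k₂' D.x * ev (u ≫ N.ι ≫ c₁) D.U k₁' D.y := by
      simpa only [Category.assoc] using hxy
    set X₁ := ev (u ≫ N.ι ≫ c₁) D.U k₁' D.x
    set Y₁ := ev (u ≫ N.ι ≫ c₁) D.U k₁' D.y
    set X₂ := ev (u ≫ N.ι ≫ c₂) D.U k₂' D.x
    set Y₂ := ev (u ≫ N.ι ≫ c₂) D.U k₂' D.y
    obtain ⟨b₁w, b₁z⟩ := b₁
    obtain ⟨b₂w, b₂z⟩ := b₂
    rw [← hw₁] at b₁w
    rw [← hz₁] at b₁z
    rw [← hw₂] at b₂w
    rw [← hz₂] at b₂z
    refine isSum_infTriple _ _ _ _ _ _ n₁ n₂ (left_ne_zero_of_mul (by rw [b₁w]; exact one_ne_zero))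
      (left_ne_zero_of_mul (by rw [b₂w]; exact one_ne_zero)) ?_ ?_ ?_ ?_
    · intro h
      apply hxy'
      rw [← b₁z, ← b₂z, h]
      ring
    · intro h
      apply hx'
      rw [map_mul, map_mul] at h
      rw [← b₁z, ← b₂z]
      linear_combination Y₁ * Y₂ * h - (evT u z₁) * Y₁ * b₂w + (evT u z₂) * Y₂ * b₁w
    · rw [evT_ne_zero_iff, hu']
      exact generic_mem_basicOpen _ _ hHK.1
    · rw [evT_ne_zero_iff, hu']
      exact generic_mem_basicOpen _ _ hHK.2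
  obtain ⟨N', j, _, ⟨n', hn'⟩, m, hm, hrep⟩ := chart_gen D hD (N.ι ≫ q)
    (infTriple (D.W.map (sc (N.ι ≫ q) ⊤)) z₁ w₁ z₂ w₂) (by
      obtain ⟨F, _, u, hu⟩ := exists_field_point N.toScheme (genericPoint N.toScheme)
      refine ⟨F, _, u, hu, (hsum1 F u ?_).1⟩
      rw [Scheme.Hom.comp_apply, hu, genericPoint_eq_of_isOpenImmersion]) n (by
      obtain ⟨F, _, u, hu⟩ := exists_field_point N.toScheme n
      have ht : (u ≫ N.ι) (IsLocalRing.closedPoint F) = t := by rw [Scheme.Hom.comp_apply, hu, hn]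
      exact ⟨F, _, u, hu, (hsum0 F u (by rw [ht]; exact e₁) (by rw [ht]; exact e₂)).1⟩)
  have hneg : ∀ (F : Type u) [Field F] (u : Spec (CommRingCat.of F) ⟶ N'),
      IsSum (D.W.map (sc (N.ι ≫ q) ⊤)) ![z₁, 1, w₁] ![z₂, 1, w₂]
        (infTriple (D.W.map (sc (N.ι ≫ q) ⊤)) z₁ w₁ z₂ w₂) (evT (u ≫ j)) →
      NegSum D (Spec.preimage (u ≫ (j ≫ N.ι) ≫ q)).hom (u ≫ (j ≫ N.ι) ≫ c₁) (u ≫ (j ≫ N.ι) ≫ c₂) (u ≫ m) := by
    intro F _ u h
    have := negSum_of_isSum D (N.ι ≫ q) j (N.ι ≫ c₁) (N.ι ≫ c₂) m _ _ _ hP hQ hrep u h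
    simpa only [Category.assoc] using this
  refine ⟨N', j ≫ N.ι, inferInstance, ⟨n', ?_⟩, m, by rw [hm, Category.assoc], ?_⟩
  · rw [Scheme.Hom.comp_apply, hn', hn]
  intro F _ u
  by_cases hc : c₁ ((u ≫ j ≫ N.ι) (IsLocalRing.closedPoint F)) = pt ∧
      c₂ ((u ≫ j ≫ N.ι) (IsLocalRing.closedPoint F)) = pt
  · apply hneg
    apply hsum0
    · rw [Category.assoc]; exact hc.1
    · rw [Category.assoc]; exact hc.2
  · obtain ⟨N₂, j₂, _, hr₂, m₂, hm₂, hs₂⟩ := hasChord_of_ne D hD hns q c₁ c₂ h₁ h₂ _ hc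
    obtain ⟨u₂, hu₂⟩ := exists_lift_point j₂ (u ≫ j ≫ N.ι) hr₂
    have key := eq_of_generic q f (j ≫ N.ι) j₂ m m₂ (by rw [hm, Category.assoc]) hm₂ (by
      intro F' _ v₁ v₂ hv hv'
      refine negSum_unique D hns o ho hpt (v₁ ≫ (j ≫ N.ι) ≫ q) (v₁ ≫ (j ≫ N.ι) ≫ c₁) (v₁ ≫ (j ≫ N.ι) ≫ c₂)
        _ _ ?_ ?_ (hneg F' v₁ ?_) ?_
      · rw [Category.assoc, hm, Category.assoc]
      · rw [Category.assoc, hm₂, ← Category.assoc, ← hv, Category.assoc]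
      · apply hsum1
        rw [Category.assoc]
        exact hv'
      · have := hs₂ F' v₂
        have e : ∀ {Z : Scheme.{u}} (a : T ⟶ Z), v₂ ≫ j₂ ≫ a = v₁ ≫ (j ≫ N.ι) ≫ a := by
          intro Z a
          rw [← Category.assoc, ← hv, Category.assoc]
        rw [e, e, e] at this
        exact this) F u u₂ hu₂.symm
    rw [key]
    have := hs₂ F u₂
    have e : ∀ {Z : Scheme.{u}} (a : T ⟶ Z), u₂ ≫ j₂ ≫ a = u ≫ (j ≫ N.ι) ≫ a := by
      intro Z a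
      rw [← Category.assoc, hu₂, Category.assoc]
    rw [e, e, e] at this
    exact this

/-- The group law. -/
theorem exists_grpObj {K : Type u} [Field K] (C : Over (Spec (CommRingCat.of K))) [IsProper C.hom]
    [Smooth C.hom] [GeometricallyIrreducible C.hom] (hdim : topologicalKrullDim C.left = 1)
    (hg : Module.finrank K (Coh.HH C.left (Coh.structureModule _) 1) = 1)
    (o : Over.mk (𝟙 (Spec (CommRingCat.of K))) ⟶ C) : Nonempty (GrpObj C) := by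
  obtain ⟨D⟩ := exists_wCoord C hdim hg o
  have hint : IsIntegral C.left := EllNonsing.isIntegral_of_smooth C.hom
  have hT : IsIntegral (pullback C.hom C.hom) := EllNonsing.isIntegral_pullback C.hom C.hom
  have hns : NS D := fun s a b h => EllNonsing.nonsingular C.hom _ D s a b h
  have hD : LocInf D := fun T _ q t a b h ha hb => exists_of_coords C.hom _ D T q t a b h ha hb
  have ho : o.left ≫ C.hom = 𝟙 _ := Over.w o
  have hpt : o.left (IsLocalRing.closedPoint K) ∈ Set.range o.left := ⟨_, rfl⟩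
  obtain ⟨m, hm, hs⟩ := exists_glue (T := pullback C.hom C.hom) (pullback.fst C.hom C.hom ≫ C.hom) C.hom
    (fun F _ u v => NegSum D (Spec.preimage (u ≫ pullback.fst C.hom C.hom ≫ C.hom)).hom
      (u ≫ pullback.fst C.hom C.hom) (u ≫ pullback.snd C.hom C.hom) v)
    (fun F _ u v v' hv hv' h h' => negSum_unique D hns o.left ho hpt _ _ _ v v' hv hv' h h')
    (fun t => by
      have hch : HasChord D (pullback.fst C.hom C.hom ≫ C.hom) (pullback.fst C.hom C.hom)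
          (pullback.snd C.hom C.hom) t := by
        by_cases ht : pullback.fst C.hom C.hom t = o.left (IsLocalRing.closedPoint K) ∧
            pullback.snd C.hom C.hom t = o.left (IsLocalRing.closedPoint K)
        · exact hasChord_VV D hD hns o.left ho hpt _ _ _ rfl pullback.condition.symm
            (fun F _ u hu => generic_pair D F u hu) t ht.1 ht.2
        · exact hasChord_of_ne D hD hns _ _ _ rfl pullback.condition.symm t ht
      obtain ⟨N, j, hj, hr, m, hm, hs⟩ := hch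
      refine ⟨N, j, hj, hr, m, hm, fun F _ u => ?_⟩
      have := hs F u
      simpa only [Category.assoc] using this)
  exact grpObj_of_negSum C o D hns m hm hs

end Groth.Agent.VarietyA.Ell
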