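import Mathlib.RingTheory.Length
import Mathlib.RingTheory.OrderOfVanishing.Basic
import Mathlib.RingTheory.Valuation.LocalSubring

/-!
# Algebra for ample modules on one-dimensional schemes (Stacks 09NZ)

A Krull-Akizuki type length bound and its consequences for "poles".
-/

set_option autoImplicit false

universe u v w t

namespace Groth.Agent.VarietyA.Dim1Alg

section RelLength

variable {R : Type u} [CommRing R] {W : Type v} [AddCommGroup W] [Module R W]

/-- Length of `P / Q` for `Q ≤ P` submodules of a module. -/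
noncomputable def rl (P Q : Submodule R W) : ℕ∞ :=
  Module.length R (P ⧸ Q.comap P.subtype)

theorem rl_add {P Q T : Submodule R W} (hQP : Q ≤ P) (hTQ : T ≤ Q) :
    rl P T = rl Q T + rl P Q := by
  unfold rl
  have hle : T.comap P.subtype ≤ Q.comap P.subtype := Submodule.comap_mono hTQ
  have hle2 : T.comap Q.subtype ≤ (T.comap P.subtype).comap (Submodule.inclusion hQP) := by
    intro x hx
    simpa using hx
  refine Module.length_eq_add_of_exact
    (Submodule.mapQ _ _ (Submodule.inclusion hQP) hle2) (Submodule.factor hle) ?_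
    (Submodule.factor_surjective hle) ?_
  · rw [← LinearMap.ker_eq_bot, LinearMap.ker_eq_bot']
    intro m hm
    obtain ⟨m, rfl⟩ := Submodule.Quotient.mk_surjective _ m
    rw [Submodule.mapQ_apply, Submodule.Quotient.mk_eq_zero] at hm
    rw [Submodule.Quotient.mk_eq_zero]
    simpa using hm
  · intro y
    obtain ⟨y, rfl⟩ := Submodule.mkQ_surjective _ y
    constructor
    · intro hy
      rw [Submodule.factor_mk, Submodule.mkQ_apply, Submodule.Quotient.mk_eq_zero] at hy
      have hy' : y.1 ∈ Q := by simpa using hy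
      exact ⟨Submodule.Quotient.mk ⟨y.1, hy'⟩, rfl⟩
    · rintro ⟨x, hx⟩
      obtain ⟨x, rfl⟩ := Submodule.Quotient.mk_surjective _ x
      rw [← hx, Submodule.mapQ_apply]
      change (Submodule.factor hle) (Submodule.mkQ _ _) = 0
      rw [Submodule.factor_mk, Submodule.mkQ_apply, Submodule.Quotient.mk_eq_zero]
      simp

theorem rl_smul {P Q : Submodule R W} (e : W →ₗ[R] W) (he : Function.Injective e) :
    rl (P.map e) (Q.map e) = rl P Q := by
  unfold rl
  refine (LinearEquiv.length_eq (Submodule.Quotient.equiv _ _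
    (Submodule.equivMapOfInjective e he P) ?_)).symm
  ext x
  simp only [Submodule.mem_map, Submodule.mem_comap, Submodule.subtype_apply]
  constructor
  · rintro ⟨y, hy, rfl⟩
    exact ⟨y.1, hy, rfl⟩
  · rintro ⟨y, hy, hxy⟩
    obtain ⟨z, hz, hzx⟩ := x.2
    have : y = z := he (hxy.trans hzx.symm)
    subst this
    exact ⟨⟨y, hz⟩, hy, Subtype.ext hzx⟩

theorem rl_eq_of_le {P Q : Submodule R W} (e : W →ₗ[R] W) (he : Function.Injective e)
    (hQP : Q ≤ P) (h : P.map e ≤ Q) : rl P (P.map e) = rl Q (Q.map e) := by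
  have h1 := rl_add hQP h
  have h2 := rl_add h (Submodule.map_mono (f := e) hQP)
  rw [rl_smul e he] at h2
  rw [h1, h2, add_comm]

theorem rl_eq_of_pow_le {P Q : Submodule R W} (e : W →ₗ[R] W) (he : Function.Injective e)
    (hQe : Q.map e ≤ Q) (hPe : P.map e ≤ P) (hQP : Q ≤ P) (n : ℕ) (h : P.map (e ^ n) ≤ Q) :
    rl P (P.map e) = rl Q (Q.map e) := by
  have hstep : ∀ i, (P.map (e ^ i)).map e = P.map (e ^ (i + 1)) := by
    intro i
    rw [← Submodule.map_comp, ← Module.End.mul_eq_comp, ← pow_succ']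
  have hanti : ∀ i, P.map (e ^ (i + 1)) ≤ P.map (e ^ i) := by
    intro i
    induction i with
    | zero => simpa [Module.End.one_eq_id] using hPe
    | succ i ih =>
      have := Submodule.map_mono (f := e) ih
      rwa [hstep, hstep] at this
  have key : ∀ i, rl P (P.map e) = rl (Q ⊔ P.map (e ^ i)) ((Q ⊔ P.map (e ^ i)).map e) := by
    intro i
    induction i with
    | zero =>
      have : Q ⊔ P.map (e ^ 0) = P := by
        rw [pow_zero, Module.End.one_eq_id, Submodule.map_id]
        exact sup_eq_right.mpr hQP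
      rw [this]
    | succ i ih =>
      rw [ih]
      refine rl_eq_of_le e he (sup_le_sup_left (hanti i) Q) ?_
      rw [Submodule.map_sup, hstep]
      exact sup_le_sup_right hQe _
  rw [key n, sup_eq_left.mpr h]

/-- A chain of length `n` between `Q` and `P` bounds `rl P Q` below. -/
theorem le_rl_of_chain {P Q : Submodule R W} (F : ℕ → Submodule R W) (n : ℕ)
    (h0 : F 0 ≤ P) (hn : Q ≤ F n) (hlt : ∀ i < n, F (i + 1) < F i) :
    (n : ℕ∞) ≤ rl P Q := by
  have hmono : ∀ i ≤ n, F i ≤ P := by
    intro i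
    induction i with
    | zero => intro _; exact h0
    | succ i ih => intro hi; exact (hlt i hi).le.trans (ih (by omega))
  have key : ∀ i ≤ n, (i : ℕ∞) ≤ rl P (F i) := by
    intro i
    induction i with
    | zero => intro _; simp
    | succ i ih =>
      intro hi
      rw [rl_add (hmono i (by omega)) (hlt i (by omega)).le, add_comm (rl _ _) (rl _ _)]
      push_cast
      refine add_le_add (ih (by omega)) ?_
      rw [Order.one_le_iff_pos]
      unfold rl
      rw [Module.length_pos_iff]
      have := hlt i (by omega)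
      obtain ⟨x, hx, hx'⟩ := SetLike.exists_of_lt this
      refine ⟨Submodule.Quotient.mk ⟨x, hx⟩, 0, ?_⟩
      rw [Ne, Submodule.Quotient.mk_eq_zero]
      simpa using hx'
  have h1 := rl_add (hmono n le_rfl) hn
  rw [h1]
  exact (key n le_rfl).trans le_add_self

end RelLength

section Val

variable {C : Type u} [CommRing C] {K : Type v} [Field K] [Algebra C K] (g : C)

/-- The valuation subrings of `K` that contain the image of `C` and in which `g` is not a unit. -/
def Dom (O : ValuationSubring K) : Prop :=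
  (∀ c : C, algebraMap C K c ∈ O) ∧ algebraMap C K g ∈ O.nonunits

variable (K) in
/-- The image of `C` in `K`. -/
abbrev im (C : Type u) [CommRing C] [Algebra C K] : Submodule C K :=
  LinearMap.range (Algebra.linearMap C K)

variable (K) in
/-- Multiplication by `g`. -/
abbrev mulg : K →ₗ[C] K := LinearMap.lsmul C K g

theorem mulg_injective (hg0 : algebraMap C K g ≠ 0) : Function.Injective (mulg K g) := by
  intro x y hxy
  simp only [LinearMap.lsmul_apply, Algebra.smul_def] at hxy
  exact mul_left_cancel₀ hg0 hxy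

theorem mulg_pow (n : ℕ) (x : K) : (mulg K g ^ n) x = algebraMap C K g ^ n * x := by
  induction n generalizing x with
  | zero => simp
  | succ n ih =>
    rw [pow_succ, Module.End.mul_apply, ih, LinearMap.lsmul_apply, Algebra.smul_def, pow_succ,
      mul_assoc]

theorem ord_bound (hg0 : algebraMap C K g ≠ 0)
    (hgen : ∀ x : K, ∃ n : ℕ, ∃ c : C, algebraMap C K g ^ n * x = algebraMap C K c)
    (O : ValuationSubring K) (hO : Dom g O) (y : K) (hy0 : y ≠ 0) (hy : y ∈ O.nonunits) (N : ℕ)
    (w : K) (hw : w ∈ O) (h : algebraMap C K g = y ^ N * w) :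
    (N : ℕ∞) ≤ rl (im K C) ((im K C).map (mulg K g)) := by
  have hyO : y ∈ O := ValuationSubring.nonunits_subset hy
  have hyinv : y⁻¹ ∉ O := by
    intro hc
    rw [ValuationSubring.mem_nonunits_iff_exists_mem_maximalIdeal] at hy
    obtain ⟨hy1, hy2⟩ := hy
    rw [IsLocalRing.mem_maximalIdeal, mem_nonunits_iff] at hy2
    apply hy2
    refine IsUnit.of_mul_eq_one ⟨y⁻¹, hc⟩ ?_
    ext
    simp [hy0]
  set P : Submodule C K := Submodule.span C (Set.range fun i : Fin (N + 1) => y ^ (i : ℕ)) with hP
  have hPO : ∀ x ∈ P, x ∈ O := by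
    intro x hx
    induction hx using Submodule.span_induction with
    | mem x hx =>
      obtain ⟨i, rfl⟩ := hx
      exact pow_mem hyO _
    | zero => exact zero_mem _
    | add x y _ _ hx hy => exact add_mem hx hy
    | smul a x _ hx =>
      rw [Algebra.smul_def]
      exact mul_mem (hO.1 a) hx
  -- the chain
  let F : ℕ → Submodule C K := fun i =>
    { carrier := {x | x ∈ P ∧ x * (y ^ i)⁻¹ ∈ O}
      add_mem' := by
        rintro a b ⟨ha, ha'⟩ ⟨hb, hb'⟩
        exact ⟨add_mem ha hb, by rw [add_mul]; exact add_mem ha' hb'⟩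
      zero_mem' := ⟨zero_mem _, by rw [zero_mul]; exact zero_mem _⟩
      smul_mem' := by
        rintro c x ⟨hx, hx'⟩
        refine ⟨P.smul_mem c hx, ?_⟩
        rw [Algebra.smul_def, mul_assoc]
        exact mul_mem (hO.1 c) hx' }
  have hF : ∀ i x, x ∈ F i ↔ x ∈ P ∧ x * (y ^ i)⁻¹ ∈ O := fun i x => Iff.rfl
  have hchain : (N : ℕ∞) ≤ rl P (P.map (mulg K g)) := by
    refine le_rl_of_chain F N ?_ ?_ ?_
    · intro x hx
      exact hx.1
    · rintro _ ⟨x, hx, rfl⟩
      rw [hF]
      refine ⟨P.smul_mem g hx, ?_⟩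
      rw [LinearMap.lsmul_apply, Algebra.smul_def, h]
      have : y ^ N * w * x * (y ^ N)⁻¹ = w * x := by
        field_simp
      rw [this]
      exact mul_mem hw (hPO x hx)
    · intro i hi
      refine lt_of_le_of_ne ?_ ?_
      · rintro x ⟨hx, hx'⟩
        refine ⟨hx, ?_⟩
        have : x * (y ^ i)⁻¹ = (x * (y ^ (i + 1))⁻¹) * y := by
          rw [pow_succ]
          field_simp
        rw [this]
        exact mul_mem hx' hyO
      · intro heq
        have h1 : y ^ i ∈ F i := by
          rw [hF]
          refine ⟨Submodule.subset_span ⟨⟨i, by omega⟩, rfl⟩, ?_⟩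
          rw [mul_inv_cancel₀ (pow_ne_zero _ hy0)]
          exact one_mem _
        rw [← heq, hF] at h1
        apply hyinv
        convert h1.2 using 1
        rw [pow_succ]
        field_simp
  refine hchain.trans (le_of_eq ?_)
  -- find a power of g killing P / im
  have hfg : ∃ n : ℕ, P.map (mulg K g ^ n) ≤ im K C := by
    choose n c hnc using hgen
    refine ⟨∑ i : Fin (N + 1), n (y ^ (i : ℕ)), ?_⟩
    rw [hP, Submodule.map_span_le]
    rintro _ ⟨i, rfl⟩
    rw [mulg_pow]
    have : ∑ i : Fin (N + 1), n (y ^ (i : ℕ)) =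
        (∑ j ∈ Finset.univ.erase i, n (y ^ (j : ℕ))) + n (y ^ (i : ℕ)) :=
      (Finset.sum_erase_add _ _ (Finset.mem_univ i)).symm
    rw [this, pow_add, mul_assoc, hnc, ← map_pow, ← map_mul]
    exact ⟨_, rfl⟩
  obtain ⟨n, hn⟩ := hfg
  refine rl_eq_of_pow_le (mulg K g) (mulg_injective g hg0) ?_ ?_ ?_ n hn
  · rintro _ ⟨x, hx, rfl⟩
    exact (im K C).smul_mem g hx
  · rintro _ ⟨x, hx, rfl⟩
    exact P.smul_mem g hx
  · rintro _ ⟨c, rfl⟩
    rw [Algebra.linearMap_apply, Algebra.algebraMap_eq_smul_one]
    refine P.smul_mem c (Submodule.subset_span ⟨0, ?_⟩)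
    simp

/-- Uniform pole combination. -/
theorem exists_pow_add (hg0 : algebraMap C K g ≠ 0)
    (hgen : ∀ x : K, ∃ n : ℕ, ∃ c : C, algebraMap C K g ^ n * x = algebraMap C K c)
    (hfin : rl (im K C) ((im K C).map (mulg K g)) ≠ ⊤) (a c : K) :
    ∃ N₀ : ℕ, ∀ N, N₀ ≤ N → ∀ O : ValuationSubring K, Dom g O → (c ∉ O ∨ a ∉ O) →
      c ^ N + a ∉ O := by
  obtain ⟨l, hl⟩ := ENat.ne_top_iff_exists.mp hfin
  obtain ⟨M, r, hr⟩ := hgen a
  refine ⟨(l + 1) * M + 1, fun N hN O hO hca => ?_⟩
  by_cases hc : c ∈ O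
  · have ha : a ∉ O := hca.resolve_left (fun h => h hc)
    intro hh
    apply ha
    have := sub_mem hh (pow_mem hc N)
    simpa using this
  · have hc0 : c ≠ 0 := by
      rintro rfl
      exact hc (zero_mem _)
    set y := c⁻¹ with hy
    have hy0 : y ≠ 0 := inv_ne_zero hc0
    have hyn : y ∈ O.nonunits := by
      rw [hy, ValuationSubring.inv_mem_nonunits_iff]
      exact Or.inr hc
    have hyO : y ∈ O := ValuationSubring.nonunits_subset hyn
    have h1 : y ^ (l + 1) * (algebraMap C K g)⁻¹ ∈ O := by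
      by_contra hcon
      have h2 := (O.mem_or_inv_mem (y ^ (l + 1) * (algebraMap C K g)⁻¹)).resolve_left hcon
      have h3 := ord_bound g hg0 hgen O hO y hy0 hyn (l + 1) _ h2 (by
        field_simp)
      rw [← hl] at h3
      norm_cast at h3
      omega
    have h4 : a * y ^ N ∈ O.nonunits := by
      have e1 : a * y ^ N = (algebraMap C K r * (y ^ (l + 1) * (algebraMap C K g)⁻¹) ^ M *
          y ^ (N - ((l + 1) * M + 1))) * y := by
        rw [← hr]
        have : y ^ N = (y ^ (l + 1)) ^ M * y ^ (N - ((l + 1) * M + 1)) * y := by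
          rw [← pow_mul, ← pow_add, ← pow_succ]
          congr 1
          omega
        have hh : algebraMap C K g ^ M * (algebraMap C K g)⁻¹ ^ M = 1 := by
          rw [← mul_pow, mul_inv_cancel₀ hg0, one_pow]
        rw [this, mul_pow]
        linear_combination (-(a * (y ^ (l + 1)) ^ M * y ^ (N - ((l + 1) * M + 1)) * y)) * hh
      rw [e1]
      rw [ValuationSubring.mem_nonunits_iff] at hyn ⊢
      rw [map_mul]
      have h5 : O.valuation (algebraMap C K r * (y ^ (l + 1) * (algebraMap C K g)⁻¹) ^ M *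
          y ^ (N - ((l + 1) * M + 1))) ≤ 1 := by
        rw [ValuationSubring.valuation_le_one_iff]
        exact mul_mem (mul_mem (hO.1 r) (pow_mem h1 _)) (pow_mem hyO _)
      exact mul_lt_one_of_nonneg_of_lt_one_right h5 zero_le hyn
    intro hh
    have h6 : c ^ N + a = c ^ N * (1 + a * y ^ N) := by
      rw [mul_add, mul_one, hy, inv_pow]
      field_simp
    have h7 : O.valuation (1 + a * y ^ N) = 1 := by
      rw [ValuationSubring.mem_nonunits_iff] at h4
      have := Valuation.map_add_eq_of_lt_left O.valuation (x := 1) (y := a * y ^ N) (by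
        rwa [map_one])
      rw [this, map_one]
    have h8 : 1 < O.valuation (c ^ N) := by
      rw [map_pow]
      have : 1 < O.valuation c := by
        rw [← not_le, ValuationSubring.valuation_le_one_iff]
        exact hc
      exact one_lt_pow₀ this (by omega)
    rw [← ValuationSubring.valuation_le_one_iff, h6, map_mul, h7, mul_one] at hh
    exact absurd hh (not_le.mpr h8)

/-- A subring containing the image of `C` and contained in no dominating valuation ring is
everything. -/
theorem subring_eq_top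
    (hgen : ∀ x : K, ∃ n : ℕ, ∃ c : C, algebraMap C K g ^ n * x = algebraMap C K c)
    (hg0 : algebraMap C K g ≠ 0)
    (T : Subring K) (hT : ∀ c : C, algebraMap C K c ∈ T)
    (h : ∀ O : ValuationSubring K, Dom g O → ¬ T ≤ O.toSubring) : T = ⊤ := by
  by_contra hne
  have hinv : (algebraMap C K g)⁻¹ ∉ T := by
    intro hc
    apply hne
    rw [eq_top_iff]
    intro x _
    obtain ⟨n, c, hnc⟩ := hgen x
    have : x = algebraMap C K c * (algebraMap C K g)⁻¹ ^ n := by
      rw [← hnc, inv_pow]
      field_simp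
    rw [this]
    exact mul_mem (hT c) (pow_mem hc n)
  have hI : Ideal.span {(⟨algebraMap C K g, hT g⟩ : T)} ≠ ⊤ := by
    rw [Ne, Ideal.span_singleton_eq_top]
    intro hu
    obtain ⟨v, hv⟩ := hu.exists_right_inv
    apply hinv
    have : (algebraMap C K g)⁻¹ = v.1 := by
      have := congrArg Subtype.val hv
      simp only [Subring.coe_mul, Subring.coe_one] at this
      exact inv_eq_of_mul_eq_one_right this
    rw [this]
    exact v.2
  obtain ⟨O, hO1, hO2⟩ := Ideal.image_subset_nonunits_valuationSubring _ hI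
  refine h O ⟨fun c => hO1 (hT c), hO2 ⟨_, Ideal.subset_span rfl, rfl⟩⟩ hO1

end Val

section Combine

variable {A : Type w} [CommRing A] {J : Type t} [Finite J] {C : J → Type u} [∀ j, CommRing (C j)]
  {K : J → Type v} [∀ j, Field (K j)] [∀ j, Algebra (C j) (K j)] (g : ∀ j, C j)
  (φ : ∀ j, A →+* K j)

include φ in
theorem exists_pole (hg0 : ∀ j, algebraMap (C j) (K j) (g j) ≠ 0)
    (hgen : ∀ j, ∀ x : K j, ∃ n : ℕ, ∃ c : C j,
      algebraMap (C j) (K j) (g j) ^ n * x = algebraMap (C j) (K j) c)
    (hfin : ∀ j, rl (im (K j) (C j)) ((im (K j) (C j)).map (mulg (K j) (g j))) ≠ ⊤)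
    (S : Finset A) :
    ∃ a : A, ∀ j, ∀ O : ValuationSubring (K j), Dom (g j) O → (∃ s ∈ S, φ j s ∉ O) →
      φ j a ∉ O := by
  classical
  have := Fintype.ofFinite J
  induction S using Finset.induction_on with
  | empty => exact ⟨0, fun j O _ h => by simp at h⟩
  | insert s S hs ih =>
    obtain ⟨a', ha'⟩ := ih
    choose N₀ hN₀ using fun j => exists_pow_add (g j) (hg0 j) (hgen j) (hfin j) (φ j s) (φ j a')
    refine ⟨a' ^ (∑ j, N₀ j) + s, fun j O hO h => ?_⟩
    rw [map_add, map_pow]
    refine hN₀ j _ (Finset.single_le_sum (fun _ _ => Nat.zero_le _) (Finset.mem_univ j)) O hO ?_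
    obtain ⟨t, ht, ht'⟩ := h
    rw [Finset.mem_insert] at ht
    rcases ht with rfl | ht
    · exact Or.inr ht'
    · exact Or.inl (ha' j O hO ⟨t, ht, ht'⟩)

include φ in
/-- **Main algebraic lemma.**  Finitely many fields `K j`, each generated by `C j` and `A`;
then there is one element `a : A` such that `K j = C j [a]` for all `j`. -/
theorem exists_adjoin_eq_top (hg0 : ∀ j, algebraMap (C j) (K j) (g j) ≠ 0)
    (hgen : ∀ j, ∀ x : K j, ∃ n : ℕ, ∃ c : C j,
      algebraMap (C j) (K j) (g j) ^ n * x = algebraMap (C j) (K j) c)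
    (hfin : ∀ j, rl (im (K j) (C j)) ((im (K j) (C j)).map (mulg (K j) (g j))) ≠ ⊤)
    (hAC : ∀ j, ∃ (s : Finset A) (b : A → C j),
      (∑ x ∈ s, φ j x * algebraMap (C j) (K j) (b x)) * algebraMap (C j) (K j) (g j) = 1) :
    ∃ a : A, ∀ j, Algebra.adjoin (C j) {φ j a} = ⊤ := by
  classical
  have := Fintype.ofFinite J
  choose s b hsb using hAC
  obtain ⟨a, ha⟩ := exists_pole g φ hg0 hgen hfin (Finset.univ.biUnion s)
  refine ⟨a, fun j => ?_⟩
  have key := subring_eq_top (g j) (hgen j) (hg0 j) (Algebra.adjoin (C j) {φ j a}).toSubring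
    (fun c => (Algebra.adjoin (C j) {φ j a}).algebraMap_mem c) ?_
  · rw [eq_top_iff]
    intro x _
    have : x ∈ (⊤ : Subring (K j)) := trivial
    rw [← key] at this
    exact this
  · intro O hO hle
    refine ha j O hO ?_ (hle (Algebra.subset_adjoin rfl))
    by_contra hcon
    push Not at hcon
    have h1 : (∑ x ∈ s j, φ j x * algebraMap (C j) (K j) (b j x)) ∈ O := by
      refine sum_mem fun x hx => mul_mem ?_ (hO.1 _)
      exact hcon x (Finset.mem_biUnion.mpr ⟨j, Finset.mem_univ j, hx⟩)
    have h2 := hO.2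
    rw [ValuationSubring.mem_nonunits_iff] at h2
    have h3 : O.valuation (∑ x ∈ s j, φ j x * algebraMap (C j) (K j) (b j x)) ≤ 1 :=
      (ValuationSubring.valuation_le_one_iff _ _).mpr h1
    have h4 := congrArg O.valuation (hsb j)
    rw [map_mul, map_one] at h4
    have h5 := mul_lt_one_of_nonneg_of_lt_one_right h3 zero_le h2
    rw [h4] at h5
    exact lt_irrefl _ h5

end Combine

end Groth.Agent.VarietyA.Dim1Alg
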