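import Mathlib.AlgebraicGeometry.EllipticCurve.Projective.Point

/-!
# Local formulas for the addition on a Weierstrass curve

Over a ring `B` with a Weierstrass curve `W` and two projective points given by triples `P, Q`, we give triples `R`
representing `P + Q` at every field-valued point in a neighbourhood of a given prime.
-/

set_option autoImplicit false
universe u v
open WeierstrassCurve
open scoped WeierstrassCurve.Projective

namespace Groth.Agent.VarietyA.EllAlg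

variable {B : Type u} [CommRing B] {F : Type v} [Field F] [DecidableEq F]

/-- `R` represents the sum of `P` and `Q` at the field-valued point `φ`. -/
def IsSum (W : WeierstrassCurve B) (P Q R : Fin 3 → B) (φ : B →+* F) : Prop :=
  (W.map φ).toProjective.Nonsingular (φ ∘ R) ∧
    Projective.Point.toAffine (W.map φ).toProjective (φ ∘ R) =
      Projective.Point.toAffine (W.map φ).toProjective (φ ∘ P) +
        Projective.Point.toAffine (W.map φ).toProjective (φ ∘ Q)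

omit [DecidableEq F] in
theorem not_equiv_of_minor {P Q : Fin 3 → F} {i j : Fin 3} (h : P i * Q j - P j * Q i ≠ 0) : ¬ P ≈ Q := by
  rintro ⟨u, rfl⟩
  apply h
  simp only [Pi.smul_apply, Units.smul_def, smul_eq_mul]
  ring

theorem isSum_addXYZ (W : WeierstrassCurve B) (P Q : Fin 3 → B) (φ : B →+* F)
    (hP : (W.map φ).toProjective.Nonsingular (φ ∘ P)) (hQ : (W.map φ).toProjective.Nonsingular (φ ∘ Q))
    (i j : Fin 3) (hij : φ (P i * Q j - P j * Q i) ≠ 0) :
    IsSum W P Q (W.toProjective.addXYZ P Q) φ := by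
  have hne : ¬ (φ ∘ P) ≈ (φ ∘ Q) := not_equiv_of_minor (i := i) (j := j) (by simpa using hij)
  have h1 : φ ∘ (W.toProjective.addXYZ P Q) = (W.map φ).toProjective.add (φ ∘ P) (φ ∘ Q) := by
    rw [Projective.add_of_not_equiv hne, Projective.map_addXYZ]
  refine ⟨?_, ?_⟩
  · rw [h1]
    exact Projective.nonsingular_add hP hQ
  · rw [h1]
    exact Projective.Point.toAffine_add hP hQ

section Affine

variable (W : WeierstrassCurve B) (x₁ y₁ x₂ y₂ : B)

/-- the denominator of the slope -/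
def H : B := y₁ + y₂ + W.a₁ * x₂ + W.a₃

/-- the numerator of the slope -/
def G : B := x₁ ^ 2 + x₁ * x₂ + x₂ ^ 2 + W.a₂ * (x₁ + x₂) + W.a₄ - W.a₁ * y₁

theorem H_mul (h₁ : W.toAffine.Equation x₁ y₁) (h₂ : W.toAffine.Equation x₂ y₂) :
    (y₁ - y₂) * H W y₁ x₂ y₂ = (x₁ - x₂) * G W x₁ y₁ x₂ := by
  rw [Affine.equation_iff'] at h₁ h₂
  simp only [H, G]
  linear_combination h₁ - h₂

/-- `H ^ 2` times the `x`-coordinate of the sum -/
def NX : B := G W x₁ y₁ x₂ ^ 2 + W.a₁ * G W x₁ y₁ x₂ * H W y₁ x₂ y₂ -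
  (W.a₂ + x₁ + x₂) * H W y₁ x₂ y₂ ^ 2

/-- the triple of the sum of two affine points -/
def affTriple : Fin 3 → B :=
  ![H W y₁ x₂ y₂ * NX W x₁ y₁ x₂ y₂,
    -(G W x₁ y₁ x₂ * (NX W x₁ y₁ x₂ y₂ - x₁ * H W y₁ x₂ y₂ ^ 2) + y₁ * H W y₁ x₂ y₂ ^ 3) -
      W.a₁ * (H W y₁ x₂ y₂ * NX W x₁ y₁ x₂ y₂) - W.a₃ * H W y₁ x₂ y₂ ^ 3,
    H W y₁ x₂ y₂ ^ 3]

omit [DecidableEq F] in
theorem map_H (φ : B →+* F) : φ (H W y₁ x₂ y₂) = H (W.map φ) (φ y₁) (φ x₂) (φ y₂) := by
  simp [H]

omit [DecidableEq F] in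
theorem map_G (φ : B →+* F) : φ (G W x₁ y₁ x₂) = G (W.map φ) (φ x₁) (φ y₁) (φ x₂) := by
  simp [G]

omit [DecidableEq F] in
theorem map_affTriple (φ : B →+* F) :
    φ ∘ affTriple W x₁ y₁ x₂ y₂ = affTriple (W.map φ) (φ x₁) (φ y₁) (φ x₂) (φ y₂) := by
  funext i
  fin_cases i <;> simp [affTriple, NX, map_H, map_G]

end Affine

theorem slope_eq (W : WeierstrassCurve F) {x₁ y₁ x₂ y₂ : F} (h₁ : W.toAffine.Equation x₁ y₁)
    (h₂ : W.toAffine.Equation x₂ y₂) (hH : H W y₁ x₂ y₂ ≠ 0) :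
    W.toAffine.slope x₁ x₂ y₁ y₂ = G W x₁ y₁ x₂ / H W y₁ x₂ y₂ := by
  have key := H_mul W x₁ y₁ x₂ y₂ h₁ h₂
  by_cases hx : x₁ = x₂
  · have hy : y₁ ≠ W.toAffine.negY x₂ y₂ := by
      intro h
      apply hH
      rw [H, h, Affine.negY]
      ring
    have hy' : y₁ = y₂ := Affine.Y_eq_of_Y_ne h₁ h₂ hx hy
    subst hx
    subst hy'
    rw [Affine.slope_of_Y_ne rfl hy]
    congr 1
    · simp only [G]
      ring
    · simp only [H, Affine.negY]
      ring
  · rw [Affine.slope_of_X_ne hx, div_eq_div_iff (sub_ne_zero.2 hx) hH, key]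
    ring

theorem isSum_affTriple (W : WeierstrassCurve B) (x₁ y₁ x₂ y₂ : B) (φ : B →+* F)
    (hP : (W.map φ).toAffine.Nonsingular (φ x₁) (φ y₁)) (hQ : (W.map φ).toAffine.Nonsingular (φ x₂) (φ y₂))
    (hHG : φ (H W y₁ x₂ y₂) ≠ 0 ∨ φ (G W x₁ y₁ x₂) ≠ 0) :
    IsSum W ![x₁, y₁, 1] ![x₂, y₂, 1] (affTriple W x₁ y₁ x₂ y₂) φ := by
  have e1 : φ ∘ ![x₁, y₁, 1] = ![φ x₁, φ y₁, 1] := by
    funext i; fin_cases i <;> simp
  have e2 : φ ∘ ![x₂, y₂, 1] = ![φ x₂, φ y₂, 1] := by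
    funext i; fin_cases i <;> simp
  have n1 : (W.map φ).toProjective.Nonsingular ![φ x₁, φ y₁, 1] := (Projective.nonsingular_some ..).2 hP
  have n2 : (W.map φ).toProjective.Nonsingular ![φ x₂, φ y₂, 1] := (Projective.nonsingular_some ..).2 hQ
  rw [IsSum, e1, e2, map_affTriple, Projective.Point.toAffine_some n1, Projective.Point.toAffine_some n2]
  rw [map_H] at hHG
  rw [map_G] at hHG
  set W' := W.map φ
  set a₁ := φ x₁
  set b₁ := φ y₁
  set a₂ := φ x₂
  set b₂ := φ y₂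
  have key := H_mul W' a₁ b₁ a₂ b₂ hP.1 hQ.1
  by_cases hH : H W' b₁ a₂ b₂ = 0
  · have hG := hHG.resolve_left (not_not.2 hH)
    rw [hH, mul_zero] at key
    have hx : a₁ = a₂ := by
      rcases mul_eq_zero.1 key.symm with h | h
      · exact sub_eq_zero.1 h
      · exact absurd h hG
    have hy : b₁ = W'.toAffine.negY a₂ b₂ := by
      simp only [H] at hH
      simp only [Affine.negY]
      linear_combination hH
    rw [Affine.Point.add_of_Y_eq hx hy]
    have e : affTriple W' a₁ b₁ a₂ b₂ = (-(G W' a₁ b₁ a₂ ^ 3)) • ![0, 1, 0] := by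
      funext i; fin_cases i <;> simp [affTriple, NX, hH]
      ring
    have hu : IsUnit (-(G W' a₁ b₁ a₂ ^ 3)) := (neg_ne_zero.2 (pow_ne_zero 3 hG)).isUnit
    rw [e, Projective.nonsingular_smul _ hu, Projective.Point.toAffine_smul _ hu]
    exact ⟨Projective.nonsingular_zero, Projective.Point.toAffine_zero⟩
  · have hxy : ¬ (a₁ = a₂ ∧ b₁ = W'.toAffine.negY a₂ b₂) := by
      rintro ⟨-, h⟩
      apply hH
      rw [H, h, Affine.negY]
      ring
    have hs := slope_eq W' hP.1 hQ.1 hH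
    have hn := Affine.nonsingular_add hP hQ hxy
    have e : affTriple W' a₁ b₁ a₂ b₂ = (H W' b₁ a₂ b₂ ^ 3) •
        ![W'.toAffine.addX a₁ a₂ (W'.toAffine.slope a₁ a₂ b₁ b₂),
          W'.toAffine.addY a₁ a₂ b₁ (W'.toAffine.slope a₁ a₂ b₁ b₂), 1] := by
      rw [hs]
      funext i; fin_cases i
      · simp [affTriple, NX, Affine.addX]
        field_simp
        ring
      · simp [affTriple, NX, Affine.addX, Affine.addY, Affine.negY, Affine.negAddY]
        field_simp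
        ring
      · simp [affTriple]
    have hu : IsUnit (H W' b₁ a₂ b₂ ^ 3) := (pow_ne_zero 3 hH).isUnit
    have hn' : W'.toProjective.Nonsingular ![W'.toAffine.addX a₁ a₂ (W'.toAffine.slope a₁ a₂ b₁ b₂),
          W'.toAffine.addY a₁ a₂ b₁ (W'.toAffine.slope a₁ a₂ b₁ b₂), 1] :=
      (Projective.nonsingular_some ..).2 hn
    rw [e, Projective.nonsingular_smul _ hu, Projective.Point.toAffine_smul _ hu,
      Projective.Point.toAffine_some hn', Affine.Point.add_some hxy]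
    exact ⟨hn', rfl⟩

end Groth.Agent.VarietyA.EllAlg
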