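import Groth.Agent.VarietyA.EllAlg

/-!
# The addition formula near the origin of a Weierstrass curve
-/

set_option autoImplicit false
universe u v
open WeierstrassCurve
open scoped WeierstrassCurve.Projective

namespace Groth.Agent.VarietyA.EllAlg

variable {B : Type u} [CommRing B] {F : Type v} [Field F]

/-- Vieta's formulas in the coordinate `z = x / y`. -/
theorem vieta_inf (a₁ a₂ a₃ a₄ a₆ ℓ c x₁ x₂ x₃ : F) (hc : c ≠ 0) (h₁ : ℓ * x₁ + c ≠ 0)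
    (h₂ : ℓ * x₂ + c ≠ 0) 
    (e₂ : a₂ = ℓ ^ 2 + a₁ * ℓ - x₁ - x₂ - x₃)
    (e₄ : a₄ = x₁ * x₂ + x₁ * x₃ + x₂ * x₃ + 2 * ℓ * c + a₁ * c + a₃ * ℓ)
    (e₆ : a₆ = - (x₁ * x₂ * x₃) + c ^ 2 + a₃ * c)
    (hk1 : 1 + a₂ * (-ℓ / c) + a₄ * (-ℓ / c) ^ 2 + a₆ * (-ℓ / c) ^ 3 ≠ 0) :
    ℓ * x₃ + c ≠ 0 ∧
    (a₁ * (-ℓ / c) + a₃ * (-ℓ / c) ^ 2 - a₂ * (1 / c) - 2 * a₄ * (-ℓ / c) * (1 / c) -
      3 * a₆ * (-ℓ / c) ^ 2 * (1 / c)) /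
      (1 + a₂ * (-ℓ / c) + a₄ * (-ℓ / c) ^ 2 + a₆ * (-ℓ / c) ^ 3) -
      x₁ / (ℓ * x₁ + c) - x₂ / (ℓ * x₂ + c) = x₃ / (ℓ * x₃ + c) := by
  have hk : 1 + a₂ * (-ℓ / c) + a₄ * (-ℓ / c) ^ 2 + a₆ * (-ℓ / c) ^ 3 =
      (ℓ * x₁ + c) * (ℓ * x₂ + c) * (ℓ * x₃ + c) / c ^ 3 := by
    rw [e₂, e₄, e₆]
    field_simp
    ring
  rw [hk] at hk1 ⊢
  have h₃ : ℓ * x₃ + c ≠ 0 := by
    intro h
    apply hk1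
    rw [h, mul_zero, zero_div]
  refine ⟨h₃, ?_⟩
  rw [e₂, e₄, e₆]
  field_simp
  ring

section
variable (W : WeierstrassCurve B) (z₁ w₁ z₂ w₂ : B)

/-- the denominator of the slope in the chart at infinity -/
def Hi : B := 1 + W.a₁ * z₁ + W.a₃ * (w₁ + w₂) - W.a₂ * z₁ ^ 2 - W.a₄ * z₁ * (w₁ + w₂) -
  W.a₆ * (w₁ ^ 2 + w₁ * w₂ + w₂ ^ 2)

/-- the numerator of the slope in the chart at infinity -/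
def Gi : B := - (W.a₁ * w₂) + (z₁ ^ 2 + z₁ * z₂ + z₂ ^ 2) + W.a₂ * w₂ * (z₁ + z₂) + W.a₄ * w₂ ^ 2

/-- the affine Weierstrass equation in the chart at infinity -/
def EqInf (z w : B) : Prop :=
  w + W.a₁ * z * w + W.a₃ * w ^ 2 = z ^ 3 + W.a₂ * z ^ 2 * w + W.a₄ * z * w ^ 2 + W.a₆ * w ^ 3

theorem Hi_mul (h₁ : EqInf W z₁ w₁) (h₂ : EqInf W z₂ w₂) :
    (w₁ - w₂) * Hi W z₁ w₁ w₂ = (z₁ - z₂) * Gi W z₁ z₂ w₂ := by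
  simp only [EqInf] at h₁ h₂
  simp only [Hi, Gi]
  linear_combination h₁ - h₂

/-- `ν` -/
def Ni : B := w₁ * Hi W z₁ w₁ w₂ - Gi W z₁ z₂ w₂ * z₁

/-- `κ` -/
def Ki : B := Hi W z₁ w₁ w₂ ^ 3 + W.a₂ * Gi W z₁ z₂ w₂ * Hi W z₁ w₁ w₂ ^ 2 +
  W.a₄ * Gi W z₁ z₂ w₂ ^ 2 * Hi W z₁ w₁ w₂ + W.a₆ * Gi W z₁ z₂ w₂ ^ 3

/-- `κ z₃` -/
def Mi : B := W.a₁ * Gi W z₁ z₂ w₂ * Hi W z₁ w₁ w₂ ^ 2 + W.a₃ * Gi W z₁ z₂ w₂ ^ 2 * Hi W z₁ w₁ w₂ -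
  W.a₂ * Ni W z₁ w₁ z₂ w₂ * Hi W z₁ w₁ w₂ ^ 2 -
  2 * W.a₄ * Gi W z₁ z₂ w₂ * Ni W z₁ w₁ z₂ w₂ * Hi W z₁ w₁ w₂ -
  3 * W.a₆ * Gi W z₁ z₂ w₂ ^ 2 * Ni W z₁ w₁ z₂ w₂ - (z₁ + z₂) * Ki W z₁ w₁ z₂ w₂

/-- the third coordinate of the sum -/
def Zi : B := Gi W z₁ z₂ w₂ * Mi W z₁ w₁ z₂ w₂ + Ni W z₁ w₁ z₂ w₂ * Ki W z₁ w₁ z₂ w₂

/-- the triple of the sum of two points near the origin -/
def infTriple : Fin 3 → B :=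
  ![Hi W z₁ w₁ w₂ * Mi W z₁ w₁ z₂ w₂,
    - (Ki W z₁ w₁ z₂ w₂ * Hi W z₁ w₁ w₂) - W.a₁ * (Hi W z₁ w₁ w₂ * Mi W z₁ w₁ z₂ w₂) -
      W.a₃ * Zi W z₁ w₁ z₂ w₂,
    Zi W z₁ w₁ z₂ w₂]

theorem map_Hi (φ : B →+* F) : φ (Hi W z₁ w₁ w₂) = Hi (W.map φ) (φ z₁) (φ w₁) (φ w₂) := by
  simp [Hi]

theorem map_Gi (φ : B →+* F) : φ (Gi W z₁ z₂ w₂) = Gi (W.map φ) (φ z₁) (φ z₂) (φ w₂) := by
  simp [Gi]

theorem map_Ni (φ : B →+* F) : φ (Ni W z₁ w₁ z₂ w₂) = Ni (W.map φ) (φ z₁) (φ w₁) (φ z₂) (φ w₂) := by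
  simp [Ni, map_Hi, map_Gi]

theorem map_Ki (φ : B →+* F) : φ (Ki W z₁ w₁ z₂ w₂) = Ki (W.map φ) (φ z₁) (φ w₁) (φ z₂) (φ w₂) := by
  simp [Ki, map_Hi, map_Gi]

theorem map_Mi (φ : B →+* F) : φ (Mi W z₁ w₁ z₂ w₂) = Mi (W.map φ) (φ z₁) (φ w₁) (φ z₂) (φ w₂) := by
  simp [Mi, map_Hi, map_Gi, map_Ni, map_Ki, map_ofNat]

theorem map_Zi (φ : B →+* F) : φ (Zi W z₁ w₁ z₂ w₂) = Zi (W.map φ) (φ z₁) (φ w₁) (φ z₂) (φ w₂) := by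
  simp [Zi, map_Gi, map_Mi, map_Ni, map_Ki]

theorem map_infTriple (φ : B →+* F) :
    φ ∘ infTriple W z₁ w₁ z₂ w₂ = infTriple (W.map φ) (φ z₁) (φ w₁) (φ z₂) (φ w₂) := by
  funext i
  fin_cases i <;> simp [infTriple, map_Hi, map_Mi, map_Ki, map_Zi]

end

/-- The formula at field-valued points in general position. -/
theorem infTriple_eq (W : WeierstrassCurve F) (z₁ w₁ z₂ w₂ : F) (h₁ : EqInf W z₁ w₁) (h₂ : EqInf W z₂ w₂)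
    (hw₁ : w₁ ≠ 0) (hw₂ : w₂ ≠ 0) (hz : z₁ ≠ z₂) (hx : z₁ * w₂ ≠ z₂ * w₁) (hH : Hi W z₁ w₁ w₂ ≠ 0)
    (hK : Ki W z₁ w₁ z₂ w₂ ≠ 0) :
    ∃ ℓ : F, ℓ = (1 / w₁ - 1 / w₂) / (z₁ / w₁ - z₂ / w₂) ∧
      Zi W z₁ w₁ z₂ w₂ ≠ 0 ∧ infTriple W z₁ w₁ z₂ w₂ = Zi W z₁ w₁ z₂ w₂ •
      ![W.toAffine.addX (z₁ / w₁) (z₂ / w₂) ℓ, W.toAffine.addY (z₁ / w₁) (z₂ / w₂) (1 / w₁) ℓ, 1] := by
  have key := Hi_mul W z₁ w₁ z₂ w₂ h₁ h₂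
  have hx' : z₁ / w₁ - z₂ / w₂ ≠ 0 := by
    intro h
    apply hx
    field_simp at h
    linear_combination h
  obtain ⟨ℓ, hℓ⟩ : ∃ ℓ, ℓ = (1 / w₁ - 1 / w₂) / (z₁ / w₁ - z₂ / w₂) := ⟨_, rfl⟩
  refine ⟨ℓ, hℓ, ?_⟩
  obtain ⟨x₁, hx₁⟩ : ∃ x₁, x₁ = z₁ / w₁ := ⟨_, rfl⟩
  obtain ⟨x₂, hx₂⟩ : ∃ x₂, x₂ = z₂ / w₂ := ⟨_, rfl⟩
  obtain ⟨c, hcdef⟩ : ∃ c, c = 1 / w₁ - ℓ * x₁ := ⟨_, rfl⟩
  rw [← hx₁, ← hx₂] at hx' hℓ ⊢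
  have hy₁ : 1 / w₁ = ℓ * x₁ + c := by rw [hcdef]; ring
  have hy₂ : 1 / w₂ = ℓ * x₂ + c := by
    rw [hcdef]
    have : ℓ * (x₁ - x₂) = 1 / w₁ - 1 / w₂ := by rw [hℓ]; field_simp
    linear_combination this
  have hy₁0 : ℓ * x₁ + c ≠ 0 := by rw [← hy₁]; exact one_div_ne_zero hw₁
  have hy₂0 : ℓ * x₂ + c ≠ 0 := by rw [← hy₂]; exact one_div_ne_zero hw₂
  have hw₁' : w₁ = 1 / (ℓ * x₁ + c) := by rw [← hy₁, one_div_one_div]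
  have hw₂' : w₂ = 1 / (ℓ * x₂ + c) := by rw [← hy₂, one_div_one_div]
  have hz₁ : z₁ = x₁ / (ℓ * x₁ + c) := by rw [hx₁, ← hx₁, ← hy₁, hx₁]; field_simp
  have hz₂ : z₂ = x₂ / (ℓ * x₂ + c) := by rw [hx₂, ← hx₂, ← hy₂, hx₂]; field_simp
  have hc : c ≠ 0 := by
    intro hc
    apply hz
    rw [hz₁, hz₂, hc, add_zero, add_zero]
    rw [hc, add_zero] at hy₁0 hy₂0
    have : ℓ ≠ 0 := left_ne_zero_of_mul hy₁0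
    have : x₁ ≠ 0 := right_ne_zero_of_mul hy₁0
    have : x₂ ≠ 0 := right_ne_zero_of_mul hy₂0
    field_simp
  -- the slope in the chart at infinity
  have hlam : Gi W z₁ z₂ w₂ = (-ℓ / c) * Hi W z₁ w₁ w₂ := by
    have h3 : w₁ - w₂ = (z₁ - z₂) * (-ℓ / c) := by
      rw [hw₁', hw₂', hz₁, hz₂]
      field_simp
      ring
    rw [h3] at key
    have := mul_left_cancel₀ (sub_ne_zero.2 hz) (by rw [← key]; ring :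
      (z₁ - z₂) * Gi W z₁ z₂ w₂ = (z₁ - z₂) * ((-ℓ / c) * Hi W z₁ w₁ w₂))
    exact this
  have hnu : Ni W z₁ w₁ z₂ w₂ = (1 / c) * Hi W z₁ w₁ w₂ := by
    rw [Ni, hlam, hw₁', hz₁]
    field_simp
    ring
  have hk1 : Ki W z₁ w₁ z₂ w₂ = (1 + W.a₂ * (-ℓ / c) + W.a₄ * (-ℓ / c) ^ 2 + W.a₆ * (-ℓ / c) ^ 3) *
      Hi W z₁ w₁ w₂ ^ 3 := by
    rw [Ki, hlam]
    ring
  obtain ⟨x₃, hx₃⟩ : ∃ x₃, x₃ = W.toAffine.addX x₁ x₂ ℓ := ⟨_, rfl⟩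
  have e₂ : W.a₂ = ℓ ^ 2 + W.a₁ * ℓ - x₁ - x₂ - x₃ := by rw [hx₃, Affine.addX]; ring
  have E₁ : (ℓ * x₁ + c) ^ 2 + W.a₁ * x₁ * (ℓ * x₁ + c) + W.a₃ * (ℓ * x₁ + c) =
      x₁ ^ 3 + W.a₂ * x₁ ^ 2 + W.a₄ * x₁ + W.a₆ := by
    rw [EqInf, hw₁', hz₁] at h₁
    field_simp at h₁
    linear_combination h₁
  have E₂ : (ℓ * x₂ + c) ^ 2 + W.a₁ * x₂ * (ℓ * x₂ + c) + W.a₃ * (ℓ * x₂ + c) =
      x₂ ^ 3 + W.a₂ * x₂ ^ 2 + W.a₄ * x₂ + W.a₆ := by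
    rw [EqInf, hw₂', hz₂] at h₂
    field_simp at h₂
    linear_combination h₂
  have e₄ : W.a₄ = x₁ * x₂ + x₁ * x₃ + x₂ * x₃ + 2 * ℓ * c + W.a₁ * c + W.a₃ * ℓ := by
    apply mul_left_cancel₀ hx'
    linear_combination - E₁ + E₂ - (x₁ - x₂) * (x₁ + x₂) * e₂
  have e₆ : W.a₆ = - (x₁ * x₂ * x₃) + c ^ 2 + W.a₃ * c := by
    linear_combination - E₁ - x₁ ^ 2 * e₂ - x₁ * e₄
  have hk0 : 1 + W.a₂ * (-ℓ / c) + W.a₄ * (-ℓ / c) ^ 2 + W.a₆ * (-ℓ / c) ^ 3 ≠ 0 := by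
    intro h
    apply hK
    rw [hk1, h, zero_mul]
  obtain ⟨h₃, hv⟩ := vieta_inf W.a₁ W.a₂ W.a₃ W.a₄ W.a₆ ℓ c x₁ x₂ x₃ hc hy₁0 hy₂0 e₂ e₄ e₆ hk0
  set κ := 1 + W.a₂ * (-ℓ / c) + W.a₄ * (-ℓ / c) ^ 2 + W.a₆ * (-ℓ / c) ^ 3 with hkdef
  have hM : Mi W z₁ w₁ z₂ w₂ = x₃ / (ℓ * x₃ + c) * (κ * Hi W z₁ w₁ w₂ ^ 3) := by
    rw [← hv, Mi, hk1, hnu, hlam, ← hz₁, ← hz₂]
    field_simp
    ring
  have hZ : Zi W z₁ w₁ z₂ w₂ = 1 / (ℓ * x₃ + c) * (κ * Hi W z₁ w₁ w₂ ^ 4) := by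
    rw [Zi, hM, hnu, hlam, hk1]
    field_simp
    ring
  refine ⟨?_, ?_⟩
  · rw [hZ]
    exact mul_ne_zero (one_div_ne_zero h₃) (mul_ne_zero hk0 (pow_ne_zero 4 hH))
  · funext i
    fin_cases i
    · simp only [infTriple, Fin.zero_eta, Matrix.cons_val_zero, Pi.smul_apply, smul_eq_mul]
      rw [← hx₃, hZ, hM]
      field_simp
    · simp only [infTriple, Fin.mk_one, Matrix.cons_val_one, Matrix.cons_val_zero, Pi.smul_apply, smul_eq_mul,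
        Affine.addY, Affine.negAddY, Affine.negY]
      rw [← hx₃, hZ, hM, hk1, hy₁]
      have hy : 1 / (ℓ * x₃ + c) * (ℓ * x₃ + c) = 1 := one_div_mul_cancel h₃
      linear_combination (κ * Hi W z₁ w₁ w₂ ^ 4) * hy
    · simp [infTriple]

theorem toAffine_inf [DecidableEq F] (W : WeierstrassCurve F) {z w : F} (h : W.toProjective.Nonsingular ![z, 1, w])
    (hw : w ≠ 0) : ∃ h' : W.toAffine.Nonsingular (z / w) (1 / w),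
      Projective.Point.toAffine W.toProjective ![z, 1, w] = .some (z / w) (1 / w) h' := by
  have hw' : (![z, 1, w] : Fin 3 → F) 2 ≠ 0 := by simpa using hw
  exact ⟨(Projective.nonsingular_of_Z_ne_zero hw').1 h, Projective.Point.toAffine_of_Z_ne_zero h hw'⟩

theorem isSum_infTriple [DecidableEq F] (W : WeierstrassCurve B) (z₁ w₁ z₂ w₂ : B) (φ : B →+* F)
    (hP : (W.map φ).toProjective.Nonsingular ![φ z₁, 1, φ w₁])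
    (hQ : (W.map φ).toProjective.Nonsingular ![φ z₂, 1, φ w₂])
    (hw₁ : φ w₁ ≠ 0) (hw₂ : φ w₂ ≠ 0) (hz : φ z₁ ≠ φ z₂) (hx : φ (z₁ * w₂) ≠ φ (z₂ * w₁))
    (hH : φ (Hi W z₁ w₁ w₂) ≠ 0) (hK : φ (Ki W z₁ w₁ z₂ w₂) ≠ 0) :
    IsSum W ![z₁, 1, w₁] ![z₂, 1, w₂] (infTriple W z₁ w₁ z₂ w₂) φ := by
  have e1 : φ ∘ ![z₁, 1, w₁] = ![φ z₁, 1, φ w₁] := by
    funext i; fin_cases i <;> simp
  have e2 : φ ∘ ![z₂, 1, w₂] = ![φ z₂, 1, φ w₂] := by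
    funext i; fin_cases i <;> simp
  have q1 : EqInf (W.map φ) (φ z₁) (φ w₁) := by
    have := hP.1
    rw [Projective.equation_iff] at this
    simp only [EqInf]
    simp at this ⊢
    linear_combination this
  have q2 : EqInf (W.map φ) (φ z₂) (φ w₂) := by
    have := hQ.1
    rw [Projective.equation_iff] at this
    simp only [EqInf]
    simp at this ⊢
    linear_combination this
  rw [map_Hi] at hH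
  rw [map_Ki] at hK
  rw [map_mul, map_mul] at hx
  obtain ⟨ℓ, hℓ, hZ, e⟩ := infTriple_eq (W.map φ) (φ z₁) (φ w₁) (φ z₂) (φ w₂) q1 q2 hw₁ hw₂ hz hx hH hK
  obtain ⟨n1, t1⟩ := toAffine_inf (W.map φ) hP hw₁
  obtain ⟨n2, t2⟩ := toAffine_inf (W.map φ) hQ hw₂
  have hx' : φ z₁ / φ w₁ ≠ φ z₂ / φ w₂ := by
    intro h
    apply hx
    field_simp at h
    linear_combination h
  have hs : (W.map φ).toAffine.slope (φ z₁ / φ w₁) (φ z₂ / φ w₂) (1 / φ w₁) (1 / φ w₂) = ℓ := by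
    rw [Affine.slope_of_X_ne hx', hℓ]
  have hxy : ¬ (φ z₁ / φ w₁ = φ z₂ / φ w₂ ∧ 1 / φ w₁ = (W.map φ).toAffine.negY (φ z₂ / φ w₂) (1 / φ w₂)) :=
    fun h => hx' h.1
  have hn := Affine.nonsingular_add n1 n2 hxy
  rw [hs] at hn
  have hn' : (W.map φ).toProjective.Nonsingular ![(W.map φ).toAffine.addX (φ z₁ / φ w₁) (φ z₂ / φ w₂) ℓ,
      (W.map φ).toAffine.addY (φ z₁ / φ w₁) (φ z₂ / φ w₂) (1 / φ w₁) ℓ, 1] :=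
    (Projective.nonsingular_some ..).2 hn
  have hu : IsUnit (Zi (W.map φ) (φ z₁) (φ w₁) (φ z₂) (φ w₂)) := hZ.isUnit
  rw [IsSum, e1, e2, map_infTriple, e, t1, t2, Projective.nonsingular_smul _ hu,
    Projective.Point.toAffine_smul _ hu, Projective.Point.toAffine_some hn', Affine.Point.add_some hxy]
  refine ⟨hn', ?_⟩
  simp only [hs]

theorem isSum_infTriple_zero [DecidableEq F] (W : WeierstrassCurve B) (z₁ w₁ z₂ w₂ : B) (φ : B →+* F)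
    (hz₁ : φ z₁ = 0) (hw₁ : φ w₁ = 0) (hz₂ : φ z₂ = 0) (hw₂ : φ w₂ = 0) :
    IsSum W ![z₁, 1, w₁] ![z₂, 1, w₂] (infTriple W z₁ w₁ z₂ w₂) φ := by
  have e1 : φ ∘ ![z₁, 1, w₁] = ![0, 1, 0] := by
    funext i; fin_cases i <;> simp [hz₁, hw₁]
  have e2 : φ ∘ ![z₂, 1, w₂] = ![0, 1, 0] := by
    funext i; fin_cases i <;> simp [hz₂, hw₂]
  have e3 : infTriple (W.map φ) (φ z₁) (φ w₁) (φ z₂) (φ w₂) = (-1 : F) • ![0, 1, 0] := by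
    funext i; fin_cases i <;> simp [infTriple, Zi, Mi, Ki, Ni, Hi, Gi, hz₁, hw₁, hz₂, hw₂]
  have hu : IsUnit (-1 : F) := isUnit_one.neg
  rw [IsSum, e1, e2, map_infTriple, e3, Projective.nonsingular_smul _ hu, Projective.Point.toAffine_smul _ hu,
    Projective.Point.toAffine_zero, add_zero]
  exact ⟨Projective.nonsingular_zero, rfl⟩

end Groth.Agent.VarietyA.EllAlg
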