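import Groth.Agent.VarietyA.EllNegSum

/-!
# Uniqueness of the third point of the chord law
-/

set_option autoImplicit false
universe u
open CategoryTheory CategoryTheory.Limits AlgebraicGeometry
open WeierstrassCurve
open scoped WeierstrassCurve.Projective

namespace Groth.Agent.VarietyA.Ell

theorem equiv_of_toAffine {F : Type u} [Field F] (W : WeierstrassCurve.Projective F) (P Q : Fin 3 → F)
    (hP : W.Nonsingular P) (hQ : W.Nonsingular Q)
    (h : Projective.Point.toAffine W P = Projective.Point.toAffine W Q) : P ≈ Q := by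
  by_cases hPz : P 2 = 0
  · by_cases hQz : Q 2 = 0
    · exact Projective.equiv_of_Z_eq_zero hP hQ hPz hQz
    · exfalso
      rw [Projective.Point.toAffine_of_Z_eq_zero hPz, Projective.Point.toAffine_of_Z_ne_zero hQ hQz] at h
      exact Affine.Point.some_ne_zero _ h.symm
  · by_cases hQz : Q 2 = 0
    · exfalso
      rw [Projective.Point.toAffine_of_Z_eq_zero hQz, Projective.Point.toAffine_of_Z_ne_zero hP hPz] at h
      exact Affine.Point.some_ne_zero _ h
    · rw [Projective.Point.toAffine_of_Z_ne_zero hP hPz, Projective.Point.toAffine_of_Z_ne_zero hQ hQz,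
        Affine.Point.some.injEq] at h
      obtain ⟨h1, h2⟩ := h
      refine Setoid.trans (Projective.equiv_some_of_Z_ne_zero hPz) (Setoid.trans ?_
        (Setoid.symm (Projective.equiv_some_of_Z_ne_zero hQz)))
      rw [h1, h2]

theorem negSum_unique {K : Type u} [Field K] {C : Scheme.{u}} {f : C ⟶ Spec (CommRingCat.of K)} {pt : C}
    (D : WCoord f pt) (hns : NS D) [IsSeparated f] (o : Spec (CommRingCat.of K) ⟶ C) (ho : o ≫ f = 𝟙 _)
    (hpt : pt ∈ Set.range o) {F : Type u} [Field F] (r : Spec (CommRingCat.of F) ⟶ Spec (CommRingCat.of K))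
    (a b v v' : Spec (CommRingCat.of F) ⟶ C) (hv : v ≫ f = r) (hv' : v' ≫ f = r)
    (h : NegSum D (Spec.preimage r).hom a b v) (h' : NegSum D (Spec.preimage r).hom a b v') : v = v' := by
  refine eq_of_trip D o ho hpt v v' (hv.trans hv'.symm) ?_
  have n1 := trip_nonsingular D hns v
  have n2 := trip_nonsingular D hns v'
  rw [hv] at n1
  rw [hv'] at n2
  exact equiv_of_toAffine _ _ _ n1 n2 (h.trans h'.symm)

end Groth.Agent.VarietyA.Ell
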