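import Groth.Agent.VarietyA.EllFin
import Groth.Agent.VarietyA.EllGlue
import Groth.Agent.VarietyA.EllUniq
import Groth.Agent.VarietyA.EllNonsing

/-!
# The group object on a curve with Weierstrass coordinates, from local chord morphisms
-/

set_option autoImplicit false
universe u
open CategoryTheory CategoryTheory.Limits AlgebraicGeometry
open WeierstrassCurve
open scoped WeierstrassCurve.Projective

namespace Groth.Agent.VarietyA.Ell

/-- The group object, from local chord morphisms on the square of the curve. -/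
theorem grpObj_of_local {K : Type u} [Field K] (C : Over (Spec (CommRingCat.of K))) [Smooth C.hom]
    [IsSeparated C.hom] (o : Over.mk (𝟙 (Spec (CommRingCat.of K))) ⟶ C)
    (D : WCoord C.hom (o.left (IsLocalRing.closedPoint K)))
    (hloc : ∀ t : ↥(pullback C.hom C.hom), ∃ (N : Scheme.{u}) (j : N ⟶ pullback C.hom C.hom)
      (_ : IsOpenImmersion j) (_ : t ∈ Set.range j) (c : N ⟶ C.left),
      c ≫ C.hom = j ≫ pullback.fst C.hom C.hom ≫ C.hom ∧
        ∀ (F : Type u) [Field F] (u : Spec (CommRingCat.of F) ⟶ N),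
          NegSum D (Spec.preimage ((u ≫ j) ≫ pullback.fst C.hom C.hom ≫ C.hom)).hom
            ((u ≫ j) ≫ pullback.fst C.hom C.hom) ((u ≫ j) ≫ pullback.snd C.hom C.hom) (u ≫ c)) :
    Nonempty (GrpObj C) := by
  have hns : NS D := fun s a b h => EllNonsing.nonsingular C.hom _ D s a b h
  have hred : IsReduced (pullback C.hom C.hom) :=
    Dix.EllScheme.isReduced_of_smooth (pullback.fst C.hom C.hom ≫ C.hom)
  have ho : o.left ≫ C.hom = 𝟙 _ := Over.w o
  obtain ⟨m, hm, hsum⟩ := exists_glue (pullback.fst C.hom C.hom ≫ C.hom) C.hom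
    (fun F _ u v => NegSum D (Spec.preimage (u ≫ pullback.fst C.hom C.hom ≫ C.hom)).hom
      (u ≫ pullback.fst C.hom C.hom) (u ≫ pullback.snd C.hom C.hom) v)
    (fun F _ u v v' hv hv' h h' => negSum_unique D hns o.left ho ⟨IsLocalRing.closedPoint K, rfl⟩ _ _ _ v v' hv hv' h h') hloc
  exact grpObj_of_negSum C o D hns m hm (fun F _ u => hsum F u)

end Groth.Agent.VarietyA.Ell
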