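import Groth.Agent.VarietyA.EllLoc
import Groth.Agent.VarietyA.EllUniq

/-!
# Existence of the chord morphism near every point
-/

set_option autoImplicit false
universe u
open CategoryTheory CategoryTheory.Limits AlgebraicGeometry
open WeierstrassCurve
open scoped WeierstrassCurve.Projective

namespace Groth.Agent.VarietyA.Ell

open Groth.Agent.VarietyA.EllAlg

variable {K : Type u} [Field K] {C : Scheme.{u}} {f : C ⟶ Spec (CommRingCat.of K)} {pt : C} (D : WCoord f pt)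

/-- there is a chord morphism near `t` -/
def HasChord {T : Scheme.{u}} (q : T ⟶ Spec (CommRingCat.of K)) (c₁ c₂ : T ⟶ C) (t : T) : Prop :=
  ∃ (N : Scheme.{u}) (j : N ⟶ T) (_ : IsOpenImmersion j) (_ : t ∈ Set.range j) (m : N ⟶ C), m ≫ f = j ≫ q ∧
    ∀ (F : Type u) [Field F] (u : Spec (CommRingCat.of F) ⟶ N),
      NegSum D (Spec.preimage (u ≫ j ≫ q)).hom (u ≫ j ≫ c₁) (u ≫ j ≫ c₂) (u ≫ m)

theorem HasChord.of_open {T N : Scheme.{u}} (q : T ⟶ Spec (CommRingCat.of K)) (c₁ c₂ : T ⟶ C) (j : N ⟶ T)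
    [IsOpenImmersion j] (n : N) (h : HasChord D (j ≫ q) (j ≫ c₁) (j ≫ c₂) n) : HasChord D q c₁ c₂ (j n) := by
  obtain ⟨N', j', _, ⟨n', hn'⟩, m, hm, h1⟩ := h
  refine ⟨N', j' ≫ j, inferInstance, ⟨n', by rw [Scheme.Hom.comp_apply, hn']⟩, m, by rw [hm, Category.assoc], ?_⟩
  intro F _ u
  have := h1 F u
  simpa only [Category.assoc] using this

theorem rep_nonsingular (hns : NS D) {N : Scheme.{u}} (q : N ⟶ Spec (CommRingCat.of K)) (c : N ⟶ C)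
    (hc : c ≫ f = q) (P : Fin 3 → Γ(N, ⊤)) (hP : Rep D c P) {F : Type u} [Field F]
    (u : Spec (CommRingCat.of F) ⟶ N) :
    ((D.W.map (sc q ⊤)).map (evT u)).toProjective.Nonsingular (evT u ∘ P) := by
  rw [map_W, ← Projective.nonsingular_of_equiv (hP F u), ← hc, ← Category.assoc]
  exact trip_nonsingular D hns (u ≫ c)

theorem generic_mem_basicOpen {N : Scheme.{u}} [IsIntegral N] (g : Γ(N, ⊤)) (n : N) (hn : n ∈ N.basicOpen g) :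
    genericPoint N ∈ N.basicOpen g :=
  ((genericPoint_spec N).mem_open_set_iff (N.basicOpen g).isOpen).2 ⟨n, trivial, hn⟩

theorem hasChord_of_isSum (hD : LocInf D) {N : Scheme.{u}} [IsIntegral N] (q : N ⟶ Spec (CommRingCat.of K))
    (c₁ c₂ : N ⟶ C) (P Q R : Fin 3 → Γ(N, ⊤)) (hP : Rep D c₁ P) (hQ : Rep D c₂ Q) (g : Γ(N, ⊤)) (n : N)
    (hn : n ∈ N.basicOpen g)
    (h : ∀ (F : Type u) [Field F] [DecidableEq F] (u : Spec (CommRingCat.of F) ⟶ N),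
      evT u g ≠ 0 → IsSum (D.W.map (sc q ⊤)) P Q R (evT u)) : HasChord D q c₁ c₂ n := by
  classical
  obtain ⟨N', j, _, ⟨n', hn'⟩, m, hm, h1⟩ := chart_gen D hD q R (by
      obtain ⟨F, _, u, hu⟩ := exists_field_point N (genericPoint N)
      exact ⟨F, _, u, hu, (h F u ((evT_ne_zero_iff u g).2 (hu ▸ generic_mem_basicOpen g n hn))).1⟩) n (by
      obtain ⟨F, _, u, hu⟩ := exists_field_point N n
      exact ⟨F, _, u, hu, (h F u ((evT_ne_zero_iff u g).2 (hu ▸ hn))).1⟩)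
  let O := j ⁻¹ᵁ (N.basicOpen g)
  have hO : n' ∈ O := by
    change j n' ∈ N.basicOpen g
    rw [hn']
    exact hn
  refine ⟨O, O.ι ≫ j, inferInstance, ⟨⟨n', hO⟩, ?_⟩, O.ι ≫ m, by rw [Category.assoc, Category.assoc, hm], ?_⟩
  · rw [Scheme.Hom.comp_apply]
    exact hn'
  · intro F _ u
    have h2 : evT ((u ≫ O.ι) ≫ j) g ≠ 0 := by
      rw [evT_ne_zero_iff, Scheme.Hom.comp_apply, Scheme.Hom.comp_apply]
      exact (u (IsLocalRing.closedPoint F)).2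
    have h3 := negSum_of_isSum D q j c₁ c₂ m P Q R hP hQ h1 (u ≫ O.ι) (h F _ h2)
    simpa only [Category.assoc] using h3

/-- The case of different points. -/
theorem hasChord_of_minor (hD : LocInf D) (hns : NS D) {N : Scheme.{u}} [IsIntegral N]
    (q : N ⟶ Spec (CommRingCat.of K)) (c₁ c₂ : N ⟶ C) (h₁ : c₁ ≫ f = q) (h₂ : c₂ ≫ f = q)
    (P Q : Fin 3 → Γ(N, ⊤)) (hP : Rep D c₁ P) (hQ : Rep D c₂ Q) (i k : Fin 3) (n : N)
    (hn : n ∈ N.basicOpen (P i * Q k - P k * Q i)) : HasChord D q c₁ c₂ n :=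
  hasChord_of_isSum D hD q c₁ c₂ P Q ((D.W.map (sc q ⊤)).toProjective.addXYZ P Q) hP hQ _ n hn
    (fun _ _ _ u hu => isSum_addXYZ _ P Q (evT u) (rep_nonsingular D hns q c₁ h₁ P hP u)
      (rep_nonsingular D hns q c₂ h₂ Q hQ u) i k hu)

/-- The case of two affine points. -/
theorem hasChord_UU (hD : LocInf D) (hns : NS D) {N : Scheme.{u}} [IsIntegral N]
    (q : N ⟶ Spec (CommRingCat.of K)) (c₁ c₂ : N ⟶ C) (h₁ : c₁ ≫ f = q) (h₂ : c₂ ≫ f = q)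
    (hU₁ : ⊤ ≤ c₁ ⁻¹ᵁ D.U) (hU₂ : ⊤ ≤ c₂ ⁻¹ᵁ D.U) (n : N) : HasChord D q c₁ c₂ n := by
  have hP := rep_U D c₁ hU₁
  have hQ := rep_U D c₂ hU₂
  set x₁ := c₁.appLE D.U ⊤ hU₁ D.x
  set y₁ := c₁.appLE D.U ⊤ hU₁ D.y
  set x₂ := c₂.appLE D.U ⊤ hU₂ D.x
  set y₂ := c₂.appLE D.U ⊤ hU₂ D.y
  by_cases hm0 : n ∈ N.basicOpen ((![x₁, y₁, 1] : Fin 3 → Γ(N, ⊤)) 0 * (![x₂, y₂, 1] : Fin 3 → Γ(N, ⊤)) 2 -
      (![x₁, y₁, 1] : Fin 3 → Γ(N, ⊤)) 2 * (![x₂, y₂, 1] : Fin 3 → Γ(N, ⊤)) 0)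
  · exact hasChord_of_minor D hD hns q c₁ c₂ h₁ h₂ _ _ hP hQ 0 2 n hm0
  by_cases hm1 : n ∈ N.basicOpen ((![x₁, y₁, 1] : Fin 3 → Γ(N, ⊤)) 1 * (![x₂, y₂, 1] : Fin 3 → Γ(N, ⊤)) 2 -
      (![x₁, y₁, 1] : Fin 3 → Γ(N, ⊤)) 2 * (![x₂, y₂, 1] : Fin 3 → Γ(N, ⊤)) 1)
  · exact hasChord_of_minor D hD hns q c₁ c₂ h₁ h₂ _ _ hP hQ 1 2 n hm1
  obtain ⟨F, _, u, hu⟩ := exists_field_point N n
  rw [← hu, ← evT_ne_zero_iff, not_not] at hm0 hm1
  change evT u (x₁ * 1 - 1 * x₂) = 0 at hm0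
  change evT u (y₁ * 1 - 1 * y₂) = 0 at hm1
  rw [mul_one, one_mul, map_sub, sub_eq_zero] at hm0 hm1
  have ns : ∀ (F : Type u) [Field F] (u : Spec (CommRingCat.of F) ⟶ N),
      ((D.W.map (sc q ⊤)).map (evT u)).toAffine.Nonsingular (evT u x₁) (evT u y₁) := by
    intro F _ u
    have := rep_nonsingular D hns q c₁ h₁ _ hP u
    rw [comp_triple, map_one, Projective.nonsingular_some] at this
    exact this
  have ns' : ∀ (F : Type u) [Field F] (u : Spec (CommRingCat.of F) ⟶ N),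
      ((D.W.map (sc q ⊤)).map (evT u)).toAffine.Nonsingular (evT u x₂) (evT u y₂) := by
    intro F _ u
    have := rep_nonsingular D hns q c₂ h₂ _ hQ u
    rw [comp_triple, map_one, Projective.nonsingular_some] at this
    exact this
  have key : evT u (EllAlg.H (D.W.map (sc q ⊤)) y₁ x₂ y₂) ≠ 0 ∨
      evT u (EllAlg.G (D.W.map (sc q ⊤)) x₁ y₁ x₂) ≠ 0 := by
    rw [map_H, map_G, ← hm0, ← hm1]
    have h3 := (ns F u).2
    rw [Affine.evalEval_polynomialX, Affine.evalEval_polynomialY] at h3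
    rcases h3 with h3 | h3
    · right
      intro h4
      apply h3
      simp only [EllAlg.G] at h4
      linear_combination - h4
    · left
      intro h4
      apply h3
      simp only [EllAlg.H] at h4
      linear_combination h4
  rcases key with h4 | h4
  · refine hasChord_of_isSum D hD q c₁ c₂ _ _ (affTriple (D.W.map (sc q ⊤)) x₁ y₁ x₂ y₂) hP hQ _ n
      (hu ▸ (evT_ne_zero_iff u _).1 h4) ?_
    intro F' _ _ u' hu'
    exact isSum_affTriple _ _ _ _ _ _ (ns F' u') (ns' F' u') (Or.inl hu')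
  · refine hasChord_of_isSum D hD q c₁ c₂ _ _ (affTriple (D.W.map (sc q ⊤)) x₁ y₁ x₂ y₂) hP hQ _ n
      (hu ▸ (evT_ne_zero_iff u _).1 h4) ?_
    intro F' _ _ u' hu'
    exact isSum_affTriple _ _ _ _ _ _ (ns F' u') (ns' F' u') (Or.inr hu')

/-- The case of an affine point and the origin. -/
theorem hasChord_UV (hD : LocInf D) (hns : NS D) {N : Scheme.{u}} [IsIntegral N]
    (q : N ⟶ Spec (CommRingCat.of K)) (c₁ c₂ : N ⟶ C) (h₁ : c₁ ≫ f = q) (h₂ : c₂ ≫ f = q)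
    (hU₁ : ⊤ ≤ c₁ ⁻¹ᵁ D.U) (hV₂ : ⊤ ≤ c₂ ⁻¹ᵁ D.V) (n : N) (hn : c₂ n = pt) : HasChord D q c₁ c₂ n := by
  have hP := rep_U D c₁ hU₁
  have hQ := rep_V D c₂ hV₂
  refine hasChord_of_minor D hD hns q c₁ c₂ h₁ h₂ _ _ hP hQ 1 2 n ?_
  obtain ⟨F, _, u, hu⟩ := exists_field_point N n
  have h3 := (ev_pt D (u ≫ c₂) (le_comp u c₂ D.V hV₂) (by rw [Scheme.Hom.comp_apply, hu, hn])).2
  rw [← evT_appLE u c₂ D.V hV₂] at h3
  rw [← hu, ← evT_ne_zero_iff]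
  change evT u (c₁.appLE D.U ⊤ hU₁ D.y * c₂.appLE D.V ⊤ hV₂ D.w - 1 * 1) ≠ 0
  rw [map_sub, map_mul, h3, mul_zero, mul_one, map_one, zero_sub]
  exact neg_ne_zero.2 one_ne_zero

theorem hasChord_VU (hD : LocInf D) (hns : NS D) {N : Scheme.{u}} [IsIntegral N]
    (q : N ⟶ Spec (CommRingCat.of K)) (c₁ c₂ : N ⟶ C) (h₁ : c₁ ≫ f = q) (h₂ : c₂ ≫ f = q)
    (hV₁ : ⊤ ≤ c₁ ⁻¹ᵁ D.V) (hU₂ : ⊤ ≤ c₂ ⁻¹ᵁ D.U) (n : N) (hn : c₁ n = pt) : HasChord D q c₁ c₂ n := by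
  have hP := rep_V D c₁ hV₁
  have hQ := rep_U D c₂ hU₂
  refine hasChord_of_minor D hD hns q c₁ c₂ h₁ h₂ _ _ hP hQ 1 2 n ?_
  obtain ⟨F, _, u, hu⟩ := exists_field_point N n
  have h3 := (ev_pt D (u ≫ c₁) (le_comp u c₁ D.V hV₁) (by rw [Scheme.Hom.comp_apply, hu, hn])).2
  rw [← evT_appLE u c₁ D.V hV₁] at h3
  rw [← hu, ← evT_ne_zero_iff]
  change evT u (1 * 1 - c₁.appLE D.V ⊤ hV₁ D.w * c₂.appLE D.U ⊤ hU₂ D.y) ≠ 0
  rw [map_sub, map_mul (evT u) (c₁.appLE D.V ⊤ hV₁ D.w), h3, zero_mul, mul_one, map_one, sub_zero]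
  exact one_ne_zero

theorem le_comp_ι {T : Scheme.{u}} (N : T.Opens) (c : T ⟶ C) (U : C.Opens) (h : N ≤ c ⁻¹ᵁ U) :
    ⊤ ≤ (N.ι ≫ c) ⁻¹ᵁ U := by
  rw [Scheme.Hom.comp_preimage]
  exact fun p _ => h (x := N.ι p) p.2

/-- All the cases but one. -/
theorem hasChord_of_ne (hD : LocInf D) (hns : NS D) {T : Scheme.{u}} [IsIntegral T]
    (q : T ⟶ Spec (CommRingCat.of K)) (c₁ c₂ : T ⟶ C) (h₁ : c₁ ≫ f = q) (h₂ : c₂ ≫ f = q) (t : T)
    (ht : ¬ (c₁ t = pt ∧ c₂ t = pt)) : HasChord D q c₁ c₂ t := by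
  by_cases e₁ : c₁ t = pt
  · have e₂ : c₂ t ≠ pt := fun h => ht ⟨e₁, h⟩
    let N : T.Opens := c₁ ⁻¹ᵁ D.V ⊓ c₂ ⁻¹ᵁ D.U
    have hN : t ∈ N := ⟨by change c₁ t ∈ D.V; rw [e₁]; exact D.memV, (D.memU _).2 e₂⟩
    have : Nonempty N.toScheme := ⟨⟨t, hN⟩⟩
    have : IsIntegral N.toScheme := isIntegral_of_isOpenImmersion N.ι
    exact HasChord.of_open D q c₁ c₂ N.ι ⟨t, hN⟩ (hasChord_VU D hD hns _ _ _ (by rw [Category.assoc, h₁])
      (by rw [Category.assoc, h₂]) (le_comp_ι N c₁ D.V inf_le_left) (le_comp_ι N c₂ D.U inf_le_right) _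
      (by rw [Scheme.Hom.comp_apply]; exact e₁))
  · by_cases e₂ : c₂ t = pt
    · let N : T.Opens := c₁ ⁻¹ᵁ D.U ⊓ c₂ ⁻¹ᵁ D.V
      have hN : t ∈ N := ⟨(D.memU _).2 e₁, by change c₂ t ∈ D.V; rw [e₂]; exact D.memV⟩
      have : Nonempty N.toScheme := ⟨⟨t, hN⟩⟩
      have : IsIntegral N.toScheme := isIntegral_of_isOpenImmersion N.ι
      exact HasChord.of_open D q c₁ c₂ N.ι ⟨t, hN⟩ (hasChord_UV D hD hns _ _ _ (by rw [Category.assoc, h₁])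
        (by rw [Category.assoc, h₂]) (le_comp_ι N c₁ D.U inf_le_left) (le_comp_ι N c₂ D.V inf_le_right) _
        (by rw [Scheme.Hom.comp_apply]; exact e₂))
    · let N : T.Opens := c₁ ⁻¹ᵁ D.U ⊓ c₂ ⁻¹ᵁ D.U
      have hN : t ∈ N := ⟨(D.memU _).2 e₁, (D.memU _).2 e₂⟩
      have : Nonempty N.toScheme := ⟨⟨t, hN⟩⟩
      have : IsIntegral N.toScheme := isIntegral_of_isOpenImmersion N.ι
      exact HasChord.of_open D q c₁ c₂ N.ι ⟨t, hN⟩ (hasChord_UU D hD hns _ _ _ (by rw [Category.assoc, h₁])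
        (by rw [Category.assoc, h₂]) (le_comp_ι N c₁ D.U inf_le_left) (le_comp_ι N c₂ D.U inf_le_right) _)

end Groth.Agent.VarietyA.Ell
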