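import Groth.Prelude.Def_Neron
import Mathlib.AlgebraicGeometry.EllipticCurve.Projective.Point
import Mathlib.AlgebraicGeometry.Geometrically.Irreducible

/-!
# Weierstrass coordinates on a curve over a field: definitions

`WCoord C pt`: the complement `U` of the point `pt` of `C` is affine with coordinate ring
`K[x, y]/(Weierstrass equation)`, and near `pt` there are functions `z = x/y`, `w = 1/y` vanishing at `pt`.
-/

set_option autoImplicit false
universe u
open CategoryTheory CategoryTheory.Limits AlgebraicGeometry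

namespace Groth.Agent.VarietyA.Ell

/-- the affine Weierstrass equation with coefficients in `K`, over a `K`-algebra given by `s : K → B` -/
def WEq {K B : Type u} [CommRing K] [CommRing B] (W : WeierstrassCurve K) (s : K →+* B) (x y : B) : Prop :=
  y ^ 2 + s W.a₁ * x * y + s W.a₃ * y = x ^ 3 + s W.a₂ * x ^ 2 + s W.a₄ * x + s W.a₆

/-- the Weierstrass equation in the coordinates `z = x / y`, `w = 1 / y` at infinity -/
def WEqInf {K B : Type u} [CommRing K] [CommRing B] (W : WeierstrassCurve K) (s : K →+* B) (z w : B) : Prop :=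
  w + s W.a₁ * z * w + s W.a₃ * w ^ 2 = z ^ 3 + s W.a₂ * z ^ 2 * w + s W.a₄ * z * w ^ 2 + s W.a₆ * w ^ 3

/-- the scalars in the sections of a `K`-scheme -/
noncomputable def sc {K : Type u} [CommRing K] {X : Scheme.{u}} (f : X ⟶ Spec (CommRingCat.of K))
    (U : X.Opens) : K →+* Γ(X, U) :=
  (f.appLE ⊤ U le_top).hom.comp (Scheme.ΓSpecIso (CommRingCat.of K)).inv.hom

/-- Weierstrass coordinates on the curve `f : C ⟶ Spec K` with origin `pt`. -/
structure WCoord {K : Type u} [Field K] {C : Scheme.{u}} (f : C ⟶ Spec (CommRingCat.of K)) (pt : C) where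
  /-- the Weierstrass curve -/
  W : WeierstrassCurve K
  /-- the complement of the origin -/
  U : C.Opens
  affU : IsAffineOpen U
  memU : ∀ c : C, c ∈ U ↔ c ≠ pt
  /-- the coordinate `x` -/
  x : Γ(C, U)
  /-- the coordinate `y` -/
  y : Γ(C, U)
  eqn : WEq W (sc f U) x y
  univ : ∀ {B : Type u} [CommRing B] (s : K →+* B) (a b : B), WEq W s a b →
    ∃ φ : Γ(C, U) →+* B, φ.comp (sc f U) = s ∧ φ x = a ∧ φ y = b
  ext : ∀ {B : Type u} [CommRing B] (φ ψ : Γ(C, U) →+* B), φ.comp (sc f U) = ψ.comp (sc f U) →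
    φ x = ψ x → φ y = ψ y → φ = ψ
  /-- a neighbourhood of the origin -/
  V : C.Opens
  memV : pt ∈ V
  /-- the coordinate `x / y` -/
  z : Γ(C, V)
  /-- the coordinate `1 / y` -/
  w : Γ(C, V)
  germ_z : C.presheaf.germ V pt memV z ∈ IsLocalRing.maximalIdeal (C.presheaf.stalk pt)
  germ_w : C.presheaf.germ V pt memV w ∈ IsLocalRing.maximalIdeal (C.presheaf.stalk pt)
  rel_w : C.presheaf.map (homOfLE (inf_le_right : U ⊓ V ≤ V)).op w *
    C.presheaf.map (homOfLE (inf_le_left : U ⊓ V ≤ U)).op y = 1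
  rel_z : C.presheaf.map (homOfLE (inf_le_right : U ⊓ V ≤ V)).op z *
    C.presheaf.map (homOfLE (inf_le_left : U ⊓ V ≤ U)).op y =
      C.presheaf.map (homOfLE (inf_le_left : U ⊓ V ≤ U)).op x

end Groth.Agent.VarietyA.Ell
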