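import Groth.Agent.VarietyA.EllDefs
import Groth.Agent.VarietyA.EllAlg2
import Mathlib.AlgebraicGeometry.Morphisms.Separated
import Mathlib.AlgebraicGeometry.Morphisms.ClosedImmersion

/-!
# Field-valued points of a curve with Weierstrass coordinates

`trip D u`: the projective coordinates of a field-valued point `u : Spec F ⟶ C`.
-/

set_option autoImplicit false
universe u
open CategoryTheory CategoryTheory.Limits AlgebraicGeometry
open WeierstrassCurve
open scoped WeierstrassCurve.Projective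

namespace Groth.Agent.VarietyA.Ell

section ev

variable {F : Type u} [Field F] {X Y : Scheme.{u}}

/-- evaluation of functions at a field-valued point -/
noncomputable def ev (v : Spec (CommRingCat.of F) ⟶ X) (U : X.Opens) (h : ⊤ ≤ v ⁻¹ᵁ U) : Γ(X, U) →+* F :=
  (Scheme.ΓSpecIso (CommRingCat.of F)).hom.hom.comp (v.appLE U ⊤ h).hom

theorem ev_apply (v : Spec (CommRingCat.of F) ⟶ X) (U : X.Opens) (h : ⊤ ≤ v ⁻¹ᵁ U) (a : Γ(X, U)) :
    ev v U h a = (Scheme.ΓSpecIso (CommRingCat.of F)).hom.hom ((v.appLE U ⊤ h).hom a) := rfl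

theorem ev_map (v : Spec (CommRingCat.of F) ⟶ X) {U U' : X.Opens} (i : U' ≤ U) (h : ⊤ ≤ v ⁻¹ᵁ U')
    (a : Γ(X, U)) : ev v U' h (X.presheaf.map (homOfLE i).op a) = ev v U (h.trans (v.preimage_mono i)) a := by
  rw [ev_apply, ev_apply, ← Scheme.Hom.map_appLE v h (homOfLE i).op]
  rfl

theorem ev_comp (v : Spec (CommRingCat.of F) ⟶ X) (c : X ⟶ Y) (U : Y.Opens) (h : ⊤ ≤ (v ≫ c) ⁻¹ᵁ U)
    (a : Γ(Y, U)) : ev (v ≫ c) U h a = ev v (c ⁻¹ᵁ U) h (c.app U a) := by
  rw [ev_apply, ev_apply, Scheme.Hom.comp_appLE]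
  rfl

theorem ev_comp_appLE (v : Spec (CommRingCat.of F) ⟶ X) (c : X ⟶ Y) (U : Y.Opens) (U' : X.Opens)
    (h : ⊤ ≤ v ⁻¹ᵁ U') (h' : U' ≤ c ⁻¹ᵁ U) (a : Γ(Y, U)) :
    ev (v ≫ c) U (h.trans (v.preimage_mono h')) a = ev v U' h (c.appLE U U' h' a) := by
  rw [ev_comp, Scheme.Hom.appLE]
  exact (ev_map v h' h _).symm

theorem le_iff_mem (v : Spec (CommRingCat.of F) ⟶ X) (U : X.Opens) :
    ⊤ ≤ v ⁻¹ᵁ U ↔ v (IsLocalRing.closedPoint F) ∈ U := by
  constructor
  · intro h
    exact h (x := IsLocalRing.closedPoint F) trivial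
  · intro h p _
    have : p = IsLocalRing.closedPoint F := Subsingleton.elim _ _
    rw [this]
    exact h

theorem mem_basicOpen_of_ev_ne_zero (v : Spec (CommRingCat.of F) ⟶ X) (U : X.Opens) (h : ⊤ ≤ v ⁻¹ᵁ U)
    (a : Γ(X, U)) : ev v U h a ≠ 0 ↔ v (IsLocalRing.closedPoint F) ∈ X.basicOpen a := by
  have e1 : (Spec (CommRingCat.of F)).basicOpen (v.appLE U ⊤ h a) = v ⁻¹ᵁ X.basicOpen a := by
    rw [Scheme.basicOpen_appLE, top_inf_eq]
  constructor
  · intro ha
    have h1 : IsUnit (v.appLE U ⊤ h a) := by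
      have h2 : IsUnit (ev v U h a) := ha.isUnit
      have h3 : v.appLE U ⊤ h a = (Scheme.ΓSpecIso (CommRingCat.of F)).inv.hom (ev v U h a) := by
        rw [ev_apply, ← CommRingCat.comp_apply, Iso.hom_inv_id]
        rfl
      rw [h3]
      exact h2.map _
    have h4 : (Spec (CommRingCat.of F)).basicOpen (v.appLE U ⊤ h a) = ⊤ := Scheme.basicOpen_of_isUnit _ h1
    rw [e1] at h4
    exact (le_iff_mem v _).1 h4.ge
  · intro h1 h0
    have h2 : v.appLE U ⊤ h a = 0 := by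
      have h3 : v.appLE U ⊤ h a = (Scheme.ΓSpecIso (CommRingCat.of F)).inv.hom (ev v U h a) := by
        rw [ev_apply, ← CommRingCat.comp_apply, Iso.hom_inv_id]
        rfl
      rw [h3, h0, map_zero]
    rw [h2, Scheme.basicOpen_zero] at e1
    have h4 := (le_iff_mem v (X.basicOpen a)).2 h1
    rw [← e1] at h4
    exact h4 (x := IsLocalRing.closedPoint F) trivial

theorem ev_eq_zero_of_germ (v : Spec (CommRingCat.of F) ⟶ X) (U : X.Opens) (h : ⊤ ≤ v ⁻¹ᵁ U)
    (a : Γ(X, U)) (x : X) (hx : x ∈ U) (hvx : v (IsLocalRing.closedPoint F) = x)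
    (ha : X.presheaf.germ U x hx a ∈ IsLocalRing.maximalIdeal (X.presheaf.stalk x)) :
    ev v U h a = 0 := by
  subst hvx
  by_contra h0
  have h1 := (mem_basicOpen_of_ev_ne_zero v U h a).1 h0
  rw [Scheme.mem_basicOpen _ _ _ hx] at h1
  exact (IsLocalRing.mem_maximalIdeal _).1 ha h1

/-- A field-valued point in an affine open is determined by the evaluation of functions. -/
theorem eq_of_ev_eq {U : X.Opens} (hU : IsAffineOpen U) (v w : Spec (CommRingCat.of F) ⟶ X)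
    (hv : ⊤ ≤ v ⁻¹ᵁ U) (hw : ⊤ ≤ w ⁻¹ᵁ U) (h : ev v U hv = ev w U hw) : v = w := by
  have hT : IsAffineOpen (⊤ : (Spec (CommRingCat.of F)).Opens) := isAffineOpen_top _
  have h1 : v.appLE U ⊤ hv = w.appLE U ⊤ hw := by
    ext a
    have := congrArg (fun φ => (Scheme.ΓSpecIso (CommRingCat.of F)).inv.hom (φ a)) h
    simp only [ev_apply] at this
    rw [← CommRingCat.comp_apply, ← CommRingCat.comp_apply] at this
    simpa using this
  have e1 := IsAffineOpen.SpecMap_appLE_fromSpec v hU hT hv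
  have e2 := IsAffineOpen.SpecMap_appLE_fromSpec w hU hT hw
  rw [h1, e2] at e1
  have hiso : IsIso hT.fromSpec := by
    rw [IsAffineOpen.fromSpec_top]
    infer_instance
  exact (cancel_epi hT.fromSpec).1 e1.symm

theorem appTop_preimage {K : Type u} [Field K] (g : Spec (CommRingCat.of F) ⟶ Spec (CommRingCat.of K)) :
    (Scheme.ΓSpecIso (CommRingCat.of K)).inv ≫ g.appTop ≫ (Scheme.ΓSpecIso (CommRingCat.of F)).hom =
      Spec.preimage g := by
  obtain ⟨φ, rfl⟩ : ∃ φ, Spec.map φ = g := ⟨_, Spec.map_preimage g⟩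
  rw [Spec.preimage_map, Scheme.ΓSpecIso_naturality, Iso.inv_hom_id_assoc]

theorem ev_sc {K : Type u} [Field K] (v : Spec (CommRingCat.of F) ⟶ X) (f : X ⟶ Spec (CommRingCat.of K))
    (U : X.Opens) (h : ⊤ ≤ v ⁻¹ᵁ U) : (ev v U h).comp (sc f U) = (Spec.preimage (v ≫ f)).hom := by
  have h1 : f.appLE ⊤ U le_top ≫ v.appLE U ⊤ h = (v ≫ f).appTop :=
    (Scheme.Hom.appLE_comp_appLE _ _ _ _ _ _ _).trans (Scheme.Hom.app_eq_appLE _).symm
  rw [← appTop_preimage, ← h1]
  rfl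

end ev

section trip

variable {K : Type u} [Field K] {C : Scheme.{u}} {f : C ⟶ Spec (CommRingCat.of K)} {pt : C} (D : WCoord f pt)
variable {F : Type u} [Field F]

open Classical in
/-- The projective coordinates of a field-valued point. -/
noncomputable def trip (v : Spec (CommRingCat.of F) ⟶ C) : Fin 3 → F :=
  if h : ⊤ ≤ v ⁻¹ᵁ D.U then ![ev v D.U h D.x, ev v D.U h D.y, 1] else ![0, 1, 0]

theorem trip_of_mem (v : Spec (CommRingCat.of F) ⟶ C) (h : ⊤ ≤ v ⁻¹ᵁ D.U) :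
    trip D v = ![ev v D.U h D.x, ev v D.U h D.y, 1] := dif_pos h

theorem trip_of_not_mem (v : Spec (CommRingCat.of F) ⟶ C) (h : ¬ ⊤ ≤ v ⁻¹ᵁ D.U) :
    trip D v = ![0, 1, 0] := dif_neg h

theorem apply_eq_pt (v : Spec (CommRingCat.of F) ⟶ C) (h : ¬ ⊤ ≤ v ⁻¹ᵁ D.U) :
    v (IsLocalRing.closedPoint F) = pt := by
  rw [le_iff_mem, D.memU, not_not] at h
  exact h

/-- relations between the coordinates at a point of `U ⊓ V` -/
theorem ev_rel (v : Spec (CommRingCat.of F) ⟶ C) (hU : ⊤ ≤ v ⁻¹ᵁ D.U) (hV : ⊤ ≤ v ⁻¹ᵁ D.V) :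
    ev v D.V hV D.w * ev v D.U hU D.y = 1 ∧
      ev v D.V hV D.z * ev v D.U hU D.y = ev v D.U hU D.x := by
  have hUV : ⊤ ≤ v ⁻¹ᵁ (D.U ⊓ D.V) := fun p hp => ⟨hU hp, hV hp⟩
  have h1 := congrArg (ev v (D.U ⊓ D.V) hUV) D.rel_w
  have h2 := congrArg (ev v (D.U ⊓ D.V) hUV) D.rel_z
  rw [map_mul, ev_map, ev_map, map_one] at h1
  rw [map_mul, ev_map, ev_map, ev_map] at h2
  exact ⟨h1, h2⟩

theorem ev_pt (v : Spec (CommRingCat.of F) ⟶ C) (hV : ⊤ ≤ v ⁻¹ᵁ D.V)
    (hv : v (IsLocalRing.closedPoint F) = pt) : ev v D.V hV D.z = 0 ∧ ev v D.V hV D.w = 0 :=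
  ⟨ev_eq_zero_of_germ v D.V hV D.z pt D.memV hv D.germ_z,
    ev_eq_zero_of_germ v D.V hV D.w pt D.memV hv D.germ_w⟩

theorem trip_equiv (v : Spec (CommRingCat.of F) ⟶ C) (hV : ⊤ ≤ v ⁻¹ᵁ D.V) :
    trip D v ≈ ![ev v D.V hV D.z, 1, ev v D.V hV D.w] := by
  by_cases hU : ⊤ ≤ v ⁻¹ᵁ D.U
  · obtain ⟨h1, h2⟩ := ev_rel D v hU hV
    have hy : ev v D.U hU D.y ≠ 0 := right_ne_zero_of_mul (by rw [h1]; exact one_ne_zero)
    refine ⟨Units.mk0 _ hy, ?_⟩
    rw [trip_of_mem D v hU]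
    funext i
    fin_cases i
    · simp [Units.smul_def, ← h2, mul_comm]
    · simp [Units.smul_def]
    · simp [Units.smul_def, ← h1, mul_comm]
  · obtain ⟨h1, h2⟩ := ev_pt D v hV (apply_eq_pt D v hU)
    rw [trip_of_not_mem D v hU, h1, h2]

/-- All solutions of the Weierstrass equation are nonsingular. -/
def NS : Prop := ∀ {F : Type u} [Field F] (s : K →+* F) (a b : F), WEq D.W s a b →
  (D.W.map s).toAffine.Nonsingular a b

theorem wEq_iff (W : WeierstrassCurve K) {B : Type u} [CommRing B] (s : K →+* B) (a b : B) :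
    WEq W s a b ↔ (W.map s).toAffine.Equation a b := by
  rw [Affine.equation_iff]
  rfl

theorem ev_WEq (v : Spec (CommRingCat.of F) ⟶ C) (hU : ⊤ ≤ v ⁻¹ᵁ D.U) :
    WEq D.W (Spec.preimage (v ≫ f)).hom (ev v D.U hU D.x) (ev v D.U hU D.y) := by
  have h1 := congrArg (ev v D.U hU) D.eqn
  rw [← ev_sc v f D.U hU]
  simpa [WEq] using h1

theorem trip_nonsingular (hns : NS D) (v : Spec (CommRingCat.of F) ⟶ C) :
    (D.W.map (Spec.preimage (v ≫ f)).hom).toProjective.Nonsingular (trip D v) := by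
  by_cases hU : ⊤ ≤ v ⁻¹ᵁ D.U
  · rw [trip_of_mem D v hU, Projective.nonsingular_some]
    exact hns _ _ _ (ev_WEq D v hU)
  · rw [trip_of_not_mem D v hU]
    exact Projective.nonsingular_zero

omit D in
theorem eq_comp_section (o : Spec (CommRingCat.of K) ⟶ C) (ho : o ≫ f = 𝟙 _) [IsSeparated f]
    (v : Spec (CommRingCat.of F) ⟶ C) (h : ∀ p, v p ∈ Set.range o) : v = (v ≫ f) ≫ o := by
  have h1 : IsClosedImmersion o := by
    have : IsClosedImmersion (o ≫ f) := by rw [ho]; infer_instance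
    exact IsClosedImmersion.of_comp o f
  have h2 : Surjective (pullback.fst v o) := by
    refine ⟨fun p => ?_⟩
    obtain ⟨k, hk⟩ := h p
    obtain ⟨z, hz, -⟩ := Scheme.Pullback.exists_preimage_pullback p k hk.symm
    exact ⟨z, hz⟩
  have h3 : IsIso (pullback.fst v o) := isIso_of_isClosedImmersion_of_surjective _
  rw [← cancel_epi (pullback.fst v o), pullback.condition, Category.assoc,
    ← Category.assoc (pullback.fst v o), pullback.condition]
  simp only [Category.assoc, reassoc_of% ho]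

theorem eq_of_trip [IsSeparated f] (o : Spec (CommRingCat.of K) ⟶ C) (ho : o ≫ f = 𝟙 _)
    (hpt : pt ∈ Set.range o) (v v' : Spec (CommRingCat.of F) ⟶ C) (hf : v ≫ f = v' ≫ f)
    (h : trip D v ≈ trip D v') : v = v' := by
  by_cases hU : ⊤ ≤ v ⁻¹ᵁ D.U
  · by_cases hU' : ⊤ ≤ v' ⁻¹ᵁ D.U
    · rw [trip_of_mem D v hU, trip_of_mem D v' hU'] at h
      obtain ⟨u, hu⟩ := h
      have h2 := congrFun hu 2
      have h0 := congrFun hu 0
      have h1 := congrFun hu 1
      simp [Units.smul_def] at h0 h1 h2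
      rw [h2, Units.val_one, one_mul] at h0 h1
      apply eq_of_ev_eq D.affU v v' hU hU'
      refine D.ext _ _ ?_ h0.symm h1.symm
      rw [ev_sc, ev_sc, hf]
    · exfalso
      rw [trip_of_mem D v hU, trip_of_not_mem D v' hU'] at h
      have := (Projective.Z_eq_zero_of_equiv h).2 rfl
      simp at this
  · by_cases hU' : ⊤ ≤ v' ⁻¹ᵁ D.U
    · exfalso
      rw [trip_of_not_mem D v hU, trip_of_mem D v' hU'] at h
      have := (Projective.Z_eq_zero_of_equiv h).1 rfl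
      simp at this
    · have e1 := apply_eq_pt D v hU
      have e2 := apply_eq_pt D v' hU'
      have k1 : ∀ p, v p ∈ Set.range o := fun p => by
        have : p = IsLocalRing.closedPoint F := Subsingleton.elim _ _
        rw [this, e1]; exact hpt
      have k2 : ∀ p, v' p ∈ Set.range o := fun p => by
        have : p = IsLocalRing.closedPoint F := Subsingleton.elim _ _
        rw [this, e2]; exact hpt
      rw [eq_comp_section o ho v k1, eq_comp_section o ho v' k2, hf]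

/-- Every solution of the Weierstrass equation gives a field-valued point. -/
theorem exists_of_WEq (t : Spec (CommRingCat.of F) ⟶ Spec (CommRingCat.of K)) (a b : F)
    (h : WEq D.W (Spec.preimage t).hom a b) : ∃ v : Spec (CommRingCat.of F) ⟶ C, v ≫ f = t ∧
      trip D v = ![a, b, 1] := by
  obtain ⟨φ, h1, h2, h3⟩ := D.univ (Spec.preimage t).hom a b h
  let v : Spec (CommRingCat.of F) ⟶ C := Spec.map (CommRingCat.ofHom φ) ≫ D.affU.fromSpec
  have hU : ⊤ ≤ v ⁻¹ᵁ D.U := by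
    rw [Scheme.Hom.comp_preimage, D.affU.fromSpec_preimage_self]
    exact le_of_eq rfl
  have hev : ev v D.U hU = φ := by
    have e1 := IsAffineOpen.SpecMap_appLE_fromSpec v D.affU (isAffineOpen_top _) hU
    have e2 : Spec.map (v.appLE D.U ⊤ hU) = (isAffineOpen_top (Spec (CommRingCat.of F))).fromSpec ≫
        Spec.map (CommRingCat.ofHom φ) := by
      rw [← cancel_mono D.affU.fromSpec, e1, Category.assoc]
    rw [IsAffineOpen.fromSpec_top, Scheme.isoSpec_Spec_inv, ← Spec.map_comp] at e2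
    have e3 := Spec.map_injective e2
    ext a
    rw [ev_apply, e3]
    change ((CommRingCat.ofHom φ ≫ (Scheme.ΓSpecIso (CommRingCat.of F)).inv) ≫
      (Scheme.ΓSpecIso (CommRingCat.of F)).hom).hom a = φ a
    rw [Category.assoc, Iso.inv_hom_id, Category.comp_id]
    rfl
  refine ⟨v, ?_, ?_⟩
  · have h4 := ev_sc v f D.U hU
    rw [hev, h1] at h4
    have h5 : Spec.preimage t = Spec.preimage (v ≫ f) := CommRingCat.hom_ext h4
    rw [← Spec.map_preimage t, h5, Spec.map_preimage]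
  · rw [trip_of_mem D v hU, hev, h2, h3]

theorem exists_point (o : Spec (CommRingCat.of K) ⟶ C) (ho : o ≫ f = 𝟙 _)
    (hpt : ∀ p, o p = pt) (t : Spec (CommRingCat.of F) ⟶ Spec (CommRingCat.of K))
    (Q : (D.W.map (Spec.preimage t).hom).toAffine.Point) : ∃ v : Spec (CommRingCat.of F) ⟶ C, v ≫ f = t ∧
      Projective.Point.toAffine (D.W.map (Spec.preimage t).hom).toProjective (trip D v) = Q := by
  rcases Q with _ | ⟨a, b, hQ⟩
  · refine ⟨t ≫ o, by rw [Category.assoc, ho, Category.comp_id], ?_⟩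
    have hU : ¬ ⊤ ≤ (t ≫ o) ⁻¹ᵁ D.U := by
      rw [le_iff_mem, D.memU, not_not, Scheme.Hom.comp_apply, hpt]
    rw [trip_of_not_mem D _ hU]
    exact Projective.Point.toAffine_zero
  · obtain ⟨v, h1, h2⟩ := exists_of_WEq D t a b ((wEq_iff _ _ _ _).2 hQ.1)
    refine ⟨v, h1, ?_⟩
    rw [h2]
    exact Projective.Point.toAffine_some ((Projective.nonsingular_some ..).2 hQ)

end trip

end Groth.Agent.VarietyA.Ell
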