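import Groth.Agent.VarietyA.EllGeo

/-!
# The chord law on field-valued points of a curve with Weierstrass coordinates
-/

set_option autoImplicit false
universe u
open CategoryTheory CategoryTheory.Limits AlgebraicGeometry
open WeierstrassCurve
open scoped WeierstrassCurve.Projective

namespace Groth.Agent.VarietyA.Ell

variable {K : Type u} [Field K] {C : Scheme.{u}} {f : C ⟶ Spec (CommRingCat.of K)} {pt : C} (D : WCoord f pt)

open Classical in
/-- `v` is minus the sum of `a` and `b`: the three field-valued points lie on a line. -/
def NegSum {F : Type u} [Field F] (s : K →+* F) (a b v : Spec (CommRingCat.of F) ⟶ C) : Prop :=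
  Projective.Point.toAffine (D.W.map s).toProjective (trip D v) =
    -(Projective.Point.toAffine (D.W.map s).toProjective (trip D a) +
      Projective.Point.toAffine (D.W.map s).toProjective (trip D b))

end Groth.Agent.VarietyA.Ell
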