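import Groth.Agent.VarietyA.EllRep
import Groth.Agent.VarietyA.EllNegSum

/-!
# The chord morphism of a Weierstrass curve near a given point
-/

set_option autoImplicit false
universe u
open CategoryTheory CategoryTheory.Limits AlgebraicGeometry
open WeierstrassCurve
open scoped WeierstrassCurve.Projective

namespace Groth.Agent.VarietyA.Ell

open Groth.Agent.VarietyA.EllAlg

theorem exists_field_point (X : Scheme.{u}) (x : X) :
    ∃ (F : Type u) (_ : Field F) (u : Spec (CommRingCat.of F) ⟶ X), u (IsLocalRing.closedPoint F) = x :=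
  ⟨X.residueField x, inferInstance, X.fromSpecResidueField x, by
    have := X.fromSpecResidueField_apply x (IsLocalRing.closedPoint (X.residueField x))
    exact this⟩

theorem evT_ne_zero_iff {F : Type u} [Field F] {N : Scheme.{u}} (u : Spec (CommRingCat.of F) ⟶ N) (a : Γ(N, ⊤)) :
    evT u a ≠ 0 ↔ u (IsLocalRing.closedPoint F) ∈ N.basicOpen a :=
  mem_basicOpen_of_ev_ne_zero u ⊤ le_top a

theorem evT_injective {F : Type u} [Field F] {N : Scheme.{u}} [IsIntegral N] (u : Spec (CommRingCat.of F) ⟶ N)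
    (hu : u (IsLocalRing.closedPoint F) = genericPoint N) : Function.Injective (evT u) := by
  rw [injective_iff_map_eq_zero]
  intro a ha
  by_contra h0
  have h1 : N.basicOpen a ≠ ⊥ := by
    intro h
    exact h0 ((basicOpen_eq_bot_iff a).1 h)
  have h2 : u (IsLocalRing.closedPoint F) ∈ N.basicOpen a := by
    rw [hu]
    obtain ⟨x, hx⟩ : (N.basicOpen a : Set N).Nonempty := by
      rw [Set.nonempty_iff_ne_empty]
      intro h
      exact h1 (TopologicalSpace.Opens.ext h)
    exact ((genericPoint_spec N).mem_open_set_iff (N.basicOpen a).isOpen).2 ⟨x, trivial, hx⟩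
  exact (evT_ne_zero_iff u a).2 h2 ha

variable {K : Type u} [Field K] {C : Scheme.{u}} {f : C ⟶ Spec (CommRingCat.of K)} {pt : C} (D : WCoord f pt)

/-- a nonsingular triple has nonzero second or third coordinate -/
theorem ne_zero_of_nonsingular {F : Type u} [Field F] (W : WeierstrassCurve.Projective F) (P : Fin 3 → F)
    (h : W.Nonsingular P) : P 2 ≠ 0 ∨ P 1 ≠ 0 := by
  by_contra h0
  push Not at h0
  exact Projective.Y_ne_zero_of_Z_eq_zero h h0.1 h0.2

/-- A triple which satisfies the equation at the generic point and is nonsingular at a given point gives a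
morphism near this point. -/
theorem chart_gen (hD : LocInf D) {N : Scheme.{u}} [IsIntegral N] (q : N ⟶ Spec (CommRingCat.of K))
    (R : Fin 3 → Γ(N, ⊤))
    (hgen : ∃ (F : Type u) (_ : Field F) (u : Spec (CommRingCat.of F) ⟶ N),
      u (IsLocalRing.closedPoint F) = genericPoint N ∧
        ((D.W.map (sc q ⊤)).map (evT u)).toProjective.Nonsingular (evT u ∘ R))
    (n : N)
    (hn : ∃ (F : Type u) (_ : Field F) (u : Spec (CommRingCat.of F) ⟶ N),
      u (IsLocalRing.closedPoint F) = n ∧
        ((D.W.map (sc q ⊤)).map (evT u)).toProjective.Nonsingular (evT u ∘ R)) :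
    ∃ (N' : Scheme.{u}) (j : N' ⟶ N) (_ : IsOpenImmersion j) (_ : n ∈ Set.range j) (m : N' ⟶ C), m ≫ f = j ≫ q ∧
      Rep D m (j.appTop ∘ ((D.W.map (sc q ⊤)).toProjective.neg R)) := by
  have hE : (D.W.map (sc q ⊤)).toProjective.Equation ((D.W.map (sc q ⊤)).toProjective.neg R) := by
    obtain ⟨F, _, u, hu, h⟩ := hgen
    apply equation_injective _ (evT u) (evT_injective u hu)
    rw [← Projective.map_neg]
    exact (Projective.nonsingular_neg h).1
  refine hom_of_triple D hD q _ hE n ?_
  obtain ⟨F, _, u, hu, h⟩ := hn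
  have h1 := Projective.nonsingular_neg h
  rw [Projective.map_neg] at h1
  have h2 := ne_zero_of_nonsingular _ _ h1
  rw [← hu]
  rcases h2 with h2 | h2
  · exact Or.inl ((evT_ne_zero_iff u _).1 h2)
  · exact Or.inr ((evT_ne_zero_iff u _).1 h2)

open Classical in
/-- The chord relation at a point from the sum relation for the triples. -/
theorem negSum_of_isSum {N N' : Scheme.{u}} (q : N ⟶ Spec (CommRingCat.of K)) (j : N' ⟶ N) (c₁ c₂ : N ⟶ C)
    (m : N' ⟶ C) (P Q R : Fin 3 → Γ(N, ⊤)) (hP : Rep D c₁ P) (hQ : Rep D c₂ Q)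
    (hR : Rep D m (j.appTop ∘ ((D.W.map (sc q ⊤)).toProjective.neg R)))
    {F : Type u} [Field F] (u : Spec (CommRingCat.of F) ⟶ N')
    (h : IsSum (D.W.map (sc q ⊤)) P Q R (evT (u ≫ j))) :
    NegSum D (Spec.preimage (u ≫ j ≫ q)).hom (u ≫ j ≫ c₁) (u ≫ j ≫ c₂) (u ≫ m) := by
  obtain ⟨h1, h2⟩ := h
  have e : (D.W.map (sc q ⊤)).map (evT (u ≫ j)) = D.W.map (Spec.preimage (u ≫ j ≫ q)).hom := by
    rw [map_W, Category.assoc]
  have e1 : trip D (u ≫ j ≫ c₁) ≈ evT (u ≫ j) ∘ P := by
    have := hP F (u ≫ j)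
    rwa [Category.assoc] at this
  have e2 : trip D (u ≫ j ≫ c₂) ≈ evT (u ≫ j) ∘ Q := by
    have := hQ F (u ≫ j)
    rwa [Category.assoc] at this
  have e3 : trip D (u ≫ m) ≈ ((D.W.map (sc q ⊤)).map (evT (u ≫ j))).toProjective.neg (evT (u ≫ j) ∘ R) := by
    have := hR F u
    rw [Projective.map_neg]
    have e4 : evT u ∘ (j.appTop ∘ (D.W.map (sc q ⊤)).toProjective.neg R) =
      evT (u ≫ j) ∘ (D.W.map (sc q ⊤)).toProjective.neg R := by
      funext i
      exact (evT_comp u j _).symm
    rw [← e4]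
    exact this
  rw [NegSum, ← e, Projective.Point.toAffine_of_equiv e1, Projective.Point.toAffine_of_equiv e2,
    Projective.Point.toAffine_of_equiv e3, Projective.Point.toAffine_neg h1, h2]

end Groth.Agent.VarietyA.Ell
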