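import Groth.Agent.VarietyA.EllGeo

/-!
# Morphisms to a curve with Weierstrass coordinates, represented by triples of functions
-/

set_option autoImplicit false
universe u
open CategoryTheory CategoryTheory.Limits AlgebraicGeometry
open WeierstrassCurve
open scoped WeierstrassCurve.Projective

namespace Groth.Agent.VarietyA.Ell

variable {K : Type u} [Field K] {C : Scheme.{u}} {f : C ⟶ Spec (CommRingCat.of K)} {pt : C} (D : WCoord f pt)

/-- evaluation of global functions -/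
noncomputable def evT {F : Type u} [Field F] {N : Scheme.{u}} (u : Spec (CommRingCat.of F) ⟶ N) :
    Γ(N, ⊤) →+* F := ev u ⊤ le_top

theorem evT_comp {F : Type u} [Field F] {N N' : Scheme.{u}} (u : Spec (CommRingCat.of F) ⟶ N') (j : N' ⟶ N)
    (a : Γ(N, ⊤)) : evT (u ≫ j) a = evT u (j.appTop a) := ev_comp u j ⊤ le_top a

theorem evT_appLE {F : Type u} [Field F] {N : Scheme.{u}} (u : Spec (CommRingCat.of F) ⟶ N) (c : N ⟶ C)
    (U : C.Opens) (h : ⊤ ≤ c ⁻¹ᵁ U) (h' : ⊤ ≤ (u ≫ c) ⁻¹ᵁ U) (a : Γ(C, U)) :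
    evT u (c.appLE U ⊤ h a) = ev (u ≫ c) U h' a :=
  (ev_comp_appLE u c U ⊤ le_top h a).symm

theorem evT_sc {F : Type u} [Field F] {N : Scheme.{u}} (u : Spec (CommRingCat.of F) ⟶ N)
    (q : N ⟶ Spec (CommRingCat.of K)) : (evT u).comp (sc q ⊤) = (Spec.preimage (u ≫ q)).hom :=
  ev_sc u q ⊤ le_top

theorem map_W (W : WeierstrassCurve K) {F : Type u} [Field F] {N : Scheme.{u}}
    (u : Spec (CommRingCat.of F) ⟶ N) (q : N ⟶ Spec (CommRingCat.of K)) :
    (W.map (sc q ⊤)).map (evT u) = W.map (Spec.preimage (u ≫ q)).hom := by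
  rw [WeierstrassCurve.map_map, evT_sc]

theorem sc_comp {N N' : Scheme.{u}} (j : N' ⟶ N) (q : N ⟶ Spec (CommRingCat.of K)) :
    (j.appTop.hom).comp (sc q ⊤) = sc (j ≫ q) ⊤ := by
  have h1 : q.appLE ⊤ ⊤ le_top ≫ j.appTop = (j ≫ q).appLE ⊤ ⊤ le_top := by
    rw [Scheme.Hom.appTop, Scheme.Hom.app_eq_appLE]
    exact Scheme.Hom.appLE_comp_appLE _ _ _ _ _ _ _
  rw [sc, sc, ← h1]
  rfl

theorem sc_injective {N : Scheme.{u}} (q q' : N ⟶ Spec (CommRingCat.of K)) (h : sc q ⊤ = sc q' ⊤) : q = q' := by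
  apply ext_of_isAffine
  have h1 : ∀ r : N ⟶ Spec (CommRingCat.of K), (Scheme.ΓSpecIso (CommRingCat.of K)).inv ≫ r.appTop =
      CommRingCat.ofHom (sc r ⊤) := by
    intro r
    rw [Scheme.Hom.appTop, Scheme.Hom.app_eq_appLE]
    rfl
  rw [← cancel_epi (Scheme.ΓSpecIso (CommRingCat.of K)).inv, h1, h1, h]

theorem appLE_sc {N : Scheme.{u}} (c : N ⟶ C) (U : C.Opens) (h : ⊤ ≤ c ⁻¹ᵁ U) :
    (c.appLE U ⊤ h).hom.comp (sc f U) = sc (c ≫ f) ⊤ := by
  have h1 : f.appLE ⊤ U le_top ≫ c.appLE U ⊤ h = (c ≫ f).appLE ⊤ ⊤ le_top :=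
    Scheme.Hom.appLE_comp_appLE _ _ _ _ _ _ _
  rw [sc, sc, ← h1]
  rfl

/-- the triple `P` of functions represents the morphism `c` at all field-valued points -/
def Rep {N : Scheme.{u}} (c : N ⟶ C) (P : Fin 3 → Γ(N, ⊤)) : Prop :=
  ∀ (F : Type u) [Field F] (u : Spec (CommRingCat.of F) ⟶ N), trip D (u ≫ c) ≈ evT u ∘ P

theorem le_comp {F : Type u} [Field F] {N : Scheme.{u}} (u : Spec (CommRingCat.of F) ⟶ N) (c : N ⟶ C)
    (U : C.Opens) (h : ⊤ ≤ c ⁻¹ᵁ U) : ⊤ ≤ (u ≫ c) ⁻¹ᵁ U := by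
  rw [Scheme.Hom.comp_preimage]
  exact fun p _ => h (x := u p) trivial

theorem rep_U {N : Scheme.{u}} (c : N ⟶ C) (h : ⊤ ≤ c ⁻¹ᵁ D.U) :
    Rep D c ![c.appLE D.U ⊤ h D.x, c.appLE D.U ⊤ h D.y, 1] := by
  intro F _ u
  rw [trip_of_mem D _ (le_comp u c D.U h)]
  have : evT u ∘ ![c.appLE D.U ⊤ h D.x, c.appLE D.U ⊤ h D.y, 1] =
      ![ev (u ≫ c) D.U (le_comp u c D.U h) D.x, ev (u ≫ c) D.U (le_comp u c D.U h) D.y, 1] := by
    funext i
    fin_cases i
    · exact evT_appLE u c D.U h _ _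
    · exact evT_appLE u c D.U h _ _
    · exact map_one _
  rw [this]

theorem rep_V {N : Scheme.{u}} (c : N ⟶ C) (h : ⊤ ≤ c ⁻¹ᵁ D.V) :
    Rep D c ![c.appLE D.V ⊤ h D.z, 1, c.appLE D.V ⊤ h D.w] := by
  intro F _ u
  have : evT u ∘ ![c.appLE D.V ⊤ h D.z, 1, c.appLE D.V ⊤ h D.w] =
      ![ev (u ≫ c) D.V (le_comp u c D.V h) D.z, 1, ev (u ≫ c) D.V (le_comp u c D.V h) D.w] := by
    funext i
    fin_cases i
    · exact evT_appLE u c D.V h _ _
    · exact map_one _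
    · exact evT_appLE u c D.V h _ _
  rw [this]
  exact trip_equiv D _ _

/-- Morphisms to the affine part. -/
theorem hom_of_WEq {N : Scheme.{u}} (q : N ⟶ Spec (CommRingCat.of K)) (a b : Γ(N, ⊤))
    (h : WEq D.W (sc q ⊤) a b) : ∃ c : N ⟶ C, c ≫ f = q ∧ Rep D c ![a, b, 1] := by
  obtain ⟨φ, h1, h2, h3⟩ := D.univ (sc q ⊤) a b h
  let c : N ⟶ C := N.toSpecΓ ≫ Spec.map (CommRingCat.ofHom φ) ≫ D.affU.fromSpec
  have hU : ⊤ ≤ c ⁻¹ᵁ D.U := by
    rw [Scheme.Hom.comp_preimage, Scheme.Hom.comp_preimage, D.affU.fromSpec_preimage_self]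
    exact le_of_eq rfl
  have hc : c.appLE D.U ⊤ hU = CommRingCat.ofHom φ := by
    have hf : (⊤ : (Spec Γ(C, D.U)).Opens) ≤ D.affU.fromSpec ⁻¹ᵁ D.U :=
      D.affU.fromSpec_preimage_self.ge
    have e1 : D.affU.fromSpec.appLE D.U ⊤ hf = (Scheme.ΓSpecIso Γ(C, D.U)).inv := by
      rw [Scheme.Hom.appLE, D.affU.fromSpec_app_self, Category.assoc, ← Functor.map_comp]
      exact (congrArg (_ ≫ ·) ((Spec Γ(C, D.U)).presheaf.map_id _)).trans (Category.comp_id _)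
    have e2 : (Spec.map (CommRingCat.ofHom φ)).appLE ⊤ ⊤ le_top = (Spec.map (CommRingCat.ofHom φ)).appTop :=
      (Scheme.Hom.app_eq_appLE _).symm
    have e3 : N.toSpecΓ.appLE ⊤ ⊤ le_top = (Scheme.ΓSpecIso Γ(N, ⊤)).hom :=
      ((Scheme.Hom.app_eq_appLE _).symm).trans (Scheme.toSpecΓ_appTop N)
    have e4 : c.appLE D.U ⊤ hU = D.affU.fromSpec.appLE D.U ⊤ hf ≫
        (Spec.map (CommRingCat.ofHom φ)).appLE ⊤ ⊤ le_top ≫ N.toSpecΓ.appLE ⊤ ⊤ le_top := by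
      rw [Scheme.Hom.appLE_comp_appLE, Scheme.Hom.appLE_comp_appLE]
      simp only [c, Category.assoc]
    rw [e4, e1, e2, e3, ← Category.assoc, ← Scheme.ΓSpecIso_inv_naturality, Category.assoc]
    exact (congrArg (CommRingCat.ofHom φ ≫ ·) (Scheme.ΓSpecIso Γ(N, ⊤)).inv_hom_id).trans (Category.comp_id _)
  refine ⟨c, ?_, ?_⟩
  · apply sc_injective
    rw [← appLE_sc c D.U hU, hc]
    exact h1
  · have h4 := rep_U D c hU
    rw [hc] at h4
    have h5 : (CommRingCat.ofHom φ) D.x = a := h2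
    have h6 : (CommRingCat.ofHom φ) D.y = b := h3
    rw [h5, h6] at h4
    exact h4

/-- The statement of the existence of morphisms near the origin (`exists_of_coords`). -/
def LocInf : Prop := ∀ (T : Scheme.{u}) [IsIntegral T] (q : T ⟶ Spec (CommRingCat.of K)) (t : T)
    (a b : Γ(T, ⊤)) (_ : WEqInf D.W (sc q ⊤) a b)
    (_ : T.presheaf.germ ⊤ t trivial a ∈ IsLocalRing.maximalIdeal (T.presheaf.stalk t))
    (_ : T.presheaf.germ ⊤ t trivial b ∈ IsLocalRing.maximalIdeal (T.presheaf.stalk t)),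
    ∃ (N : T.Opens) (_ : t ∈ N) (c : N.toScheme ⟶ C) (_ : c ≫ f = N.ι ≫ q)
      (hc : ∀ n, c n ∈ D.V), c.appLE D.V ⊤ (fun n _ => hc n) D.z = N.ι.appTop a ∧
        c.appLE D.V ⊤ (fun n _ => hc n) D.w = N.ι.appTop b

theorem comp_triple {R S : Type u} [CommRing R] [CommRing S] (φ : R →+* S) (a b c : R) :
    φ ∘ ![a, b, c] = ![φ a, φ b, φ c] := by
  funext i
  fin_cases i <;> rfl

/-- Morphisms near the origin. -/
theorem hom_of_WEqInf (hD : LocInf D) {N : Scheme.{u}} [IsIntegral N] (q : N ⟶ Spec (CommRingCat.of K))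
    (a b : Γ(N, ⊤)) (h : WEqInf D.W (sc q ⊤) a b) (n : N)
    (ha : N.presheaf.germ ⊤ n trivial a ∈ IsLocalRing.maximalIdeal (N.presheaf.stalk n))
    (hb : N.presheaf.germ ⊤ n trivial b ∈ IsLocalRing.maximalIdeal (N.presheaf.stalk n)) :
    ∃ (N' : N.Opens) (_ : n ∈ N') (c : N'.toScheme ⟶ C), c ≫ f = N'.ι ≫ q ∧
      Rep D c ![N'.ι.appTop a, 1, N'.ι.appTop b] := by
  obtain ⟨N', hn, c, hc, hV, h1, h2⟩ := hD N q n a b h ha hb
  refine ⟨N', hn, c, hc, ?_⟩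
  have h3 := rep_V D c (fun n _ => hV n)
  rw [h1, h2] at h3
  exact h3

/-- Rescaling a triple by a unit. -/
theorem Rep.smul {N : Scheme.{u}} {c : N ⟶ C} {P Q : Fin 3 → Γ(N, ⊤)} (h : Rep D c P) (v : Γ(N, ⊤)) (hv : IsUnit v)
    (hQ : ∀ i, Q i = v * P i) : Rep D c Q := by
  intro F _ u
  refine Setoid.trans (h F u) ?_
  have hu : IsUnit (evT u v) := hv.map _
  refine ⟨hu.unit⁻¹, ?_⟩
  funext i
  have : evT u (Q i) = evT u v * evT u (P i) := by rw [hQ, map_mul]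
  simp only [Pi.smul_apply, Function.comp_apply, Units.smul_def]
  rw [this, smul_eq_mul, ← mul_assoc, hu.val_inv_mul, one_mul]

theorem Rep.comp {N N' : Scheme.{u}} {c : N ⟶ C} {P : Fin 3 → Γ(N, ⊤)} (h : Rep D c P) (j : N' ⟶ N) :
    Rep D (j ≫ c) (j.appTop ∘ P) := by
  intro F _ u
  have h1 := h F (u ≫ j)
  rw [Category.assoc] at h1
  refine Setoid.trans h1 (le_of_eq_equiv ?_)
  funext i
  exact evT_comp u j (P i)
where
  le_of_eq_equiv {F : Type u} [Field F] {X Y : Fin 3 → F} (h : X = Y) : X ≈ Y := h ▸ Setoid.refl X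

theorem isUnit_of_basicOpen {X : Scheme.{u}} (a : Γ(X, ⊤)) (h : X.basicOpen a = ⊤) : IsUnit a := by
  apply RingedSpace.isUnit_of_isUnit_germ X.toLocallyRingedSpace.toRingedSpace ⊤ a
  intro x hx
  have h1 : x ∈ X.basicOpen a := by rw [h]; trivial
  rw [Scheme.mem_basicOpen _ _ _ hx] at h1
  exact h1

theorem isUnit_appTop_basicOpen {X : Scheme.{u}} (a : Γ(X, ⊤)) : IsUnit ((X.basicOpen a).ι.appTop a) := by
  apply isUnit_of_basicOpen
  rw [← Scheme.preimage_basicOpen_top, Scheme.Opens.ι_preimage_self]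

theorem equation_map {R S : Type u} [CommRing R] [CommRing S] (W : WeierstrassCurve R) (φ : R →+* S)
    (P : Fin 3 → R) (h : W.toProjective.Equation P) : (W.map φ).toProjective.Equation (φ ∘ P) := by
  rw [Projective.equation_iff] at h ⊢
  have := congrArg φ h
  simpa using this

theorem equation_injective {R S : Type u} [CommRing R] [CommRing S] (W : WeierstrassCurve R) (φ : R →+* S)
    (hφ : Function.Injective φ) (P : Fin 3 → R) (h : (W.map φ).toProjective.Equation (φ ∘ P)) :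
    W.toProjective.Equation P := by
  rw [Projective.equation_iff] at h ⊢
  apply hφ
  simpa using h

theorem germ_mem_maximalIdeal {X : Scheme.{u}} (a : Γ(X, ⊤)) (x : X) (h : x ∉ X.basicOpen a) :
    X.presheaf.germ ⊤ x trivial a ∈ IsLocalRing.maximalIdeal (X.presheaf.stalk x) := by
  rw [IsLocalRing.mem_maximalIdeal, mem_nonunits_iff]
  intro h1
  apply h
  rw [Scheme.mem_basicOpen _ _ _ (show x ∈ (⊤ : X.Opens) from trivial)]
  exact h1

/-- A triple of functions satisfying the projective Weierstrass equation and not vanishing at a point comes from a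
morphism near this point. -/
theorem hom_of_triple (hD : LocInf D) {N : Scheme.{u}} [IsIntegral N] (q : N ⟶ Spec (CommRingCat.of K))
    (P : Fin 3 → Γ(N, ⊤)) (hP : (D.W.map (sc q ⊤)).toProjective.Equation P) (n : N)
    (hn : n ∈ N.basicOpen (P 2) ∨ n ∈ N.basicOpen (P 1)) :
    ∃ (N' : Scheme.{u}) (j : N' ⟶ N) (_ : IsOpenImmersion j) (_ : n ∈ Set.range j) (c : N' ⟶ C), c ≫ f = j ≫ q ∧
      Rep D c (j.appTop ∘ P) := by
  by_cases h2 : n ∈ N.basicOpen (P 2)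
  · let N' := N.basicOpen (P 2)
    let p : Fin 3 → Γ(N', ⊤) := N'.ι.appTop ∘ P
    have hu : IsUnit (p 2) := isUnit_appTop_basicOpen (P 2)
    obtain ⟨v, hv⟩ := hu
    have hp : (D.W.map (sc (N'.ι ≫ q) ⊤)).toProjective.Equation p := by
      rw [← sc_comp, ← WeierstrassCurve.map_map]
      exact equation_map _ _ _ hP
    rw [Projective.equation_iff] at hp
    have hv' : p 2 * ↑v⁻¹ = 1 := by rw [← hv, v.mul_inv]
    have hW : WEq D.W (sc (N'.ι ≫ q) ⊤) (p 0 * ↑v⁻¹) (p 1 * ↑v⁻¹) := by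
      simp only [WEq]
      simp only [WeierstrassCurve.map_a₁, WeierstrassCurve.map_a₂, WeierstrassCurve.map_a₃,
        WeierstrassCurve.map_a₄, WeierstrassCurve.map_a₆] at hp
      set s := sc (N'.ι ≫ q) ⊤
      set i : Γ(N', ⊤) := ↑v⁻¹
      have e1 : p 1 ^ 2 * p 2 * i ^ 3 = (p 1 * i) ^ 2 := by linear_combination (p 1 * i) ^ 2 * hv'
      have e2 : s D.W.a₁ * p 0 * p 1 * p 2 * i ^ 3 = s D.W.a₁ * (p 0 * i) * (p 1 * i) := by
        linear_combination s D.W.a₁ * (p 0 * i) * (p 1 * i) * hv'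
      have e3 : s D.W.a₃ * p 1 * p 2 ^ 2 * i ^ 3 = s D.W.a₃ * (p 1 * i) := by
        linear_combination s D.W.a₃ * (p 1 * i) * (p 2 * i + 1) * hv'
      have e4 : s D.W.a₂ * p 0 ^ 2 * p 2 * i ^ 3 = s D.W.a₂ * (p 0 * i) ^ 2 := by
        linear_combination s D.W.a₂ * (p 0 * i) ^ 2 * hv'
      have e5 : s D.W.a₄ * p 0 * p 2 ^ 2 * i ^ 3 = s D.W.a₄ * (p 0 * i) := by
        linear_combination s D.W.a₄ * (p 0 * i) * (p 2 * i + 1) * hv'
      have e6 : s D.W.a₆ * p 2 ^ 3 * i ^ 3 = s D.W.a₆ := by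
        linear_combination s D.W.a₆ * ((p 2 * i) ^ 2 + p 2 * i + 1) * hv'
      linear_combination i ^ 3 * hp - e1 - e2 - e3 + e4 + e5 + e6
    obtain ⟨c, hc1, hc2⟩ := hom_of_WEq D (N'.ι ≫ q) _ _ hW
    refine ⟨N', N'.ι, inferInstance, ?_, c, hc1, ?_⟩
    · rw [Scheme.Opens.range_ι]; exact h2
    · refine Rep.smul D hc2 (p 2) ⟨v, hv⟩ (fun i => ?_)
      fin_cases i
      · change p 0 = p 2 * (p 0 * ↑v⁻¹)
        linear_combination - p 0 * hv'
      · change p 1 = p 2 * (p 1 * ↑v⁻¹)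
        linear_combination - p 1 * hv'
      · change p 2 = p 2 * 1
        rw [mul_one]
  · have h1 := hn.resolve_left h2
    let N₁ := N.basicOpen (P 1)
    let p : Fin 3 → Γ(N₁, ⊤) := N₁.ι.appTop ∘ P
    have hu : IsUnit (p 1) := isUnit_appTop_basicOpen (P 1)
    obtain ⟨v, hv⟩ := hu
    have hp : (D.W.map (sc (N₁.ι ≫ q) ⊤)).toProjective.Equation p := by
      rw [← sc_comp, ← WeierstrassCurve.map_map]
      exact equation_map _ _ _ hP
    rw [Projective.equation_iff] at hp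
    have hv' : p 1 * ↑v⁻¹ = 1 := by rw [← hv, v.mul_inv]
    have hW : WEqInf D.W (sc (N₁.ι ≫ q) ⊤) (p 0 * ↑v⁻¹) (p 2 * ↑v⁻¹) := by
      simp only [WEqInf]
      simp only [WeierstrassCurve.map_a₁, WeierstrassCurve.map_a₂, WeierstrassCurve.map_a₃,
        WeierstrassCurve.map_a₄, WeierstrassCurve.map_a₆] at hp
      set s := sc (N₁.ι ≫ q) ⊤
      set i : Γ(N₁, ⊤) := ↑v⁻¹
      have e1 : p 1 ^ 2 * p 2 * i ^ 3 = p 2 * i := by
        linear_combination (p 2 * i) * (p 1 * i + 1) * hv'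
      have e2 : s D.W.a₁ * p 0 * p 1 * p 2 * i ^ 3 = s D.W.a₁ * (p 0 * i) * (p 2 * i) := by
        linear_combination s D.W.a₁ * (p 0 * i) * (p 2 * i) * hv'
      have e3 : s D.W.a₃ * p 1 * p 2 ^ 2 * i ^ 3 = s D.W.a₃ * (p 2 * i) ^ 2 := by
        linear_combination s D.W.a₃ * (p 2 * i) ^ 2 * hv'
      linear_combination i ^ 3 * hp - e1 - e2 - e3
    obtain ⟨n', hn'⟩ : ∃ n' : N₁.toScheme, N₁.ι n' = n := by
      have : n ∈ Set.range N₁.ι := by rw [Scheme.Opens.range_ι]; exact h1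
      exact this
    have hne : Nonempty N₁.toScheme := ⟨n'⟩
    have hint : IsIntegral N₁.toScheme := isIntegral_of_isOpenImmersion N₁.ι
    have hgb : N₁.toScheme.presheaf.germ ⊤ n' trivial (p 2 * ↑v⁻¹) ∈
        IsLocalRing.maximalIdeal (N₁.toScheme.presheaf.stalk n') := by
      rw [map_mul]
      apply Ideal.mul_mem_right
      apply germ_mem_maximalIdeal
      intro h3
      apply h2
      have h4 : n' ∈ N₁.ι ⁻¹ᵁ N.basicOpen (P 2) := by
        rw [Scheme.preimage_basicOpen_top]; exact h3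
      rw [← hn']
      exact h4
    have hga : N₁.toScheme.presheaf.germ ⊤ n' trivial (p 0 * ↑v⁻¹) ∈
        IsLocalRing.maximalIdeal (N₁.toScheme.presheaf.stalk n') := by
      have h5 := congrArg (N₁.toScheme.presheaf.germ ⊤ n' trivial) hW
      simp only [map_add, map_mul, map_pow] at h5
      rw [map_mul] at hgb ⊢
      set ga := N₁.toScheme.presheaf.germ ⊤ n' trivial (p 0) * N₁.toScheme.presheaf.germ ⊤ n' trivial (↑v⁻¹)
      set gb := N₁.toScheme.presheaf.germ ⊤ n' trivial (p 2) * N₁.toScheme.presheaf.germ ⊤ n' trivial (↑v⁻¹)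
      apply (IsLocalRing.maximalIdeal.isMaximal (N₁.toScheme.presheaf.stalk n')).isPrime.mem_of_pow_mem 3
      have h6 : ga ^ 3 = gb * (1 + N₁.toScheme.presheaf.germ ⊤ n' trivial (sc (N₁.ι ≫ q) ⊤ D.W.a₁) * ga +
          N₁.toScheme.presheaf.germ ⊤ n' trivial (sc (N₁.ι ≫ q) ⊤ D.W.a₃) * gb -
          N₁.toScheme.presheaf.germ ⊤ n' trivial (sc (N₁.ι ≫ q) ⊤ D.W.a₂) * ga ^ 2 -
          N₁.toScheme.presheaf.germ ⊤ n' trivial (sc (N₁.ι ≫ q) ⊤ D.W.a₄) * ga * gb -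
          N₁.toScheme.presheaf.germ ⊤ n' trivial (sc (N₁.ι ≫ q) ⊤ D.W.a₆) * gb ^ 2) := by
        linear_combination - h5
      rw [h6]
      exact Ideal.mul_mem_right _ _ hgb
    obtain ⟨N₂, hn₂, c, hc1, hc2⟩ := hom_of_WEqInf D hD (N₁.ι ≫ q) _ _ hW n' hga hgb
    refine ⟨N₂, N₂.ι ≫ N₁.ι, inferInstance, ?_, c, ?_, ?_⟩
    · refine ⟨⟨n', hn₂⟩, ?_⟩
      rw [Scheme.Hom.comp_apply]
      exact hn'
    · rw [hc1, Category.assoc]
    · have e0 : ((N₂.ι ≫ N₁.ι).appTop ∘ P) = N₂.ι.appTop ∘ p := by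
        funext i
        simp [p]
      rw [e0]
      refine Rep.smul D hc2 (N₂.ι.appTop (p 1)) (IsUnit.map (f := N₂.ι.appTop.hom) ⟨v, hv⟩) (fun i => ?_)
      have hv'' : N₂.ι.appTop (p 1) * N₂.ι.appTop (↑v⁻¹ : Γ(N₁, ⊤)) = 1 := by
        rw [← map_mul, hv', map_one]
      fin_cases i
      · change N₂.ι.appTop (p 0) = N₂.ι.appTop (p 1) * N₂.ι.appTop (p 0 * ↑v⁻¹)
        rw [map_mul]
        linear_combination - N₂.ι.appTop (p 0) * hv''
      · change N₂.ι.appTop (p 1) = N₂.ι.appTop (p 1) * 1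
        rw [mul_one]
      · change N₂.ι.appTop (p 2) = N₂.ι.appTop (p 1) * N₂.ι.appTop (p 2 * ↑v⁻¹)
        rw [map_mul]
        linear_combination - N₂.ι.appTop (p 2) * hv''

end Groth.Agent.VarietyA.Ell
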