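import Groth.Agent.Flat2E.EtaleResField
import Groth.Agent.Flat2E.SpreadScheme
import Mathlib.AlgebraicGeometry.Morphisms.Etale
import Mathlib.AlgebraicGeometry.ResidueField

/-!
# Étale neighbourhoods with prescribed finite separable residue field extension (schemes)

`exists_etale_resField`: for a point `s` of a scheme `S` and a finite separable extension `L` of `κ(s)` there are an
affine étale `S`-scheme `V` and a point `v` of `V` over `s` whose residue field is `L` over `κ(s)`.
-/

set_option autoImplicit false
universe u

open AlgebraicGeometry CategoryTheory Limits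

namespace Groth.Agent.VarietyA.EtaleFieldExt

open Groth.Agent.Flat2E

/-- Elements of the residue field at a point of an affine open are fractions of functions. -/
theorem evaluation_frac {S : Scheme.{u}} {U : S.Opens} (hU : IsAffineOpen U) (s : S) (hs : s ∈ U)
    (x : S.residueField s) :
    ∃ b t : Γ(S, U), S.evaluation U s hs t ≠ 0 ∧ S.evaluation U s hs t * x = S.evaluation U s hs b := by
  obtain ⟨y, rfl⟩ := S.residue_surjective s x
  let _ : Algebra Γ(S, U) (S.presheaf.stalk s) := TopCat.Presheaf.algebra_section_stalk S.presheaf ⟨s, hs⟩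
  have hloc : IsLocalization.AtPrime (S.presheaf.stalk s) (hU.primeIdealOf ⟨s, hs⟩).asIdeal :=
    hU.isLocalization_stalk ⟨s, hs⟩
  obtain ⟨⟨b, t⟩, hbt⟩ := IsLocalization.surj (hU.primeIdealOf ⟨s, hs⟩).asIdeal.primeCompl
    (S := S.presheaf.stalk s) y
  have hbt' : y * (S.presheaf.germ U s hs).hom t.1 = (S.presheaf.germ U s hs).hom b := hbt
  refine ⟨b, t.1, ?_, ?_⟩
  · have hu : IsUnit ((S.presheaf.germ U s hs).hom t.1) :=
      IsLocalization.map_units (S.presheaf.stalk s) t
    intro h0
    have h1 : IsUnit ((S.residue s).hom ((S.presheaf.germ U s hs).hom t.1)) := hu.map _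
    exact h1.ne_zero h0
  · change (S.residue s).hom ((S.presheaf.germ U s hs).hom t.1) * (S.residue s).hom y =
      (S.residue s).hom ((S.presheaf.germ U s hs).hom b)
    rw [← hbt', map_mul, mul_comm]

/-- For a point `s` of a scheme and a finite separable extension `L` of `κ(s)` there are an affine étale `S`-scheme
and a point over `s` realizing `L` as residue field. -/
theorem exists_etale_resField {S : Scheme.{u}} (s : S) (L : Type u) [Field L] [Algebra (S.residueField s) L]
    [FiniteDimensional (S.residueField s) L] [Algebra.IsSeparable (S.residueField s) L] :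
    ∃ (V : Scheme.{u}) (g : V ⟶ S) (v : V), IsAffine V ∧ Etale g ∧
      ∃ e : Spec (V.residueField v) ≅ Spec (CommRingCat.of L),
        e.hom ≫ Spec.map (CommRingCat.ofHom (algebraMap (S.residueField s) L)) ≫ S.fromSpecResidueField s =
          V.fromSpecResidueField v ≫ g := by
  obtain ⟨_, ⟨U, hU, rfl⟩, hs, -⟩ :=
    S.isBasis_affineOpens.exists_subset_of_mem_open (Set.mem_univ s) isOpen_univ
  have hU : IsAffineOpen U := hU
  have hs : s ∈ U := hs
  let R : Type u := Γ(S, U)
  let ev : R →+* S.residueField s := (S.evaluation U s hs).hom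
  let p : Ideal R := RingHom.ker ev
  have hp : p.IsPrime := RingHom.ker_isPrime ev
  let σ : p.ResidueField →+* S.residueField s := SpreadScheme.resMap (k' := S.residueField s) ev
  have hσ : Function.Bijective σ := SpreadScheme.resMap_bijective (k' := S.residueField s) ev (by
    intro x
    exact evaluation_frac hU s hs x)
  have hσc : σ.comp (algebraMap R p.ResidueField) = ev := SpreadScheme.resMap_comp ev
  let σe : p.ResidueField ≃+* S.residueField s := RingEquiv.ofBijective σ hσ
  let _ : Algebra p.ResidueField L := ((algebraMap (S.residueField s) L).comp σ).toAlgebra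
  have hfin2 : Module.Finite p.ResidueField L :=
    Module.Finite.of_equiv_equiv (A₁ := S.residueField s) (B₁ := L) (A₂ := p.ResidueField) (B₂ := L)
      σe.symm (RingEquiv.refl L) (by
        ext x
        obtain ⟨y, rfl⟩ := σe.surjective x
        exact congrArg (fun z => algebraMap (S.residueField s) L (σ z)) (σe.symm_apply_apply y))
  have hsep2 : Algebra.IsSeparable p.ResidueField L :=
    Algebra.IsSeparable.of_equiv_equiv (A₁ := S.residueField s) (B₁ := L) (A₂ := p.ResidueField) (B₂ := L)
      σe.symm (RingEquiv.refl L) (by
        ext x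
        obtain ⟨y, rfl⟩ := σe.surjective x
        exact congrArg (fun z => algebraMap (S.residueField s) L (σ z)) (σe.symm_apply_apply y))
  obtain ⟨R', _, _, _, P, _, _, e₀, he₀⟩ := EtaleResField.exists_etale_residueField_equiv p L
  let φ : R' →+* L := (e₀.symm : P.ResidueField →+* L).comp (algebraMap R' P.ResidueField)
  obtain ⟨e, he⟩ := SpreadScheme.exists_iso φ (by
    intro x
    obtain ⟨b, t, ht, hbt⟩ : ∃ b t : R', algebraMap R' P.ResidueField t ≠ 0 ∧
        algebraMap R' P.ResidueField t * e₀ x = algebraMap R' P.ResidueField b := by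
      obtain ⟨a, t, ht, hat⟩ := IsFractionRing.div_surjective (A := R' ⧸ P) (e₀ x)
      obtain ⟨a, rfl⟩ := Ideal.Quotient.mk_surjective a
      obtain ⟨t, rfl⟩ := Ideal.Quotient.mk_surjective t
      have h0 : algebraMap (R' ⧸ P) P.ResidueField (Ideal.Quotient.mk P t) ≠ 0 :=
        IsFractionRing.to_map_ne_zero_of_mem_nonZeroDivisors ht
      refine ⟨a, t, ?_, ?_⟩
      · simpa only [Ideal.algebraMap_quotient_residueField_mk] using h0
      · rw [← hat, Ideal.algebraMap_quotient_residueField_mk, Ideal.algebraMap_quotient_residueField_mk]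
        rw [Ideal.algebraMap_quotient_residueField_mk] at h0
        field_simp
    refine ⟨b, t, ?_, ?_⟩
    · intro h0
      apply ht
      have : e₀.symm (algebraMap R' P.ResidueField t) = 0 := h0
      simpa using this
    · have := congrArg e₀.symm hbt
      rw [map_mul, e₀.symm_apply_apply] at this
      exact this)
  refine ⟨Spec (CommRingCat.of R'), Spec.map (CommRingCat.ofHom (algebraMap R R')) ≫ hU.fromSpec,
    SpreadScheme.pt φ, inferInstance, ?_, e, ?_⟩
  · have : Etale (Spec.map (CommRingCat.ofHom (algebraMap R R'))) := by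
      rw [HasRingHomProperty.Spec_iff (P := @Etale)]
      exact RingHom.etale_algebraMap.mpr inferInstance
    infer_instance
  · rw [← SpreadScheme.fromSpecResidueField_eq hU s hs, ← he]
    simp only [Category.assoc, ← Spec.map_comp_assoc]
    congr 3
    ext r
    change algebraMap (S.residueField s) L (ev r) = e₀.symm (algebraMap R' P.ResidueField (algebraMap R R' r))
    rw [RingEquiv.eq_symm_apply, ← hσc]
    refine (he₀ (algebraMap R p.ResidueField r)).trans ?_
    rw [AlgHom.commutes]
    exact IsScalarTower.algebraMap_apply R R' P.ResidueField r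

end Groth.Agent.VarietyA.EtaleFieldExt
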