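import Groth.Agent.Models2.AmpleLim
import Groth.Agent.Picfga.LineCocycle
import Groth.Agent.VarietyA.GenCocycleIso

/-!
# Invertible modules on limits of schemes (Stacks 0B8W)

Let `X = lim X_j` be a cofiltered limit of qcqs schemes with affine transition maps.  Every
invertible module on `X` is the pullback of an invertible module on some `X_j`, and two invertible
modules on `X_i` with isomorphic pullbacks to `X` have isomorphic pullbacks to some `X_j`.
-/

set_option autoImplicit false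

universe u v

open CategoryTheory Limits AlgebraicGeometry TopologicalSpace
open Groth.Agent.CohqB.AmpCocycle
open Groth.Agent.Models2.AmpleLim

namespace Groth.Agent.VarietyA.PicLimit

section Cocycles

variable {X : Scheme.{u}}

/-- An invertible module from a cocycle. -/
theorem exists_triv_of_coc {ι : Type u} (C : Coc X ι) :
    ∃ L : X.Modules, PicF.IsInvertible L ∧ Nonempty (Triv L C) := by
  obtain ⟨L, e, he, hc⟩ := Groth.Agent.Picfga.LineCocycle.exists_of_cocycle C.W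
    (fun i j => res (le_of_eq (inf_comm _ _)) (C.u j i)) (fun i => by
      rw [C.u_self, map_one]) (by
      intro i j k T hi hj hk
      have h := C.cocycle k j i T hk hj hi
      rw [← res_eq_ores, ← res_eq_ores, ← res_eq_ores, res_res, res_res, res_res, ← h, mul_comm])
  have T : Triv L C := ⟨e, he, fun i j => by
    have := congrArg (Groth.Agent.Fdesc.LocGen.res L (le_of_eq (inf_comm (C.W i) (C.W j)))) (hc j i)
    rw [Groth.Agent.Fdesc.LocGen.res_res, Groth.Agent.Fdesc.LocGen.res_smul,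
      Groth.Agent.Fdesc.LocGen.res_res, ← res_eq_ores, res_res, res_self] at this
    exact this⟩
  exact ⟨L, T.isInvertible, ⟨T⟩⟩

/-- Two modules with the same cocycle are isomorphic. -/
theorem nonempty_iso_of_triv {ι : Type*} {L L' : X.Modules} {C C' : Coc X ι} (T : Triv L C)
    (T' : Triv L' C') (hW : ∀ i, C'.W i ≤ C.W i)
    (hu : ∀ i j, res (inf_le_inf (hW i) (hW j)) (C.u i j) = C'.u i j) : Nonempty (L ≅ L') := by
  obtain ⟨φ, -⟩ := Groth.Agent.VarietyA.GenCocycleIso.exists_iso (U := C'.W)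
    (e := fun i => Groth.Agent.Fdesc.LocGen.res L (hW i) (T.e i)) (f := T'.e)
    (Triv.iSup_W C') (fun i => (T.gen i).res (hW i)) T'.gen (fun i j => by
      refine ⟨C'.t j i (C'.W i ⊓ C'.W j) inf_le_right inf_le_left, ?_, ?_⟩
      · rw [Groth.Agent.Fdesc.LocGen.res_res, Groth.Agent.Fdesc.LocGen.res_res,
          T.compat' j i (C'.W i ⊓ C'.W j) (inf_le_right.trans (hW j)) (inf_le_left.trans (hW i))]
        congr 1
        unfold Coc.t
        rw [← hu, res_res]
      · exact T'.compat' j i _ _ _)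
  exact ⟨φ⟩

/-- A module with a cocycle which differs from `C` by a coboundary is isomorphic to a module with
cocycle `C`. -/
theorem nonempty_iso_of_units {ι : Type*} {L L' : X.Modules} {C C' : Coc X ι} (T : Triv L C)
    (T' : Triv L' C') (hW : ∀ i, C.W i ≤ C'.W i) (t : ∀ i, Γ(X, C.W i)) (ht : ∀ i, IsUnit (t i))
    (h : ∀ i j, res inf_le_right (t j) * res (inf_le_inf (hW i) (hW j)) (C'.u i j) =
      C.u i j * res inf_le_left (t i)) : Nonempty (L ≅ L') := by
  refine nonempty_iso_of_triv T (T' := ⟨fun i => t i • Groth.Agent.Fdesc.LocGen.res L' (hW i) (T'.e i),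
    fun i => ((T'.gen i).res (hW i)).unit_smul (ht i), fun i j => ?_⟩) (fun i => le_rfl)
    (fun i j => res_self _ _)
  rw [Groth.Agent.Fdesc.LocGen.res_smul, Groth.Agent.Fdesc.LocGen.res_smul,
    Groth.Agent.Fdesc.LocGen.res_res, Groth.Agent.Fdesc.LocGen.res_res,
    T'.compat' i j (C.W i ⊓ C.W j) (inf_le_left.trans (hW i)) (inf_le_right.trans (hW j)),
    smul_smul, smul_smul, ← res_eq_ores, ← res_eq_ores, ← h i j]
  rfl

/-- Conversely, isomorphic modules have cohomologous cocycles. -/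
theorem exists_units_of_iso {ι : Type*} {L L' : X.Modules} {C C' : Coc X ι} (T : Triv L C)
    (T' : Triv L' C') (hW : ∀ i, C.W i ≤ C'.W i) (φ : L ≅ L') :
    ∃ t : ∀ i, Γ(X, C.W i), (∀ i, IsUnit (t i)) ∧
      ∀ i j, res inf_le_right (t j) * res (inf_le_inf (hW i) (hW j)) (C'.u i j) =
        C.u i j * res inf_le_left (t i) := by
  choose t ht ht' using fun i => ((T'.gen i).res (hW i)).exists_unit ((T.ofIso φ).gen i)
  refine ⟨t, ht, fun i j => ?_⟩
  apply ((T'.gen i).res (inf_le_left.trans (hW i) : C.W i ⊓ C.W j ≤ C'.W i)).ext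
  have h1 := (T.ofIso φ).compat i j
  rw [ht' i, ht' j, Groth.Agent.Fdesc.LocGen.res_smul, Groth.Agent.Fdesc.LocGen.res_smul,
    Groth.Agent.Fdesc.LocGen.res_res, Groth.Agent.Fdesc.LocGen.res_res,
    T'.compat' i j (C.W i ⊓ C.W j) (inf_le_left.trans (hW i)) (inf_le_right.trans (hW j)),
    smul_smul, smul_smul, ← res_eq_ores, ← res_eq_ores] at h1
  exact h1

end Cocycles

section

variable {I : Type u} [Category.{u} I] (D : I ⥤ Scheme.{u}) (c : Cone D)
variable [IsCofiltered I] (hc : IsLimit c) [∀ {i j} (f : i ⟶ j), IsAffineHom (D.map f)]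

set_option backward.defeqAttrib.useBackward true in
set_option backward.isDefEq.respectTransparency false in
open Scheme.Opens in
include hc in
/-- Functions on the preimage of a quasi-compact open of a stage come from a further stage. -/
theorem exists_pl_eq_of_isCompact {i : I} [∀ j, QuasiSeparatedSpace (D.obj j)] (U : (D.obj i).Opens)
    (hU : IsCompact (U : Set (D.obj i))) (s : Γ(c.pt, c.π.app i ⁻¹ᵁ U)) :
    ∃ (j : I) (a : j ⟶ i) (t : Γ(D.obj j, D.map a ⁻¹ᵁ U)),
      pl (c.π.app j) (D.map a ⁻¹ᵁ U) (c.π.app i ⁻¹ᵁ U) (π_preimage D c a U).ge t = s := by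
  have (j : Over i) : CompactSpace ((opensDiagram D i U).obj j) :=
    isCompact_iff_compactSpace.mp (QuasiCompact.isCompact_preimage _ U.2 hU)
  have (j : Over i) : QuasiSeparatedSpace ((opensDiagram D i U).obj j) :=
    (isQuasiSeparated_iff_quasiSeparatedSpace _ (D.map _ ⁻¹ᵁ _).2).mp (.of_quasiSeparatedSpace _)
  obtain ⟨j, t, ht⟩ := exists_appTop_π_eq_of_isLimit _ _ (isLimitOpensCone D c hc i U)
    ((c.π.app i ⁻¹ᵁ U).topIso.inv s)
  obtain ⟨t, rfl⟩ := (D.map j.hom ⁻¹ᵁ U).topIso.symm.commRingCatIsoToRingEquiv.surjective t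
  have h : c.π.app j.left ⁻¹ᵁ D.map j.hom ⁻¹ᵁ U = c.π.app i ⁻¹ᵁ U := congr($(c.w j.hom) ⁻¹ᵁ U)
  have : s = (c.π.app j.left).appLE (D.map j.hom ⁻¹ᵁ U) (c.π.app i ⁻¹ᵁ U) h.ge t := by
    convert!
      show s = ((topIso _).inv ≫ ((opensCone D c i U).π.app j).appTop ≫ (topIso _).hom) t from
        (c.π.app i ⁻¹ᵁ U).topIso.commRingCatIsoToRingEquiv.symm_apply_eq.mp ht using 3
    simp [Scheme.Hom.app_eq_appLE, Scheme.Hom.resLE_appLE]
  exact ⟨j.left, j.hom, t, this.symm⟩

include hc in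
/-- Finitely many equalities of functions on quasi-compact opens of a stage which hold on the limit
hold at a further stage. -/
theorem exists_pl_eq_pl_finite {κ : Type*} [Finite κ] {i : I} (U : κ → (D.obj i).Opens)
    (hU : ∀ m, IsCompact (U m : Set (D.obj i))) (s t : ∀ m, Γ(D.obj i, U m))
    (h : ∀ m, pl (c.π.app i) (U m) (c.π.app i ⁻¹ᵁ U m) le_rfl (s m) =
      pl (c.π.app i) (U m) (c.π.app i ⁻¹ᵁ U m) le_rfl (t m)) :
    ∃ (j : I) (a : j ⟶ i), ∀ m, pl (D.map a) (U m) (D.map a ⁻¹ᵁ U m) le_rfl (s m) =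
      pl (D.map a) (U m) (D.map a ⁻¹ᵁ U m) le_rfl (t m) := by
  choose j a ha using fun m => exists_pl_eq_pl D c hc (U m) (hU m) (s m) (t m) (h m)
  obtain ⟨k, p, b, hb⟩ := exists_common j a
  refine ⟨k, p, fun m => ?_⟩
  have h1 := congrArg (pl (D.map (b m)) (D.map (a m) ⁻¹ᵁ U m) (D.map p ⁻¹ᵁ U m)
    (le_of_eq (by rw [← hb m, D.map_comp]; rfl))) (ha m)
  rw [pl_pl, pl_pl] at h1
  have h2 : D.map (b m) ≫ D.map (a m) = D.map p := by rw [← D.map_comp, hb m]
  simpa only [h2] using h1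

include hc in
/-- Finitely many functions on the preimages of quasi-compact opens of a stage come from a common
further stage. -/
theorem exists_pl_eq_finite [∀ j, QuasiSeparatedSpace (D.obj j)] {κ : Type*} [Finite κ] {i : I}
    (U : κ → (D.obj i).Opens) (hU : ∀ m, IsCompact (U m : Set (D.obj i)))
    (s : ∀ m, Γ(c.pt, c.π.app i ⁻¹ᵁ U m)) :
    ∃ (j : I) (a : j ⟶ i) (t : ∀ m, Γ(D.obj j, D.map a ⁻¹ᵁ U m)),
      ∀ m, pl (c.π.app j) (D.map a ⁻¹ᵁ U m) (c.π.app i ⁻¹ᵁ U m) (π_preimage D c a (U m)).ge (t m) =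
        s m := by
  choose j a t ht using fun m => exists_pl_eq_of_isCompact D c hc (U m) (hU m) (s m)
  obtain ⟨k, p, b, hb⟩ := exists_common j a
  refine ⟨k, p, fun m => pl (D.map (b m)) (D.map (a m) ⁻¹ᵁ U m) (D.map p ⁻¹ᵁ U m)
    (le_of_eq (by rw [← hb m, D.map_comp]; rfl)) (t m), fun m => ?_⟩
  rw [pl_pl]
  have h2 : c.π.app k ≫ D.map (b m) = c.π.app (j m) := c.w _
  simpa only [h2] using ht m

set_option backward.isDefEq.respectTransparency false in
include hc in
/-- A cocycle on the limit, with finitely many affine opens, comes from a stage. -/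
theorem exists_coc [∀ j, CompactSpace (D.obj j)] [∀ j, QuasiSeparatedSpace (D.obj j)] {n : ℕ}
    (C : Coc c.pt (_root_.Fin n)) (hC : ∀ i, IsAffineOpen (C.W i)) :
    ∃ (j : I) (C' : Coc (D.obj j) (_root_.Fin n)) (hW : ∀ x, c.π.app j ⁻¹ᵁ C'.W x = C.W x),
      (∀ x, IsAffineOpen (C'.W x)) ∧
      ∀ x y, (C'.pull (c.π.app j)).u x y = res (inf_le_inf (hW x).le (hW y).le) (C.u x y) := by
  obtain ⟨i, V, hV, hV'⟩ := Scheme.exists_isOpenCover_and_isAffine_of_finite D c hc C.W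
    (Triv.iSup_W C) hC
  have hcomp : ∀ x y, IsCompact ((V x ⊓ V y : (D.obj i).Opens) : Set (D.obj i)) := fun x y =>
    ((hV' x).1.isCompact.inter_of_isOpen (hV' y).1.isCompact (V x).2 (V y).2)
  obtain ⟨k, p, t, ht⟩ := exists_pl_eq_finite D c hc
    (U := fun x : _root_.Fin n × _root_.Fin n => V x.1 ⊓ V x.2) (fun x => hcomp x.1 x.2)
    (fun x => res (inf_le_inf (hV' x.1).2.ge (hV' x.2).2.ge) (C.u x.1 x.2))
  -- the opens at stage `k`
  let V' : _root_.Fin n → (D.obj k).Opens := fun x => D.map p ⁻¹ᵁ V x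
  have hV'a : ∀ x, IsAffineOpen (V' x) := fun x => (hV' x).1.preimage _
  have hV'W : ∀ x, c.π.app k ⁻¹ᵁ V' x = C.W x := fun x =>
    (π_preimage D c p (V x)).trans (hV' x).2.symm
  let g : ∀ x y, Γ(D.obj k, V' x ⊓ V' y) := fun x y => t (x, y)
  have hg : ∀ (x y) (W : c.pt.Opens) (h : W ≤ c.π.app k ⁻¹ᵁ (V' x ⊓ V' y)) (hx : W ≤ C.W x)
      (hy : W ≤ C.W y), pl (c.π.app k) (V' x ⊓ V' y) W h (g x y) = C.t x y W hx hy := by
    intro x y W h hx hy
    have h1 := congrArg (res (show W ≤ c.π.app i ⁻¹ᵁ (V x ⊓ V y) from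
      (le_inf hx hy).trans (inf_le_inf (hV' x).2.le (hV' y).2.le))) (ht (x, y))
    exact (res_pl _ _ _ _).symm.trans (h1.trans (res_res _ _ _))
  obtain ⟨j, a, ha⟩ := exists_pl_eq_pl_finite D c hc
    (κ := _root_.Fin n ⊕ (_root_.Fin n × _root_.Fin n × _root_.Fin n)) (i := k)
    (U := Sum.elim (fun x => V' x ⊓ V' x) (fun x => V' x.1 ⊓ V' x.2.1 ⊓ V' x.2.2))
    (by
      rintro (x | x)
      · exact (hV'a x).isCompact.inter_of_isOpen (hV'a x).isCompact (V' x).2 (V' x).2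
      · exact (((hV'a _).isCompact.inter_of_isOpen (hV'a _).isCompact (V' _).2 (V' _).2)).inter_of_isOpen
          (hV'a _).isCompact ((V' _ ⊓ V' _).2) (V' _).2)
    (fun m => match m with
      | .inl x => g x x
      | .inr x => res (le_inf (inf_le_left.trans inf_le_left) (inf_le_left.trans inf_le_right))
          (g x.1 x.2.1) * res (le_inf (inf_le_left.trans inf_le_right) inf_le_right) (g x.2.1 x.2.2))
    (fun m => match m with
      | .inl x => 1
      | .inr x => res (le_inf (inf_le_left.trans inf_le_left) inf_le_right) (g x.1 x.2.2))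
    (by
      rintro (x | ⟨x, y, z⟩)
      · change pl (c.π.app k) (V' x ⊓ V' x) _ le_rfl (g x x) = pl (c.π.app k) _ _ _ 1
        rw [hg x x _ le_rfl (((c.π.app k).preimage_mono inf_le_left).trans (hV'W x).le)
          (((c.π.app k).preimage_mono inf_le_left).trans (hV'W x).le), Coc.t_self, map_one]
      · change pl (c.π.app k) (V' x ⊓ V' y ⊓ V' z) (c.π.app k ⁻¹ᵁ (V' x ⊓ V' y ⊓ V' z)) le_rfl
            (res _ (g x y) * res _ (g y z)) =
          pl (c.π.app k) (V' x ⊓ V' y ⊓ V' z) (c.π.app k ⁻¹ᵁ (V' x ⊓ V' y ⊓ V' z)) le_rfl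
            (res _ (g x z))
        have hx : c.π.app k ⁻¹ᵁ (V' x ⊓ V' y ⊓ V' z) ≤ C.W x :=
          ((c.π.app k).preimage_mono (inf_le_left.trans inf_le_left)).trans (hV'W x).le
        have hy : c.π.app k ⁻¹ᵁ (V' x ⊓ V' y ⊓ V' z) ≤ C.W y :=
          ((c.π.app k).preimage_mono (inf_le_left.trans inf_le_right)).trans (hV'W y).le
        have hz : c.π.app k ⁻¹ᵁ (V' x ⊓ V' y ⊓ V' z) ≤ C.W z :=
          ((c.π.app k).preimage_mono inf_le_right).trans (hV'W z).le
        rw [map_mul, pl_res, pl_res, pl_res, hg x y _ _ hx hy, hg y z _ _ hy hz, hg x z _ _ hx hz,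
          C.t_mul])
  have ha1 : ∀ x, pl (D.map a) (V' x ⊓ V' x) (D.map a ⁻¹ᵁ V' x ⊓ D.map a ⁻¹ᵁ V' x) le_rfl (g x x) = 1 :=
    fun x => (ha (.inl x)).trans (map_one _)
  have ha2 : ∀ x y z (W : (D.obj j).Opens) (hx : W ≤ D.map a ⁻¹ᵁ V' x) (hy : W ≤ D.map a ⁻¹ᵁ V' y)
      (hz : W ≤ D.map a ⁻¹ᵁ V' z),
      pl (D.map a) (V' x ⊓ V' y) W (le_inf hx hy) (g x y) *
        pl (D.map a) (V' y ⊓ V' z) W (le_inf hy hz) (g y z) =
      pl (D.map a) (V' x ⊓ V' z) W (le_inf hx hz) (g x z) := by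
    intro x y z W hx hy hz
    have h1 := ha (.inr (x, y, z))
    change pl (D.map a) (V' x ⊓ V' y ⊓ V' z) (D.map a ⁻¹ᵁ (V' x ⊓ V' y ⊓ V' z)) le_rfl
            (res _ (g x y) * res _ (g y z)) =
          pl (D.map a) (V' x ⊓ V' y ⊓ V' z) (D.map a ⁻¹ᵁ (V' x ⊓ V' y ⊓ V' z)) le_rfl
            (res _ (g x z)) at h1
    have h2 := congrArg (res (show W ≤ D.map a ⁻¹ᵁ (V' x ⊓ V' y ⊓ V' z) from
      le_inf (le_inf hx hy) hz)) h1
    simpa only [map_mul, pl_res, res_pl] using h2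
  refine ⟨j, ⟨fun x => D.map a ⁻¹ᵁ V' x, fun x => ?_, fun x y =>
    pl (D.map a) (V' x ⊓ V' y) (D.map a ⁻¹ᵁ V' x ⊓ D.map a ⁻¹ᵁ V' y) le_rfl (g x y), ha1, ?_⟩,
    fun x => (π_preimage D c a (V' x)).trans (hV'W x), fun x => (hV'a x).preimage _, ?_⟩
  · have := hV.exists_mem (D.map p (D.map a x))
    exact this
  · intro x y z W hx hy hz
    rw [res_pl, res_pl, res_pl]
    exact ha2 x y z W hx hy hz
  · intro x y
    change pl (c.π.app j) _ _ _ (pl (D.map a) _ _ _ (g x y)) = _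
    rw [pl_pl]
    have h2 : c.π.app j ≫ D.map a = c.π.app k := c.w _
    simp only [h2]
    exact hg x y _ _
      (inf_le_left.trans ((π_preimage D c a (V' x)).le.trans (hV'W x).le))
      (inf_le_right.trans ((π_preimage D c a (V' y)).le.trans (hV'W y).le))

include hc in
/-- **Stacks 0B8W, existence**: an invertible module on a cofiltered limit of qcqs schemes with
affine transition maps is the pullback of an invertible module on some stage. -/
theorem exists_pullback_iso [∀ j, CompactSpace (D.obj j)] [∀ j, QuasiSeparatedSpace (D.obj j)]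
    (L : c.pt.Modules) (hL : PicF.IsInvertible L) :
    ∃ (j : I) (N : (D.obj j).Modules), PicF.IsInvertible N ∧
      Nonempty ((Scheme.Modules.pullback (c.π.app j)).obj N ≅ L) := by
  have := Scheme.compactSpace_of_isLimit D c hc
  obtain ⟨n, C, hCa, -, ⟨T⟩⟩ := exists_triv_affine L hL (fun _ : Unit => ⊤) (fun x => ⟨(), trivial⟩)
  obtain ⟨j, C', hW, -, hu⟩ := exists_coc D c hc C hCa
  let C'' : Coc (D.obj j) (ULift.{u} (_root_.Fin n)) :=
    { W := fun x => C'.W x.down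
      cov := fun x => (C'.cov x).elim fun y hy => ⟨⟨y⟩, hy⟩
      u := fun x y => C'.u x.down y.down
      u_self := fun x => C'.u_self x.down
      cocycle := fun x y z => C'.cocycle x.down y.down z.down }
  obtain ⟨N, hN, ⟨T''⟩⟩ := exists_triv_of_coc C''
  let T' : Triv N C' := ⟨fun i => T''.e ⟨i⟩, fun i => T''.gen ⟨i⟩, fun x y => T''.compat ⟨x⟩ ⟨y⟩⟩
  obtain ⟨φ⟩ := nonempty_iso_of_triv T (T'.pullback (c.π.app j)) (fun x => (hW x).le)
    (fun x y => (hu x y).symm)
  exact ⟨j, N, hN, ⟨φ.symm⟩⟩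

include hc in
/-- **Stacks 0B8W, uniqueness**: two invertible modules on a stage with isomorphic pullbacks to the
limit have isomorphic pullbacks to a further stage. -/
theorem exists_iso_of_pullback_iso {i : I} [CompactSpace (D.obj i)]
    [∀ j, QuasiSeparatedSpace (D.obj j)] (L L' : (D.obj i).Modules) (hL : PicF.IsInvertible L)
    (hL' : PicF.IsInvertible L') (φ : (Scheme.Modules.pullback (c.π.app i)).obj L ≅
      (Scheme.Modules.pullback (c.π.app i)).obj L') :
    ∃ (j : I) (a : j ⟶ i), Nonempty ((Scheme.Modules.pullback (D.map a)).obj L ≅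
      (Scheme.Modules.pullback (D.map a)).obj L') := by
  obtain ⟨n, C₀, -, -, ⟨T₀⟩⟩ := exists_triv_affine L hL (fun _ : Unit => ⊤)
    (fun x => ⟨(), trivial⟩)
  obtain ⟨m, C', hC'a, hC'le, ⟨T'⟩⟩ := exists_triv_affine L' hL' C₀.W C₀.cov
  choose κ hκ using hC'le
  obtain ⟨C, hCW, ⟨T⟩⟩ := exists_triv L C'.W C'.cov
    (fun x => Groth.Agent.Fdesc.LocGen.res L (hκ x) (T₀.e (κ x))) (fun x => (T₀.gen _).res _)
  have hW : ∀ x, C.W x = C'.W x := fun x => congrFun hCW x
  have hCa : ∀ x, IsAffineOpen (C.W x) := fun x => by rw [hW]; exact hC'a x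
  obtain ⟨t, ht, htu⟩ : ∃ t : ∀ x, Γ(c.pt, c.π.app i ⁻¹ᵁ C.W x), (∀ x, IsUnit (t x)) ∧
      ∀ (x y) (W : c.pt.Opens) (hx : W ≤ c.π.app i ⁻¹ᵁ C.W x) (hy : W ≤ c.π.app i ⁻¹ᵁ C.W y)
        (h : W ≤ c.π.app i ⁻¹ᵁ (C'.W x ⊓ C'.W y)),
        res hy (t y) * pl (X' := c.pt) (c.π.app i) (C'.W x ⊓ C'.W y) W h (C'.u x y) =
          pl (X' := c.pt) (c.π.app i) (C.W x ⊓ C.W y) W (le_inf hx hy) (C.u x y) *
            res hx (t x) := by
    obtain ⟨t, ht, htu⟩ := exists_units_of_iso (T.pullback (c.π.app i)) (T'.pullback (c.π.app i))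
      (fun x => (c.π.app i).preimage_mono (hW x).le) φ
    refine ⟨t, ht, fun x y W hx hy h => ?_⟩
    have h1 := congrArg (res (show W ≤ (C.pull (c.π.app i)).W x ⊓ (C.pull (c.π.app i)).W y from
      le_inf hx hy)) (htu x y)
    rw [map_mul, map_mul, res_res, res_res, res_res] at h1
    refine Eq.trans ?_ (h1.trans ?_)
    · congr 1
      exact (res_pl _ _ _ _).symm
    · congr 1
      exact res_pl _ _ _ _
  choose t' ht' using fun x => (ht x).exists_right_inv
  obtain ⟨k, p, s, hs⟩ := exists_pl_eq_finite D c hc (κ := _root_.Fin m ⊕ _root_.Fin m)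
    (U := Sum.elim C.W C.W) (by rintro (x | x) <;> exact (hCa x).isCompact)
    (fun x => match x with
      | .inl x => t x
      | .inr x => t' x)
  let A : _root_.Fin m → (D.obj k).Opens := fun x => D.map p ⁻¹ᵁ C.W x
  have hAa : ∀ x, IsAffineOpen (A x) := fun x => (hCa x).preimage (D.map p)
  let f : ∀ x, Γ(D.obj k, A x) := fun x => s (.inl x)
  let f' : ∀ x, Γ(D.obj k, A x) := fun x => s (.inr x)
  have hWk : ∀ x, c.π.app k ⁻¹ᵁ (A x) = c.π.app i ⁻¹ᵁ C.W x := fun x =>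
    π_preimage D c p (C.W x)
  have hf : ∀ x (W : c.pt.Opens) (h : W ≤ c.π.app k ⁻¹ᵁ (A x))
      (h' : W ≤ c.π.app i ⁻¹ᵁ C.W x),
      (pl (c.π.app k) (A x) W h (f x) : Γ(c.pt, W)) = res h' (t x) := by
    intro x W h h'
    exact (res_pl _ _ _ _).symm.trans (congrArg (res h') (hs (.inl x)))
  have hf' : ∀ x (W : c.pt.Opens) (h : W ≤ c.π.app k ⁻¹ᵁ (A x))
      (h' : W ≤ c.π.app i ⁻¹ᵁ C.W x),
      (pl (c.π.app k) (A x) W h (f' x) : Γ(c.pt, W)) = res h' (t' x) := by
    intro x W h h'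
    exact (res_pl _ _ _ _).symm.trans (congrArg (res h') (hs (.inr x)))
  have hcw : c.π.app k ≫ D.map p = c.π.app i := c.w _
  have hle : ∀ x y, A x ⊓ A y ≤ D.map p ⁻¹ᵁ (C.W x ⊓ C.W y) := fun x y => le_rfl
  have hle' : ∀ x y, A x ⊓ A y ≤ D.map p ⁻¹ᵁ (C'.W x ⊓ C'.W y) := fun x y =>
    (D.map p).preimage_mono (inf_le_inf (hW x).le (hW y).le)
  obtain ⟨j, a, ha⟩ := exists_pl_eq_pl_finite D c hc (κ := _root_.Fin m) (i := k) (U := A)
    (fun x => (hAa x).isCompact) (fun x => f x * f' x) (fun x => 1) (by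
      intro x
      rw [map_mul, map_one]
      refine Eq.trans ?_ ((congrArg (res (hWk x).le) (ht' x)).trans (map_one _))
      refine Eq.trans ?_ (map_mul _ _ _).symm
      congr 1
      · exact hf x _ le_rfl (hWk x).le
      · exact hf' x _ le_rfl (hWk x).le)
  obtain ⟨j', a', ha'⟩ := exists_pl_eq_pl_finite D c hc
    (κ := _root_.Fin m × _root_.Fin m) (i := k) (U := fun x => A x.1 ⊓ A x.2)
    (fun x => (hAa _).isCompact.inter_of_isOpen (hAa _).isCompact (A _).2 (A _).2)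
    (fun x => res inf_le_right (f x.2) *
      pl (D.map p) (C'.W x.1 ⊓ C'.W x.2) (A x.1 ⊓ A x.2) (hle' x.1 x.2) (C'.u x.1 x.2))
    (fun x => pl (D.map p) (C.W x.1 ⊓ C.W x.2) (A x.1 ⊓ A x.2) (hle x.1 x.2) (C.u x.1 x.2) *
      res inf_le_left (f x.1))
    (by
      rintro ⟨x, y⟩
      dsimp only
      have hx : c.π.app k ⁻¹ᵁ (A x ⊓ A y) ≤ c.π.app i ⁻¹ᵁ C.W x :=
        ((c.π.app k).preimage_mono inf_le_left).trans (hWk x).le
      have hy : c.π.app k ⁻¹ᵁ (A x ⊓ A y) ≤ c.π.app i ⁻¹ᵁ C.W y :=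
        ((c.π.app k).preimage_mono inf_le_right).trans (hWk y).le
      rw [map_mul, map_mul, pl_res, pl_res, pl_pl, pl_pl]
      simp only [hcw]
      refine Eq.trans ?_ ((htu x y _ hx hy ((le_inf hx hy).trans
        ((c.π.app i).preimage_mono (inf_le_inf (hW x).le (hW y).le)))).trans ?_)
      · congr 1
        exact hf y _ _ hy
      · congr 1
        exact (hf x _ _ hx).symm)
  obtain ⟨l, q, b, hb⟩ := exists_common (κ := Bool) (fun x => bif x then j else j')
    (fun x => match x with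
      | true => a
      | false => a')
  have hb1 : b true ≫ a = q := hb true
  have hb2 : b false ≫ a' = q := hb false
  refine ⟨l, q ≫ p, ?_⟩
  rw [D.map_comp]
  refine nonempty_iso_of_units (T.pullback (D.map q ≫ D.map p)) (T'.pullback (D.map q ≫ D.map p))
    (fun x => (D.map q ≫ D.map p).preimage_mono (hW x).le)
    (fun x => pl (D.map q) (A x) (D.map q ⁻¹ᵁ A x) le_rfl (f x))
    (fun x => ?_) (fun x y => ?_)
  · have h1 := congrArg (pl (D.map (b true)) (D.map a ⁻¹ᵁ A x) (D.map q ⁻¹ᵁ A x)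
      (le_of_eq (by rw [← hb1, D.map_comp]; rfl))) (ha x)
    rw [pl_pl, pl_pl] at h1
    have h2 : D.map (b true) ≫ D.map a = D.map q := by rw [← D.map_comp, hb1]
    simp only [h2] at h1
    rw [map_mul, map_one] at h1
    exact IsUnit.of_mul_eq_one _ h1
  · have h1 := congrArg (pl (D.map (b false)) (D.map a' ⁻¹ᵁ (A x ⊓ A y)) (D.map q ⁻¹ᵁ (A x ⊓ A y))
      (le_of_eq (by rw [← hb2, D.map_comp]; rfl))) (ha' (x, y))
    rw [pl_pl, pl_pl] at h1
    have h2 : D.map (b false) ≫ D.map a' = D.map q := by rw [← D.map_comp, hb2]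
    simp only [h2] at h1
    rw [map_mul, map_mul, pl_res, pl_res, pl_pl, pl_pl] at h1
    refine Eq.trans ?_ (h1.trans ?_)
    · congr 1
      · exact res_pl _ _ _ _
      · exact res_pl _ _ _ _
    · congr 1
      exact (res_pl _ _ _ _).symm

end

end Groth.Agent.VarietyA.PicLimit
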