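import Groth.Agent.VarietyA.PicLimit
import Groth.Agent.Pi1A.FGLimit

/-!
# Invertible modules on a base change descend to a finitely generated subalgebra

`X` qcqs over `Spec R`, `S` an `R`-algebra: an invertible module on `X ×_R S` is the pullback of an
invertible module on `X ×_R S'` for a finitely generated `R`-subalgebra `S'` of `S`
(`exists_adjoin_pullback_iso`, `exists_fg_pullback_iso`), and two invertible modules on `X ×_R S'`
which become isomorphic over `S` become isomorphic over a larger finitely generated subalgebra
(`exists_adjoin_iso`).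
-/

set_option autoImplicit false

universe u

open CategoryTheory Limits AlgebraicGeometry TopologicalSpace
open Groth.Agent.Pi1A.FGLimit

namespace Groth.Agent.VarietyA.PicLimitAlg

variable {R S : Type u} [CommRing R] [CommRing S] [Algebra R S]

/-- The map on base changes of `f : X ⟶ Spec R` attached to an algebra homomorphism. -/
noncomputable abbrev bcMap {A B : Type u} [CommRing A] [CommRing B] [Algebra R A] [Algebra R B]
    {X : Scheme.{u}} (f : X ⟶ Spec (CommRingCat.of R)) (φ : A →ₐ[R] B) :
    pullback f (toBase R B) ⟶ pullback f (toBase R A) :=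
  pullback.lift (pullback.fst _ _) (pullback.snd _ _ ≫ Spec.map (CommRingCat.ofHom φ.toRingHom)) (by
    have h : CommRingCat.ofHom (algebraMap R B) =
        CommRingCat.ofHom (algebraMap R A) ≫ CommRingCat.ofHom φ.toRingHom := by
      ext x
      exact (φ.commutes x).symm
    rw [Category.assoc, pullback.condition]
    unfold toBase
    rw [h, Spec.map_comp])

/-- An invertible module on `X ×_R S` is the pullback of an invertible module on `X ×_R S'`, `S'`
a finitely generated subalgebra of `S`. -/
theorem exists_adjoin_pullback_iso {X : Scheme.{u}} (f : X ⟶ Spec (CommRingCat.of R))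
    [QuasiCompact f] [QuasiSeparated f] (L : (pullback f (toBase R S)).Modules)
    (hL : PicF.IsInvertible L) :
    ∃ (F : Finset S) (N : (pullback f (toBase R (Algebra.adjoin R (F : Set S)))).Modules),
      PicF.IsInvertible N ∧ Nonempty ((Scheme.Modules.pullback
        (bcMap f (Algebra.adjoin R (F : Set S)).val)).obj N ≅ L) := by
  obtain ⟨F, N, hN, ⟨φ⟩⟩ := PicLimit.exists_pullback_iso (diag R S f) (cone R S f) (isLimit R S f) L hL
  exact ⟨F.unop, N, hN, ⟨φ⟩⟩

/-- Two invertible modules on `X ×_R S'`, `S'` a finitely generated subalgebra of `S`, which become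
isomorphic on `X ×_R S`, become isomorphic over a larger finitely generated subalgebra. -/
theorem exists_adjoin_iso {X : Scheme.{u}} (f : X ⟶ Spec (CommRingCat.of R))
    [QuasiCompact f] [QuasiSeparated f] (F : Finset S)
    (N N' : (pullback f (toBase R (Algebra.adjoin R (F : Set S)))).Modules)
    (hN : PicF.IsInvertible N) (hN' : PicF.IsInvertible N')
    (φ : (Scheme.Modules.pullback (bcMap f (Algebra.adjoin R (F : Set S)).val)).obj N ≅
      (Scheme.Modules.pullback (bcMap f (Algebra.adjoin R (F : Set S)).val)).obj N') :
    ∃ (G : Finset S) (h : Algebra.adjoin R (F : Set S) ≤ Algebra.adjoin R (G : Set S)),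
      F ⊆ G ∧ Nonempty ((Scheme.Modules.pullback (bcMap f (Subalgebra.inclusion h))).obj N ≅
      (Scheme.Modules.pullback (bcMap f (Subalgebra.inclusion h))).obj N') := by
  obtain ⟨G, a, ⟨ψ⟩⟩ := PicLimit.exists_iso_of_pullback_iso (diag R S f) (cone R S f)
    (isLimit R S f) (i := Opposite.op F) N N' hN hN' φ
  exact ⟨G.unop, Algebra.adjoin_mono (by exact_mod_cast leOfHom a.unop), leOfHom a.unop, ⟨ψ⟩⟩

end Groth.Agent.VarietyA.PicLimitAlg
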