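import Groth.Agent.CurvesB.Pairing
import Groth.Agent.Fdesc.LocGenGlue

/-!
# The pairing `H^0(N) × H^n(F) → H^n(F ⊗ N)` and a dimension estimate

* `mulSec F m : F ⟶ F ⊗ N`, `f ↦ f ⊗ m`, for a global section `m` of `N`;
* `finrank_H0_le`: if `mulSec F m` is surjective on `H^n` for every nonzero `m` and
  `H^n(X, F ⊗ N) ≠ 0` then `dim H^0(X, N) ≤ dim H^n(X, F)`.
-/

set_option autoImplicit false
universe u
open CategoryTheory CategoryTheory.Limits AlgebraicGeometry Opposite
open Groth.Agent.CohqB.ToSheafExact Groth.Agent.CohqB.HSeqMod Groth.Agent.CurvesB.HZero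
open Groth.Agent.CurvesB.Pairing Groth.Agent.Fdesc

namespace Groth.Agent.VarietyA.TensPairing

variable {X : Scheme.{u}}

/-- `f ↦ f ⊗ m` for a global section `m` of `N`. -/
noncomputable def mulSec (F : X.Modules) {N : X.Modules} (m : Γ(N, ⊤)) : F ⟶ CohB1.tensorMod F N :=
  LocGen.mkHom
    (fun U =>
      { toFun := fun f => LocGen.tmul f (LocGen.res N (le_top : U ≤ ⊤) m)
        map_zero' := by
          have := LocGen.add_tmul (0 : Γ(F, U)) 0 (LocGen.res N (le_top : U ≤ ⊤) m)
          simpa using this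
        map_add' := fun f g => LocGen.add_tmul f g _ })
    (fun U a f => LocGen.smul_tmul a f _)
    (fun U V h f => by
      change LocGen.tmul (LocGen.res F h f) (LocGen.res N (le_top : V ≤ ⊤) m) =
        LocGen.res _ h (LocGen.tmul f (LocGen.res N (le_top : U ≤ ⊤) m))
      rw [LocGen.res_tmul, LocGen.res_res])

theorem mulSec_app (F : X.Modules) {N : X.Modules} (m : Γ(N, ⊤)) (U : X.Opens) (f : Γ(F, U)) :
    (mulSec F m).app U f = LocGen.tmul f (LocGen.res N (le_top : U ≤ ⊤) m) := rfl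

theorem mulSec_add (F : X.Modules) {N : X.Modules} (m m' : Γ(N, ⊤)) :
    mulSec F (m + m') = mulSec F m + mulSec F m' := by
  apply Scheme.Modules.hom_ext
  intro U
  ext f
  change LocGen.tmul f (LocGen.res N (le_top : U ≤ ⊤) (m + m')) =
    LocGen.tmul f (LocGen.res N (le_top : U ≤ ⊤) m) + LocGen.tmul f (LocGen.res N (le_top : U ≤ ⊤) m')
  rw [map_add, LocGen.tmul_add]

theorem toSheaf_mulSec_smul (F : X.Modules) {N : X.Modules} (r : Γ(X, ⊤)) (m : Γ(N, ⊤)) :
    (toAbF X).map (mulSec F (r • m)) = (toAbF X).map (mulSec F m) ≫ Coh.smulAb (CohB1.tensorMod F N) r := by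
  ext U f
  change LocGen.tmul (U := U.unop) f (LocGen.res N (le_top : U.unop ≤ ⊤) (r • m)) =
    LocGen.ores (le_top : U.unop ≤ ⊤) r • LocGen.tmul (U := U.unop) f (LocGen.res N (le_top : U.unop ≤ ⊤) m)
  rw [LocGen.res_smul, LocGen.tmul_smul]

theorem hmap_mulSec_smul (F : X.Modules) {N : X.Modules} (r : Γ(X, ⊤)) (m : Γ(N, ⊤)) (n : ℕ)
    (x : Coh.HH X F n) :
    hmap (mulSec F (r • m)) n x = (show Coh.Γtop X from r) • hmap (mulSec F m) n x :=
  (congrArg (fun g => Sheaf.H.map g n x) (toSheaf_mulSec_smul F r m)).trans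
    (Sheaf.H.map_comp_apply _ _ _)

section Over

variable (k : Type u) [CommRing k] [X.Over (Spec (CommRingCat.of k))]

/-- The pairing: a global section `x` of `N` gives a map `H^n(F) → H^n(F ⊗ N)`, linearly in `x`. -/
noncomputable def pairing (F N : X.Modules) (n : ℕ) :
    Coh.HH X N 0 →ₗ[k] (Coh.HH X F n →ₗ[k] Coh.HH X (CohB1.tensorMod F N) n) where
  toFun x := hmapₗ k (mulSec F (equivAdd N x)) n
  map_add' x y := by
    ext z
    rw [map_add, mulSec_add]
    exact hmap_add_apply _ _ _ _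
  map_smul' c x := by
    ext z
    have h : equivAdd N (c • x) = (gl k X c) • equivAdd N x := equivAdd_smul_over N c x
    rw [hmapₗ_apply, h, hmap_mulSec_smul]
    rfl

end Over

/-- If `mulSec F m` is surjective on `H^n` for every nonzero global section `m` of `N` and
`H^n(X, F ⊗ N) ≠ 0` then `dim H^0(X, N) ≤ dim H^n(X, F)`. -/
theorem finrank_H0_le (k : Type u) [Field k] (X : Scheme.{u}) [X.Over (Spec (CommRingCat.of k))]
    (F N : X.Modules) (n : ℕ) [Module.Finite k (Coh.HH X F n)]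
    (hne : Nontrivial (Coh.HH X (CohB1.tensorMod F N) n))
    (hs : ∀ m : Γ(N, ⊤), m ≠ 0 → Function.Surjective (hmap (mulSec F m) n)) :
    Module.Finite k (Coh.HH X N 0) ∧
    Module.finrank k (Coh.HH X N 0) ≤ Module.finrank k (Coh.HH X F n) := by
  obtain ⟨y, hy⟩ := exists_ne (0 : Coh.HH X (CohB1.tensorMod F N) n)
  obtain ⟨φ, hφ⟩ : ∃ φ : Module.Dual k (Coh.HH X (CohB1.tensorMod F N) n), φ y ≠ 0 := by
    by_contra h
    push Not at h
    exact hy ((Module.forall_dual_apply_eq_zero_iff k y).1 h)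
  let Θ : Coh.HH X N 0 →ₗ[k] Module.Dual k (Coh.HH X F n) :=
    (LinearMap.llcomp k _ _ _ φ).comp (pairing k F N n)
  have hΘ : Function.Injective Θ := by
    rw [← LinearMap.ker_eq_bot, LinearMap.ker_eq_bot']
    intro x hx
    by_contra hx0
    obtain ⟨z, hz⟩ := hs _ ((map_ne_zero_iff _ (equivAdd N).injective).2 hx0) y
    apply hφ
    have := congr($hx z)
    rw [← hz]
    exact this
  exact ⟨Module.Finite.of_injective Θ hΘ,
    (LinearMap.finrank_le_finrank_of_injective hΘ).trans_eq Subspace.dual_finrank_eq⟩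

end Groth.Agent.VarietyA.TensPairing
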